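import Cfsg.Agent.BrauerPairs.Pairs

/-!
# The principal block idempotent and Brauer's third main theorem
-/

namespace CfsgLib.BrauerPairs

variable {p : ℕ} [hp : Fact p.Prime] {k : Type*} [Field k] [hk : CharP k p]
  {G : Type*} [Group G] [Fintype G]

local notation "C[" Q "]" => Subgroup.centralizer (SetLike.coe Q)

variable (k) in
/-- The augmentation. -/
noncomputable def aug : MonoidAlgebra k G →ₐ[k] k := MonoidAlgebra.lift k k G 1

omit hp hk in
theorem aug_apply (a : MonoidAlgebra k G) : aug k a = ∑ g : G, a.coeff g := by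
  simp [aug, MonoidAlgebra.lift_apply, Finsupp.sum_fintype]

omit hp hk in
theorem aug_cj (x : G) (a : MonoidAlgebra k G) : aug k (cj k x a) = aug k a := by
  rw [aug_apply, aug_apply]
  exact Fintype.sum_equiv (MulAut.conj x⁻¹).toEquiv _ _ fun g => by simp

theorem aug_br {P : Subgroup G} (hP : IsPGroup p P) {a : MonoidAlgebra k G} (ha : FixBy P a) :
    aug k (br P a) = aug k a := by
  classical
  let _ : MulAction P G :=
    { smul := fun u g => (u : G) * g * (u : G)⁻¹
      one_smul := fun g => show ((1 : P) : G) * g * ((1 : P) : G)⁻¹ = g by simp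
      mul_smul := fun u v g => show ((u * v : P) : G) * g * ((u * v : P) : G)⁻¹ =
        (u : G) * ((v : G) * g * (v : G)⁻¹) * (u : G)⁻¹ by simp [mul_assoc] }
  rw [aug_apply, aug_apply, sum_eq_sum_fixed hP (fun g => a.coeff g) fun u g => by
    show a.coeff ((u : G) * g * (u : G)⁻¹) = a.coeff g
    simpa using ha.coeff_eq (P.inv_mem u.2) g]
  have hs : (MulAction.fixedPoints P G).toFinset = Finset.univ.filter (· ∈ C[P]) := by
    ext g
    simp only [Set.mem_toFinset, MulAction.mem_fixedPoints, Finset.mem_filter, Finset.mem_univ,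
      true_and, Subgroup.mem_centralizer_iff, SetLike.mem_coe]
    constructor
    · intro h u hu
      exact mul_inv_eq_iff_eq_mul.mp (h ⟨u, hu⟩)
    · intro h u
      exact mul_inv_eq_iff_eq_mul.mpr (h u u.2)
  rw [hs, Finset.sum_filter]
  exact Finset.sum_congr rfl fun g _ => coeff_br a g

variable {H : Subgroup G}

omit hp hk in
theorem exists_isBlk_aug (k : Type*) [Field k] (H : Subgroup G) :
    ∃ e, IsBlk k H e ∧ aug k e = 1 := by
  have hS := alg_comm (k := k) (le_refl H)
  have h1 : ∑ e ∈ primFinset hS, aug k e = 1 := by rw [← map_sum, sum_primFinset hS, map_one]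
  obtain ⟨e, he, hne⟩ := Finset.exists_ne_zero_of_sum_ne_zero (h1.trans_ne one_ne_zero)
  refine ⟨e, (mem_primFinset hS).mp he, mul_left_cancel₀ hne ?_⟩
  rw [mul_one, ← map_mul, ((mem_primFinset hS).mp he).idem]

/-- The principal block idempotent of a subgroup. -/
noncomputable def prin (k : Type*) [Field k] (H : Subgroup G) : MonoidAlgebra k G :=
  (exists_isBlk_aug k H).choose

omit hp hk in
theorem isBlk_prin (H : Subgroup G) : IsBlk k H (prin k H) := (exists_isBlk_aug k H).choose_spec.1

omit hp hk in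
theorem aug_prin (H : Subgroup G) : aug k (prin k H) = 1 := (exists_isBlk_aug k H).choose_spec.2

omit hp hk in
theorem IsBlk.eq_prin_of_aug {e : MonoidAlgebra k G} (he : IsBlk k H e) (h : aug k e ≠ 0) :
    e = prin k H := by
  by_contra hne
  have h0 := he.mul_eq_zero_of_ne (alg_comm (k := k) (le_refl H)) (isBlk_prin H) hne
  apply h
  have := congrArg (aug k) h0
  rwa [map_mul, aug_prin, mul_one, map_zero] at this

omit hp hk in
theorem IsBlk.eq_prin_iff {e : MonoidAlgebra k G} (he : IsBlk k H e) :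
    e = prin k H ↔ aug k e = 1 :=
  ⟨fun h => h ▸ aug_prin H, fun h => he.eq_prin_of_aug (by rw [h]; exact one_ne_zero)⟩

omit hp hk in
theorem cj_prin {x : G} (hx : x ∈ Subgroup.normalizer (H : Set G)) :
    cj k x (prin k H) = prin k H :=
  ((isBlk_prin H).cj_of_mem hx).eq_prin_iff.mpr (by rw [aug_cj, aug_prin])

theorem nstep_prin {Q P : Subgroup G} (hP : IsPGroup p P) (hQP : Q ≤ P)
    (hPN : P ≤ Subgroup.normalizer (Q : Set G)) :
    NStep p (Q, prin k C[Q]) (P, prin k C[P]) := by
  have hfix : FixBy P (prin k C[Q]) := fun x hx => cj_prin ((hPN.trans map_normalizer_centralizer) hx)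
  refine ⟨⟨hP.to_le hQP, isBlk_prin _⟩, ⟨hP, isBlk_prin _⟩, hQP, hPN, hfix, ?_⟩
  have hmem := br_mem_alg (k := k) hQP (isBlk_prin (k := k) C[Q]).mem
  show br P (prin k C[Q]) * prin k C[P] = prin k C[P]
  rw [alg_comm (k := k) (le_refl C[P]) _ hmem _ (isBlk_prin C[P]).mem]
  rcases (isBlk_prin (k := k) C[P]).mul_eq_zero_or hmem
      (br_idem hP (isBlk_prin C[Q]).idem hfix) with h | h
  · have := congrArg (aug k) h
    rw [map_mul, aug_prin, aug_br hP hfix, aug_prin, mul_one, map_zero] at this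
    exact absurd this one_ne_zero
  · exact h

theorem ple_prin {P : Subgroup G} (hP : IsPGroup p P) {Q : Subgroup G} (hQP : Q ≤ P) :
    PLE p (Q, prin k C[Q]) (P, prin k C[P]) := by
  induction hn : Nat.card P - Nat.card Q using Nat.strong_induction_on generalizing Q with
  | _ n ih =>
    subst hn
    rcases hQP.eq_or_lt with rfl | hlt
    · exact Relation.ReflTransGen.refl
    have hQN := lt_normalizer_inf hP hlt
    have hc : Nat.card Q < Nat.card (P ⊓ Subgroup.normalizer (Q : Set G) : Subgroup G) := by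
      by_contra hc
      exact hQN.ne (Subgroup.eq_of_le_of_card_ge hQN.le (not_lt.mp hc))
    have h2 : Nat.card (P ⊓ Subgroup.normalizer (Q : Set G) : Subgroup G) ≤ Nat.card P :=
      Subgroup.card_le_of_le inf_le_left
    exact (Relation.ReflTransGen.single (nstep_prin (hP.to_le inf_le_left) hQN.le inf_le_right)).trans
      (ih _ (show Nat.card P - Nat.card (P ⊓ Subgroup.normalizer (Q : Set G) : Subgroup G) <
        Nat.card P - Nat.card Q by omega) inf_le_left rfl)

theorem isPairOf_prin {Q : Subgroup G} (hQ : IsPGroup p Q) :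
    IsPairOf p (prin k (⊤ : Subgroup G)) (Q, prin k C[Q]) := by
  refine (isPairOf_iff_nstep (isBlk_prin ⊤)).mpr ?_
  have h := nstep_prin (k := k) hQ (bot_le : (⊥ : Subgroup G) ≤ Q) (by
    rw [Subgroup.normalizer_eq_top]; exact le_top)
  rwa [show Subgroup.centralizer ((⊥ : Subgroup G) : Set G) = ⊤ from centralizer_bot] at h

/-- The defect groups of the principal block are the Sylow subgroups. -/
theorem isDef_prin_iff {D : Subgroup G} :
    IsDef p (prin k (⊤ : Subgroup G)) D ↔ ∃ S : Sylow p G, (S : Subgroup G) = D := by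
  obtain ⟨D₀, hD₀⟩ := exists_isDefect (p := p) (isBlk_prin (k := k) ⊤) le_rfl (le_normalizer_top (G := G))
  have hsyl : ∀ D : Subgroup G, IsDef p (prin k (⊤ : Subgroup G)) D →
      ∃ S : Sylow p G, (S : Subgroup G) = D := by
    intro D hD
    obtain ⟨S, hS⟩ := hD.1.exists_le_sylow
    exact ⟨S, (Subgroup.eq_of_le_of_card_ge hS
      (hD.card_le S.isPGroup' le_top (isPairOf_prin S.isPGroup').br_ne_zero)).symm⟩
  refine ⟨hsyl D, ?_⟩
  rintro ⟨S, rfl⟩
  obtain ⟨S₀, hS₀⟩ := hsyl D₀ hD₀
  refine hD₀.of_card_ge (isBlk_prin ⊤).fixBy S.isPGroup' le_top le_normalizer_top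
    (isPairOf_prin S.isPGroup').br_ne_zero ?_
  rw [← hS₀, S₀.card_eq_multiplicity, S.card_eq_multiplicity]

theorem isMaxPair_prin (S : Sylow p G) :
    IsMaxPair p (prin k (⊤ : Subgroup G)) ((S : Subgroup G), prin k C[(S : Subgroup G)]) :=
  (isMaxPair_iff_card (isBlk_prin ⊤) (isDef_prin_iff.mpr ⟨S, rfl⟩)).mpr
    ⟨isPairOf_prin S.isPGroup', rfl⟩

/-- **Brauer's third main theorem**: the pairs of the principal block are the principal ones. -/
theorem isPairOf_prin_iff {Q : Subgroup G} {e : MonoidAlgebra k G} :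
    IsPairOf p (prin k (⊤ : Subgroup G)) (Q, e) ↔ IsPGroup p Q ∧ e = prin k C[Q] := by
  refine ⟨fun h => ⟨h.1.1, ?_⟩, fun h => h.2 ▸ isPairOf_prin h.1⟩
  obtain ⟨z, hz⟩ := exists_conj_ple_max (isBlk_prin ⊤) (isMaxPair_prin (default : Sylow p G)) h
  set S : Sylow p G := default
  set Q' := Q.map (MulAut.conj z).toMonoidHom
  have hle : Q' ≤ (S : Subgroup G) := PLE.le hz
  obtain ⟨f, -, hu⟩ := existsUnique_ple (isPairOf_prin (k := k) S.isPGroup').1 hle
  have h1 : cj k z e = prin k C[Q'] :=
    (hu _ hz).trans (hu _ (ple_prin S.isPGroup' hle)).symm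
  refine h.1.2.eq_prin_iff.mpr ?_
  rw [← aug_cj z, h1, aug_prin]

end CfsgLib.BrauerPairs
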