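import Cfsg.Agent.BrauerPairs.Translate
import Cfsg.Agent.BrauerPairs.ThirdMain

/-!
# The principal block of `Def_Blocks` and the principal idempotent
-/

namespace CfsgLib.BrauerPairs

open Cfsg CfsgLib.Block CfsgLib.Block.Chr

universe u

variable {G : Type u} [Group G] [Fintype G] {M : Ideal AlgInt} [M.IsPrime] {p : ℕ}

/-- The trivial character. -/
noncomputable def trivIrr (G : Type u) [Group G] : IrrCharacter G :=
  ⟨fun _ => 1, CfsgLib.Char.isIrrCharacter_one⟩

omit [Fintype G] [M.IsPrime] in
theorem isPBlock_principal : IsPBlock M (principalBlock M G) := ⟨trivIrr G, rfl⟩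

theorem trivIrr_mem_principal : trivIrr G ∈ principalBlock M G := sameBlock_refl _

theorem lam_trivIrr {a : MonoidAlgebra (Residue M) G} : lam (trivIrr G) a = aug (Residue M) a := by
  have hω : omega (trivIrr G : G → ℂ) (liftFun a) = ∑ g : G, liftFun a g := by
    simp [omega, trivIrr]
  rw [lam, hω, red_sum (f := liftFun a) _ fun g _ => liftRes_mem (a.coeff g), aug_apply]
  exact Finset.sum_congr rfl fun g _ => red_liftRes _

theorem aug_idem_principal : aug (Residue M) (idem M (principalBlock M G)) = 1 := by
  classical
  rw [← lam_trivIrr, lam_idem isPBlock_principal, if_pos trivIrr_mem_principal]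

theorem idem_principal (hM : IsPModular p M) :
    idem M (principalBlock M G) = prin (Residue M) (⊤ : Subgroup G) :=
  (isBlk_idem hM isPBlock_principal).eq_prin_iff.mpr aug_idem_principal

theorem aug_emb {H : Subgroup G} [Fintype H] (a : MonoidAlgebra (Residue M) H) :
    aug (Residue M) (emb H a) = aug (Residue M) a := by
  classical
  rw [aug_apply, aug_apply, ← Finset.sum_subset (Finset.subset_univ
    (Finset.univ.map (Function.Embedding.subtype (· ∈ H))))]
  · rw [Finset.sum_map]
    exact Finset.sum_congr rfl fun h _ => coeff_emb_coe H a h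
  · intro g _ hg
    refine coeff_emb_not_mem H a fun h => hg ?_
    exact Finset.mem_map.mpr ⟨⟨g, h⟩, Finset.mem_univ _, rfl⟩

theorem idemIn_principal (hM : IsPModular p M) (H : Subgroup G) :
    idemIn M H (principalBlock M H) = prin (Residue M) H := by
  haveI := Fintype.ofFinite H
  refine (isBlk_idemIn hM (isPBlock_principal (G := H))).eq_prin_iff.mpr ?_
  rw [idemIn_eq, aug_emb, aug_idem_principal]

theorem isBrauerPairOf_principal_iff [hp : Fact p.Prime] (hM : IsPModular p M) {Q : Subgroup G}
    (hQ : IsPGroup p Q)
    {e : Set (IrrCharacter (Subgroup.centralizer (Q : Set G)))} (he : IsPBlock M e) :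
    IsBrauerPairOf p M (principalBlock M G) Q e ↔
      e = principalBlock M (Subgroup.centralizer (Q : Set G)) := by
  haveI := charP_residue hM
  rw [isBrauerPairOf_iff hM]
  constructor
  · rintro ⟨-, -, h⟩
    rw [idem_principal hM] at h
    refine idemIn_injective he isPBlock_principal ?_
    rw [idemIn_principal hM]
    exact (isPairOf_prin_iff.mp h).2
  · rintro rfl
    refine ⟨⟨hQ, he⟩, isPBlock_principal, ?_⟩
    rw [idem_principal hM, toPair, idemIn_principal hM]
    exact isPairOf_prin hQ

theorem isMaximalBrauerPair_principal [hp : Fact p.Prime] (hM : IsPModular p M) (S : Sylow p G) :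
    IsMaximalBrauerPair p M (principalBlock M G) (S : Subgroup G)
      (principalBlock M (Subgroup.centralizer ((S : Subgroup G) : Set G))) := by
  haveI := charP_residue hM
  refine (isMaximalBrauerPair_iff hM).mpr ⟨⟨S.isPGroup', isPBlock_principal⟩, isPBlock_principal, ?_⟩
  rw [idem_principal hM, toPair, idemIn_principal hM]
  exact isMaxPair_prin S

end CfsgLib.BrauerPairs
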