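import Cfsg.Agent.BrauerPairs.Pairs
import Mathlib.GroupTheory.FiniteAbelian.Basic

/-!
# Defect groups of the blocks of Brauer pairs

Defect subgroups of a stable block idempotent `f` of `C(Q)` in its stabilizer, and blocks of
overgroups with a normal `p`-subgroup.
-/

namespace CfsgLib.BrauerPairs

variable {p : ℕ} [hp : Fact p.Prime] {k : Type*} [Field k] [hk : CharP k p]
  {G : Type*} [Group G] [Fintype G]

local notation "C[" Q "]" => Subgroup.centralizer (SetLike.coe Q)

/-- A `p`-subgroup of `T` of largest order with nonvanishing truncation of `b`. -/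
def IsDefMax (p : ℕ) (T : Subgroup G) (b : MonoidAlgebra k G) (D : Subgroup G) : Prop :=
  IsPGroup p D ∧ D ≤ T ∧ br D b ≠ 0 ∧
    ∀ Q : Subgroup G, IsPGroup p Q → Q ≤ T → br Q b ≠ 0 → Nat.card Q ≤ Nat.card D

theorem isDefect_iff_isDefMax {H T : Subgroup G} {b : MonoidAlgebra k G}
    (hb : IsPrimIdem (alg k H T) b) (hHT : H ≤ T) (hT : T ≤ Subgroup.normalizer (H : Set G))
    {D : Subgroup G} : IsDefect p H T b D ↔ IsDefMax p T b D := by
  refine ⟨fun h => ⟨h.1, h.2.1, h.2.2.2, fun Q hQ hQT hbr => h.card_le hQ hQT hbr⟩, fun h => ?_⟩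
  obtain ⟨D₀, hD₀⟩ := exists_isDefect (p := p) hb hHT hT
  exact hD₀.of_card_ge hb.mem.2 h.1 h.2.1 hT h.2.2.1 (h.2.2.2 D₀ hD₀.1 hD₀.2.1 hD₀.2.2.2)

/-- A `p`-subgroup with nonvanishing truncation lies in a defect subgroup. -/
theorem exists_isDefMax_ge {H T : Subgroup G} {b : MonoidAlgebra k G}
    (hb : IsPrimIdem (alg k H T) b) (hHT : H ≤ T) (hT : T ≤ Subgroup.normalizer (H : Set G))
    {R : Subgroup G} (hR : IsPGroup p R) (hRT : R ≤ T) (hbr : br R b ≠ 0) :
    ∃ D, IsDefMax p T b D ∧ R ≤ D := by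
  obtain ⟨D₀, hD₀⟩ := exists_isDefect (p := p) hb hHT hT
  obtain ⟨x, hxT, hx⟩ := hD₀.exists_conj_le hR hRT hbr
  have h0 := (isDefect_iff_isDefMax hb hHT hT).mp hD₀
  refine ⟨D₀.map (MulAut.conj x⁻¹).toMonoidHom, ⟨h0.1.map _, ?_, ?_, ?_⟩, ?_⟩
  · have := Subgroup.map_mono (f := (MulAut.conj x⁻¹).toMonoidHom) h0.2.1
    rwa [map_conj_eq_self (Subgroup.le_normalizer (inv_mem hxT))] at this
  · intro h
    apply h0.2.2.1
    have h1 := congrArg (cj k x) h
    rw [map_zero, cj_br, map_conj_map_conj, mul_inv_cancel, map_conj_one, hb.mem.2 x hxT] at h1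
    exact h1
  · intro Q hQ hQT hbrQ
    rw [Subgroup.card_map_of_injective (MulEquiv.injective _)]
    exact h0.2.2.2 Q hQ hQT hbrQ
  · have := Subgroup.map_mono (f := (MulAut.conj x⁻¹).toMonoidHom) hx
    rwa [map_conj_map_conj, inv_mul_cancel, map_conj_one] at this

omit hp hk in
theorem IsDefMax.cj {T : Subgroup G} {b : MonoidAlgebra k G} {D : Subgroup G}
    (h : IsDefMax p T b D) (x : G) :
    IsDefMax p (T.map (MulAut.conj x).toMonoidHom) (BrauerPairs.cj k x b)
      (D.map (MulAut.conj x).toMonoidHom) := by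
  refine ⟨h.1.map _, Subgroup.map_mono h.2.1, ?_, fun Q hQ hQT hbr => ?_⟩
  · rw [← cj_br]
    exact fun h0 => h.2.2.1 ((BrauerPairs.cj k x).injective (h0.trans (map_zero _).symm))
  · rw [Subgroup.card_map_of_injective (MulEquiv.injective _),
      ← Subgroup.card_map_of_injective (K := Q) (f := (MulAut.conj x⁻¹).toMonoidHom)
        (MulEquiv.injective _)]
    refine h.2.2.2 _ (hQ.map _) ?_ ?_
    · have := Subgroup.map_mono (f := (MulAut.conj x⁻¹).toMonoidHom) hQT
      rwa [map_conj_map_conj, inv_mul_cancel, map_conj_one] at this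
    · intro h0
      apply hbr
      have h1 := congrArg (BrauerPairs.cj k x) h0
      rwa [map_zero, cj_br, map_conj_map_conj, mul_inv_cancel, map_conj_one] at h1

/-- A `p`-group fixes a nonzero vector in a space over a field of characteristic `p`. -/
theorem exists_fixed_ne_zero {Q : Subgroup G} (hQ : IsPGroup p Q) {v : MonoidAlgebra k G}
    (hv : v ≠ 0) : ∃ w : MonoidAlgebra k G, w ≠ 0 ∧
      (∀ q ∈ Q, MonoidAlgebra.single q (1 : k) * w = w) ∧
      ∀ e : MonoidAlgebra k G, (∀ q ∈ Q, e * MonoidAlgebra.single q (1 : k) =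
        MonoidAlgebra.single q (1 : k) * e) → e * v = v → e * w = w := by
  classical
  let _ : MulAction Q (MonoidAlgebra k G) :=
    { smul := fun q a => MonoidAlgebra.single (q : G) (1 : k) * a
      one_smul := fun a => show MonoidAlgebra.single ((1 : Q) : G) (1 : k) * a = a by
        rw [Subgroup.coe_one, ← MonoidAlgebra.one_def, one_mul]
      mul_smul := fun q r a => show MonoidAlgebra.single ((q * r : Q) : G) (1 : k) * a =
          MonoidAlgebra.single (q : G) (1 : k) * (MonoidAlgebra.single (r : G) (1 : k) * a) by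
        rw [← mul_assoc, MonoidAlgebra.single_mul_single, one_mul]; rfl }
  -- the finite group spanned by the orbit
  set W := AddSubgroup.closure (MulAction.orbit Q v) with hW
  have hsmul : ∀ (q : Q) (a : MonoidAlgebra k G),
      q • a = MonoidAlgebra.single (q : G) (1 : k) * a := fun _ _ => rfl
  have hmem : ∀ (q : Q), ∀ a ∈ W, q • a ∈ W := by
    intro q a ha
    induction ha using AddSubgroup.closure_induction with
    | mem a ha =>
      obtain ⟨r, rfl⟩ := ha
      exact AddSubgroup.subset_closure ⟨q * r, mul_smul q r v⟩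
    | zero => rw [hsmul, mul_zero]; exact W.zero_mem
    | add a b _ _ iha ihb => rw [hsmul, mul_add, ← hsmul, ← hsmul]; exact W.add_mem iha ihb
    | neg a _ iha => rw [hsmul, mul_neg, ← hsmul]; exact W.neg_mem iha
  have hp0 : ∀ a : MonoidAlgebra k G, p • a = 0 := fun a => by
    rw [← Nat.cast_smul_eq_nsmul k, CharP.cast_eq_zero, zero_smul]
  haveI : AddGroup.FG W := by
    rw [AddGroup.fg_iff_addSubgroup_fg]
    exact ⟨(Set.finite_range fun q : Q => q • v).toFinset, by rw [Set.Finite.coe_toFinset]; rfl⟩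
  have htor : IsAddTorsion W := fun a : W =>
    isOfFinAddOrder_iff_nsmul_eq_zero.mpr ⟨p, hp.out.pos, Subtype.ext (hp0 a)⟩
  haveI : Finite W := AddCommGroup.finite_of_fg_isAddTorsion (G := W) htor
  let _ : MulAction Q W :=
    { smul := fun q a => ⟨q • (a : MonoidAlgebra k G), hmem q a a.2⟩
      one_smul := fun a => Subtype.ext (one_smul Q (a : MonoidAlgebra k G))
      mul_smul := fun q r a => Subtype.ext (mul_smul q r (a : MonoidAlgebra k G)) }
  have hvW : v ∈ W := AddSubgroup.subset_closure (MulAction.mem_orbit_self v)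
  have hdvd : p ∣ Nat.card W := by
    have h1 : addOrderOf (⟨v, hvW⟩ : W) = p :=
      addOrderOf_eq_prime (Subtype.ext (hp0 v)) (fun h => hv (congrArg Subtype.val h))
    exact h1 ▸ addOrderOf_dvd_natCard _
  obtain ⟨w, hw, hne⟩ := hQ.exists_fixed_point_of_prime_dvd_card_of_fixed_point W hdvd
    (a := (0 : W)) (fun q => Subtype.ext (mul_zero _))
  refine ⟨w, fun h => hne (Subtype.ext h.symm), fun q hq => congrArg Subtype.val (hw ⟨q, hq⟩),
    fun e he hev => ?_⟩
  have : ∀ a ∈ W, e * a = a := by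
    intro a ha
    induction ha using AddSubgroup.closure_induction with
    | mem a ha =>
      obtain ⟨r, rfl⟩ := ha
      show e * (MonoidAlgebra.single (r : G) (1 : k) * v) = MonoidAlgebra.single (r : G) (1 : k) * v
      rw [← mul_assoc, he r r.2, mul_assoc, hev]
    | zero => rw [mul_zero]
    | add a b _ _ iha ihb => rw [mul_add, iha, ihb]
    | neg a _ iha => rw [mul_neg, iha]
  exact this _ w.2

/-- An idempotent fixed by `T` with vanishing truncation at a normal `p`-subgroup is zero. -/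
theorem eq_zero_of_br_eq_zero {T Q : Subgroup G} (hQ : IsPGroup p Q) (hQT : Q ≤ T)
    (hTN : T ≤ Subgroup.normalizer (Q : Set G)) {e : MonoidAlgebra k G} (he : e ∈ alg k T T)
    (hee : e * e = e) (hbr : br Q e = 0) : e = 0 := by
  classical
  by_contra hne
  have hsingle : ∀ q ∈ Q, e * MonoidAlgebra.single q (1 : k) =
      MonoidAlgebra.single q (1 : k) * e := by
    intro q hq
    refine (alg_commute le_rfl (a := MonoidAlgebra.single q (1 : k)) ?_ he.2).symm
    intro g hg
    rw [MonoidAlgebra.coeff_single_apply, if_neg]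
    rintro rfl
    exact hg (hQT hq)
  obtain ⟨w, hw0, hwQ, hwe⟩ := exists_fixed_ne_zero hQ hne
  apply hw0
  rw [← hwe e hsingle hee]
  let _ : MulAction Q G :=
    { smul := fun u g => (u : G) * g * (u : G)⁻¹
      one_smul := fun g => show ((1 : Q) : G) * g * ((1 : Q) : G)⁻¹ = g by simp
      mul_smul := fun u v g => show ((u * v : Q) : G) * g * ((u * v : Q) : G)⁻¹ =
        (u : G) * ((v : G) * g * (v : G)⁻¹) * (u : G)⁻¹ by simp [mul_assoc] }
  -- conjugates under `Q` of an element of `T` act alike on `w`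
  have hact : ∀ (u : Q) (g : G), g ∈ T →
      MonoidAlgebra.single ((u : G) * g * (u : G)⁻¹) (1 : k) * w =
        MonoidAlgebra.single g (1 : k) * w := by
    intro u g hg
    have h1 : g⁻¹ * (u : G) * g * (u : G)⁻¹ ∈ Q :=
      Q.mul_mem ((Subgroup.mem_normalizer_iff''.mp (hTN hg) u).mp u.2) (Q.inv_mem u.2)
    rw [show (u : G) * g * (u : G)⁻¹ = g * (g⁻¹ * (u : G) * g * (u : G)⁻¹) by group,
      ← mul_one (1 : k), ← MonoidAlgebra.single_mul_single, mul_assoc, mul_one, hwQ _ h1]
  refine coeff_ext fun y => ?_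
  rw [coeff_mul, MonoidAlgebra.coeff_zero, Finsupp.zero_apply,
    sum_eq_sum_fixed hQ (fun g => e.coeff g * w.coeff (g⁻¹ * y)) fun u g => ?_]
  · refine Finset.sum_eq_zero fun g hg => ?_
    have hgC : g ∈ C[Q] := Subgroup.mem_centralizer_iff.mpr fun u hu =>
      mul_inv_eq_iff_eq_mul.mp ((Set.mem_toFinset.mp hg) ⟨u, hu⟩)
    rw [← coeff_br_of_mem e hgC, hbr, MonoidAlgebra.coeff_zero, Finsupp.zero_apply, zero_mul]
  · show e.coeff ((u : G) * g * (u : G)⁻¹) * w.coeff (((u : G) * g * (u : G)⁻¹)⁻¹ * y) =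
      e.coeff g * w.coeff (g⁻¹ * y)
    have h2 : e.coeff ((u : G) * g * (u : G)⁻¹) = e.coeff g := by
      simpa using he.2.coeff_eq (inv_mem (hQT u.2)) g
    rw [h2]
    by_cases hg : g ∈ T
    · congr 1
      have := congrArg (fun a => a.coeff y) (hact u g hg)
      simpa using this
    · rw [he.1 g hg, zero_mul, zero_mul]

/-- Central idempotents of a group with a normal `p`-subgroup `Q` live on `C(Q)`. -/
theorem br_eq_self_of_idem {T Q : Subgroup G} (hQ : IsPGroup p Q) (hQT : Q ≤ T)
    (hTN : T ≤ Subgroup.normalizer (Q : Set G)) {e : MonoidAlgebra k G} (he : e ∈ alg k T T)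
    (hee : e * e = e) : br Q e = e := by
  set f := br Q e with hf
  have hfT : f ∈ alg k T T :=
    ⟨fun g hg => by
      classical
      rw [hf, coeff_br]; split
      · exact he.1 g hg
      · rfl, fixBy_br he.2 hTN⟩
  have hff : f * f = f := br_idem hQ hee (he.2.mono hQT)
  have hbf : br Q f = f := br_br_of_le le_rfl e
  have hc : e * f = f * e := alg_commute le_rfl he.1 hfT.2
  have h1 : e * f * (e * f) = e * f := by
    rw [mul_assoc, ← mul_assoc f, ← hc, mul_assoc e f, hff, ← mul_assoc, hee]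
  have key : ∀ x, x ∈ alg k T T → x * x = x → br Q x = f → x * (e * f) = e * f → x = e * f := by
    intro x hx hxx hbx hxef
    refine sub_eq_zero.mp (eq_zero_of_br_eq_zero hQ hQT hTN (sub_mem hx (mul_mem he hfT)) ?_ ?_)
    · rw [sub_mul, mul_sub, mul_sub, hxx, hxef, h1,
        alg_commute le_rfl (mul_mem he hfT).1 hx.2, hxef, sub_self, sub_zero]
    · rw [map_sub, br_mul hQ (he.2.mono hQT) (hfT.2.mono hQT), hbx, hbf, hff, sub_self]
  have he' := key e he hee rfl (by rw [← mul_assoc, hee])
  have hf' := key f hfT hff hbf (by rw [hc, ← mul_assoc, hff])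
  exact hf'.trans he'.symm

/-- A stable block idempotent of `C(Q)` is a block idempotent of a group between `C(Q)` and
`N(Q)`. -/
theorem IsBlk.of_stable {T Q : Subgroup G} (hQ : IsPGroup p Q) (hQT : Q ≤ T)
    (hTN : T ≤ Subgroup.normalizer (Q : Set G)) (hCT : C[Q] ≤ T) {f : MonoidAlgebra k G}
    (hf : IsBlk k C[Q] f) (hfix : FixBy T f) : IsBlk k T f := by
  refine ⟨⟨hf.suppIn.mono hCT, hfix⟩, hf.ne_zero, hf.idem, fun e he hee => ?_⟩
  have hbr := br_eq_self_of_idem hQ hQT hTN he hee
  exact hf.mul_eq_zero_or ⟨hbr ▸ suppIn_br e, he.2.mono hCT⟩ hee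

/-- The pair on `P ⊓ N(Q)` below `(P, e)` receives `(Q, f)` normally. -/
theorem exists_nstep_inf {P Q : Subgroup G} {e f : MonoidAlgebra k G} (hP : IsPair p (P, e))
    (hle : PLE p (Q, f) (P, e)) :
    ∃ g, NStep p (Q, f) (P ⊓ Subgroup.normalizer (Q : Set G), g) ∧
      PLE p (P ⊓ Subgroup.normalizer (Q : Set G), g) (P, e) := by
  obtain ⟨g, hg, -⟩ := existsUnique_ple hP (inf_le_left (b := Subgroup.normalizer (Q : Set G)))
  obtain ⟨f', hf', -⟩ := existsUnique_nstep (Q := Q) (PLE.isPair hg hP)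
    (le_inf hle.le Subgroup.le_normalizer) inf_le_right
  obtain ⟨f'', -, hu⟩ := existsUnique_ple hP hle.le
  have : f' = f := (hu f' (PLE.trans (Relation.ReflTransGen.single hf') hg)).trans (hu f hle).symm
  exact ⟨g, this ▸ hf', hg⟩

theorem fixBy_inf_normalizer {P Q : Subgroup G} {e f : MonoidAlgebra k G} (hP : IsPair p (P, e))
    (hle : PLE p (Q, f) (P, e)) : FixBy (P ⊓ Subgroup.normalizer (Q : Set G)) f := by
  obtain ⟨g, hg, -⟩ := exists_nstep_inf hP hle
  exact hg.2.2.2.2.1

theorem br_inf_ne_zero {P Q R : Subgroup G} {e f : MonoidAlgebra k G} (hP : IsPair p (P, e))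
    (hle : PLE p (Q, f) (P, e)) (hR : R ≤ P ⊓ Subgroup.normalizer (Q : Set G)) : br R f ≠ 0 := by
  obtain ⟨g, hg, -⟩ := exists_nstep_inf hP hle
  intro h
  apply hg.2.1.2.ne_zero
  show g = 0
  refine hg.2.2.2.2.2.symm.trans ?_
  show br (P ⊓ Subgroup.normalizer (Q : Set G)) f * g = 0
  rw [← br_br_of_le hR f, h, map_zero, zero_mul]

/-- Some conjugate of a pair below a maximal pair has its block's defect subgroup inside the
maximal one. -/
theorem exists_conj_isDefMax {b : MonoidAlgebra k G} (hb : IsBlk k ⊤ b)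
    {P Q T : Subgroup G} {e f : MonoidAlgebra k G} (hmax : IsMaxPair p b (P, e))
    (hle : PLE p (Q, f) (P, e)) (hCT : C[Q] ≤ T)
    (hTN : T ≤ Subgroup.normalizer (Q : Set G)) (hfix : FixBy T f) :
    ∃ x, PLE p (cjPair x (Q, f)) (P, e) ∧
      IsDefMax p (T.map (MulAut.conj x).toMonoidHom) (cj k x f)
        (P ⊓ T.map (MulAut.conj x).toMonoidHom) := by
  have hP : IsPair p (P, e) := hmax.1.1
  have hQp : IsPair p (Q, f) := PLE.isPair hle hP
  have hprim := hQp.2.prim hCT hfix
  obtain ⟨D, hD⟩ := exists_isDefect (p := p) hprim hCT (hTN.trans map_normalizer_centralizer)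
  have hDN : D ≤ Subgroup.normalizer (Q : Set G) := hD.2.1.trans hTN
  set R := Q ⊔ D with hR
  have hRp : IsPGroup p R := hQp.1.to_sup_of_normal_left' hD.1 hDN
  have hRfix : FixBy R f := by
    let S : Subgroup G :=
      { carrier := {t | BrauerPairs.cj k t f = f}
        one_mem' := cj_one f
        mul_mem' := fun {a b} ha hb => by
          show BrauerPairs.cj k (a * b) f = f
          rw [cj_mul, hb, ha]
        inv_mem' := fun {a} ha => by
          show BrauerPairs.cj k a⁻¹ f = f
          conv_lhs => rw [← ha]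
          exact cj_inv_cj a f }
    have hle : R ≤ S := sup_le (fun q hq => hQp.fix_self q hq) (fun d hd => hfix d (hD.2.1 hd))
    exact fun t ht => hle ht
  have hbr : br R f ≠ 0 := by
    have heq : br R f = br D f := by
      classical
      refine coeff_ext fun g => ?_
      rw [coeff_br, coeff_br]
      by_cases hgR : g ∈ C[R]
      · rw [if_pos hgR, if_pos (Subgroup.centralizer_le (SetLike.coe_subset_coe.mpr le_sup_right) hgR)]
      · rw [if_neg hgR]
        split_ifs with hgD
        · by_contra hne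
          have hgQ : g ∈ C[Q] := by
            by_contra h; exact hne (hQp.2.suppIn g h).symm
          refine hgR ?_
          rw [Subgroup.mem_centralizer_iff]
          intro r hr
          have hle' : R ≤ Subgroup.centralizer ({g} : Set G) := sup_le
            (fun a ha => Subgroup.mem_centralizer_singleton_iff.mpr
              (Subgroup.mem_centralizer_iff.mp hgQ a ha))
            (fun a ha => Subgroup.mem_centralizer_singleton_iff.mpr
              (Subgroup.mem_centralizer_iff.mp hgD a ha))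
          exact Subgroup.mem_centralizer_singleton_iff.mp (hle' hr)
        · rfl
    rw [heq]; exact hD.2.2.2
  obtain ⟨g, hg, hgne⟩ := exists_prim_mul_ne_zero (alg_comm (k := k) (le_refl C[R])) hbr
  have hRg : IsPair p (R, g) := ⟨hRp, hg⟩
  have hmem := br_mem_alg (k := k) (le_sup_left : Q ≤ R) hQp.2.mem
  have hstep : NStep p (Q, f) (R, g) := by
    refine ⟨hQp, hRg, le_sup_left, sup_le Subgroup.le_normalizer hDN, hRfix, ?_⟩
    show br R f * g = g
    rw [alg_comm (k := k) (le_refl C[R]) _ hmem _ hg.mem]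
    exact hg.mul_eq_self hmem (br_idem hRp hQp.2.idem (hRfix)) hgne
  have hRb : IsPairOf p b (R, g) := by
    rw [← isPairOf_iff_of_ple hb (Relation.ReflTransGen.single hstep) hRg,
      isPairOf_iff_of_ple hb hle hP]
    exact hmax.1
  obtain ⟨x, hx⟩ := exists_conj_ple_max hb hmax hRb
  have hQx : PLE p (cjPair x (Q, f)) (P, e) :=
    PLE.trans (PLE.cj (Relation.ReflTransGen.single hstep : PLE p (Q, f) (R, g)) x) hx
  refine ⟨x, hQx, ?_⟩
  have hmax' := ((isDefect_iff_isDefMax hprim hCT
    (hTN.trans map_normalizer_centralizer)).mp hD).cj x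
  have hT'N : T.map (MulAut.conj x).toMonoidHom ≤
      Subgroup.normalizer ((Q.map (MulAut.conj x).toMonoidHom : Subgroup G) : Set G) := by
    refine (Subgroup.map_mono hTN).trans ?_
    exact Subgroup.le_normalizer_map _
  have hle' : P ⊓ T.map (MulAut.conj x).toMonoidHom ≤
      P ⊓ Subgroup.normalizer ((Q.map (MulAut.conj x).toMonoidHom : Subgroup G) : Set G) :=
    inf_le_inf_left _ hT'N
  have hDP : D.map (MulAut.conj x).toMonoidHom ≤ P ⊓ T.map (MulAut.conj x).toMonoidHom :=
    le_inf ((Subgroup.map_mono le_sup_right).trans hx.le) (Subgroup.map_mono hD.2.1)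
  have heq : D.map (MulAut.conj x).toMonoidHom = P ⊓ T.map (MulAut.conj x).toMonoidHom :=
    Subgroup.eq_of_le_of_card_ge hDP (hmax'.2.2.2 _ (hP.1.to_le inf_le_left) inf_le_right
      (br_inf_ne_zero hP hQx hle'))
  rwa [← heq]

end CfsgLib.BrauerPairs
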