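import Cfsg.Agent.BrauerPairs.Translate
import Cfsg.Agent.BrauerPairs.LocalBlocks
import Cfsg.Agent.Blocks.TraceFormula

/-!
# Blocks of stabilizers of Brauer pairs, and defect groups of blocks of subgroups
-/

namespace CfsgLib.BrauerPairs

open Cfsg CfsgLib.Block CfsgLib.Block.Chr

universe u

variable {G : Type u} [Group G] [Fintype G] {M : Ideal AlgInt} [M.IsPrime] {p : ℕ}
  [hp : Fact p.Prime]

local notation "C[" Q "]" => Subgroup.centralizer (SetLike.coe Q)

omit hp in
theorem br_emb (H : Subgroup G) [Fintype H] (R : Subgroup H) (a : MonoidAlgebra (Residue M) H) :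
    br (R.map H.subtype) (emb H a) = emb H (br R a) := by
  classical
  refine coeff_ext fun g => ?_
  by_cases hg : g ∈ H
  · obtain ⟨g, rfl⟩ : ∃ g' : H, (g' : G) = g := ⟨⟨g, hg⟩, rfl⟩
    rw [coeff_br, coeff_emb_coe, coeff_emb_coe, coeff_br]
    refine if_congr ?_ rfl rfl
    simp only [Subgroup.mem_centralizer_iff, SetLike.mem_coe, Subgroup.mem_map,
      Subgroup.coe_subtype, forall_exists_index, and_imp]
    exact ⟨fun h y hy => Subtype.ext (h _ y hy rfl),
      fun h _ y hy he => he ▸ congrArg Subtype.val (h y hy)⟩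
  · rw [coeff_emb_not_mem H _ hg, coeff_br]
    split_ifs with h
    · exact coeff_emb_not_mem H a hg
    · rfl

theorem isDefectGroup_sub_iff (hM : IsPModular p M) (H : Subgroup G) {F : Set (IrrCharacter H)}
    (hF : IsPBlock M F) (D : Subgroup H) :
    IsDefectGroup p M F D ↔ IsDefMax p H (idemIn M H F) (D.map H.subtype) := by
  haveI := charP_residue hM
  haveI := Fintype.ofFinite H
  rw [isDefectGroup_iff hM hF]
  unfold IsDef
  rw [isDefect_iff_isDefMax (isBlk_idem hM hF) le_rfl le_normalizer_top]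
  have hbr : ∀ R : Subgroup H,
      br (R.map H.subtype) (idemIn M H F) ≠ 0 ↔ br R (idem M F) ≠ 0 := fun R => by
    rw [idemIn_eq, br_emb, Ne, map_eq_zero_iff _ (emb_injective H)]
  have hcard : ∀ R : Subgroup H, Nat.card (R.map H.subtype) = Nat.card R := fun R =>
    Subgroup.card_map_of_injective H.subtype_injective
  constructor
  · rintro ⟨h1, -, h3, h4⟩
    refine ⟨h1.map _, Subgroup.map_subtype_le D, (hbr D).mpr h3, fun Q hQ hQH hne => ?_⟩
    obtain ⟨R, rfl⟩ : ∃ R : Subgroup H, R.map H.subtype = Q :=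
      ⟨Q.subgroupOf H, Subgroup.map_subgroupOf_eq_of_le hQH⟩
    rw [hcard, hcard]
    exact h4 R (hQ.of_equiv (R.equivMapOfInjective _ H.subtype_injective).symm) le_top
      ((hbr R).mp hne)
  · rintro ⟨h1, -, h3, h4⟩
    refine ⟨h1.of_equiv (D.equivMapOfInjective _ H.subtype_injective).symm, le_top,
      (hbr D).mp h3, fun R hR _ hne => ?_⟩
    rw [← hcard, ← hcard]
    exact h4 _ (hR.map _) (Subgroup.map_subtype_le R) ((hbr R).mpr hne)

theorem isDefectGroup_sub_iff_of_le (hM : IsPModular p M) (H : Subgroup G)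
    {F : Set (IrrCharacter H)} (hF : IsPBlock M F) {D : Subgroup G} (hD : D ≤ H) :
    IsDefectGroup p M F (D.subgroupOf H) ↔ IsDefMax p H (idemIn M H F) D := by
  rw [isDefectGroup_sub_iff hM H hF, Subgroup.map_subgroupOf_eq_of_le hD]

omit hp in
/-- A stable block of a subgroup `C ≤ T` with primitive idempotent in `T` is a block of `T`. -/
theorem exists_block_of_stable (hM : IsPModular p M) {C T : Subgroup G} (hCT : C ≤ T)
    {f : Set (IrrCharacter C)} (hf : IsPBlock M f) (hst : ∀ t ∈ T, StabilizesBlock C f t)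
    (hblk : IsBlk (Residue M) T (idemIn M C f)) :
    ∃ F : Set (IrrCharacter T), IsPBlock M F ∧
      (∀ t : T, blockCoeff F t = subgroupBlockCoeff C f (t : G)) ∧
      idemIn M T F = idemIn M C f := by
  classical
  haveI := Fintype.ofFinite C
  haveI := Fintype.ofFinite T
  let θ : T → ℂ := fun t => subgroupBlockCoeff C f (t : G)
  have hcf : IsClassFunction T θ := by
    intro g t
    obtain ⟨hN, hs⟩ := hst (t : G) t.2
    have hH := mem_normalizer_iff_conjEquiv.mp hN
    obtain ⟨χ, hχ⟩ := exists_mem_block hf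
    obtain ⟨χ', hχ', hc⟩ := hs χ hχ
    rw [isConjCharOf_iff hH] at hc
    subst hc
    have hmap : mapSet (conjEquiv hH) f = f :=
      block_eq_of_common (isPBlock_mapSet _ hf) hf ⟨χ, hχ, rfl⟩ hχ'
    have := subgroupBlockCoeff_conj hH f ((t : G) * (g : G) * (t : G)⁻¹)
    rw [hmap] at this
    show subgroupBlockCoeff C f ((t : G) * (g : G) * (t : G)⁻¹) = subgroupBlockCoeff C f (g : G)
    rw [this]
    congr 1
    group
  have hθ : IsIntClass M θ := ⟨hcf, fun t => memLocalRing_subgroupBlockCoeff hf _⟩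
  have hsupp : ∀ t : T, (t : G) ∉ C → θ t = 0 := fun t ht => subgroupBlockCoeff_not_mem f ht
  have hconv : conv θ θ = θ := by
    funext x
    show ∑ g : T, θ g * θ (g⁻¹ * x) = θ x
    rw [← Finset.sum_subset (Finset.subset_univ (Finset.univ.map
      ⟨fun c : C => (⟨c, hCT c.2⟩ : T), fun a b h => Subtype.ext (congrArg (fun z : T => (z : G)) h)⟩))]
    · rw [Finset.sum_map]
      by_cases hx : (x : G) ∈ C
      · calc ∑ c : C, θ ⟨c, hCT c.2⟩ * θ ((⟨c, hCT c.2⟩ : T)⁻¹ * x)
            = ∑ c : C, blockCoeff f c * blockCoeff f (c⁻¹ * ⟨x, hx⟩) := by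
              refine Finset.sum_congr rfl fun c _ => ?_
              show subgroupBlockCoeff C f (c : G) * subgroupBlockCoeff C f ((c : G)⁻¹ * (x : G)) = _
              rw [subgroupBlockCoeff_coe, ← subgroupBlockCoeff_coe f (c⁻¹ * ⟨x, hx⟩)]
              rfl
          _ = conv (blockCoeff f) (blockCoeff f) ⟨x, hx⟩ := rfl
          _ = blockCoeff f ⟨x, hx⟩ := congrFun (conv_blockCoeff_self f) ⟨x, hx⟩
          _ = θ x := (subgroupBlockCoeff_coe f ⟨x, hx⟩).symm
      · rw [hsupp x hx]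
        refine Finset.sum_eq_zero fun c _ => ?_
        refine mul_eq_zero_of_right (θ ⟨c, hCT c.2⟩) (hsupp ((⟨c, hCT c.2⟩ : T)⁻¹ * x) fun h => ?_)
        exact hx (by simpa using C.mul_mem c.2 h)
    · intro g _ hg
      rw [hsupp g fun h => hg (Finset.mem_map.mpr ⟨⟨g, h⟩, Finset.mem_univ _, rfl⟩), zero_mul]
  obtain ⟨F, hF, hFid⟩ := exists_idemIn_eq hM hblk
  have hred : redFun M θ = idem M F := by
    apply emb_injective T
    rw [← idemIn_eq, hFid]
    refine coeff_ext fun g => ?_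
    by_cases hg : g ∈ T
    · obtain ⟨g, rfl⟩ : ∃ g' : T, (g' : G) = g := ⟨⟨g, hg⟩, rfl⟩
      rw [coeff_emb_coe, coeff_redFun, coeff_idemIn]
    · rw [coeff_emb_not_mem T _ hg, coeff_idemIn, subgroupBlockCoeff_not_mem f fun h => hg (hCT h),
        red_zero]
  refine ⟨F, hF, fun t => ?_, hFid⟩
  letI := irrFintype (G := T)
  show blockCoeff F t = θ t
  rw [eq_sum_omega (isClassFunction_blockCoeff F) t, eq_sum_omega hcf t]
  congr 1
  refine Finset.sum_congr rfl fun χ _ => ?_
  have h2 : omega (χ : T → ℂ) θ * omega (χ : T → ℂ) θ = omega (χ : T → ℂ) θ := by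
    rw [← omega_conv χ hcf, hconv]
  have hl := lam_idem hF χ
  rw [← hred, lam_redFun χ hθ] at hl
  rw [omega_blockCoeff]
  rcases eq_or_ne (omega (χ : T → ℂ) θ) 0 with h0 | h0
  · rw [h0, red_zero] at hl
    rw [h0]
    split_ifs at hl ⊢ with hχ
    · exact absurd hl zero_ne_one
    · rfl
  · have h1 : omega (χ : T → ℂ) θ = 1 := mul_left_cancel₀ h0 (by rw [h2, mul_one])
    rw [h1, red_one] at hl
    rw [h1]
    split_ifs at hl ⊢ with hχ
    · rfl
    · exact absurd hl one_ne_zero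

/-- The stabilizer of a pair: its basic properties. -/
theorem stabilizer_props (hM : IsPModular p M) {Q T : Subgroup G} {f : Set (IrrCharacter C[Q])}
    (hf : IsPBlock M f) (hQ : IsPGroup p Q)
    (hT : ∀ y : G, y ∈ T ↔ y ∈ Subgroup.normalizer (Q : Set G) ∧ StabilizesBlock C[Q] f y) :
    Q ≤ T ∧ C[Q] ≤ T ∧ T ≤ Subgroup.normalizer (Q : Set G) ∧ FixBy T (idemIn M C[Q] f) := by
  haveI := charP_residue hM
  have hmem : ∀ y, y ∈ Subgroup.normalizer (Q : Set G) →
      cj (Residue M) y (idemIn M C[Q] f) = idemIn M C[Q] f → y ∈ T := fun y h1 h2 =>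
    (hT y).mpr ⟨h1, (stabilizesBlock_iff hM hf).mpr ⟨map_normalizer_centralizer h1, h2⟩⟩
  have hpair : IsPair p (Q, idemIn M C[Q] f) := ⟨hQ, isBlk_idemIn hM hf⟩
  exact ⟨fun q hq => hmem q (Subgroup.le_normalizer hq) (hpair.fix_self q hq),
    fun c hc => hmem c (centralizer_le_normalizer Q hc) ((isBlk_idemIn hM hf).fixBy c hc),
    fun y hy => ((hT y).mp hy).1,
    fun y hy => ((stabilizesBlock_iff hM hf).mp ((hT y).mp hy).2).2⟩

theorem mem_map_stabilizer_iff (hM : IsPModular p M) {Q T : Subgroup G}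
    {f : Set (IrrCharacter C[Q])} (hf : IsPBlock M f)
    (hT : ∀ y : G, y ∈ T ↔ y ∈ Subgroup.normalizer (Q : Set G) ∧ StabilizesBlock C[Q] f y)
    (x y : G) : y ∈ T.map (MulAut.conj x).toMonoidHom ↔
      y ∈ Subgroup.normalizer ((Q.map (MulAut.conj x).toMonoidHom : Subgroup G) : Set G) ∧
        StabilizesBlock C[Q.map (MulAut.conj x).toMonoidHom] (conjBlock Q x f) y := by
  have hxy : ∀ z : G, x * z * x⁻¹ ∈ Subgroup.normalizer
      ((Q.map (MulAut.conj x).toMonoidHom : Subgroup G) : Set G) ↔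
      z ∈ Subgroup.normalizer (Q : Set G) := by
    intro z
    rw [← Subgroup.map_normalizer_eq_of_bijective Q (f := (MulAut.conj x).toMonoidHom)
      (MulAut.conj x).bijective]
    exact (Subgroup.mem_map_iff_mem (MulAut.conj x).injective (x := z))
  have hcj : ∀ z : G, cj (Residue M) (x * z * x⁻¹) (cj (Residue M) x (idemIn M C[Q] f)) =
      cj (Residue M) x (idemIn M C[Q] f) ↔
        cj (Residue M) z (idemIn M C[Q] f) = idemIn M C[Q] f := by
    intro z
    rw [← cj_mul, inv_mul_cancel_right, cj_mul]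
    exact (cj (Residue M) x).injective.eq_iff
  obtain ⟨z, rfl⟩ : ∃ z, y = x * z * x⁻¹ := ⟨x⁻¹ * y * x, by group⟩
  rw [show x * z * x⁻¹ = (MulAut.conj x).toMonoidHom z from rfl,
    Subgroup.mem_map_iff_mem (MulAut.conj x).injective, hT]
  show _ ↔ x * z * x⁻¹ ∈ _ ∧ StabilizesBlock _ _ (x * z * x⁻¹)
  rw [hxy, stabilizesBlock_iff hM hf, stabilizesBlock_iff hM (isPBlock_conjBlock Q x hf),
    idemIn_conjBlock, hcj]
  exact ⟨fun h => ⟨h.1, map_normalizer_centralizer ((hxy z).mpr h.1), h.2.2⟩,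
    fun h => ⟨h.1, map_normalizer_centralizer h.1, h.2.2⟩⟩

end CfsgLib.BrauerPairs
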