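import Cfsg.Agent.BrauerPairs.BlockSaturation
import Cfsg.Agent.BrauerPairs.LocalBridge
import Cfsg.Prelude.Def_BlockFusion

/-!
# The fusion system of a block of characters as the fusion system of a pair
-/

namespace CfsgLib.BrauerPairs

open Cfsg CfsgLib.Block CfsgLib.Block.Chr

universe u

variable {G : Type u} [Group G] [Fintype G] {M : Ideal AlgInt} [M.IsPrime] {p : ℕ}
  [hp : Fact p.Prime]

local notation "C[" Q "]" => Subgroup.centralizer (SetLike.coe Q)
local notation "N[" Q "]" => Subgroup.normalizer (SetLike.coe Q)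

omit hp in
/-- The residue field splits every block. -/
theorem isSplit_of_isBlk (hM : IsPModular p M) (H : Subgroup G)
    {f : MonoidAlgebra (Residue M) G} (hf : IsBlk (Residue M) H f) : IsSplit H f := by
  classical
  haveI := Fintype.ofFinite H
  intro a ha
  obtain ⟨B, hB, hBf⟩ := exists_idem_eq hM (isBlk_restr H hf)
  obtain ⟨χ, hχ⟩ := exists_mem_block hB
  have hf' : idem M B ∈ alg (Residue M) (⊤ : Subgroup H) ⊤ := idem_mem B
  have ha' := restr_mem H ha
  set c := lam χ (restr H a) with hc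
  refine ⟨c, ?_⟩
  have hembf : emb H (idem M B) = f := by rw [hBf, emb_restr H hf.suppIn]
  have hemb : f * a - c • f = emb H (idem M B * restr H a - c • idem M B) := by
    rw [map_sub, map_mul, map_smul, hembf, emb_restr H ha.1]
  rw [hemb]
  refine IsNilpotent.map ?_ (emb H)
  set y := idem M B * restr H a - c • idem M B with hy
  have hlamf : lam χ (idem M B) = 1 := by rw [lam_idem hB χ, if_pos hχ]
  have hlamc : lam χ (c • idem M B) = c := by
    have hint : IsIntClass M fun g => liftRes c * blockCoeff B g :=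
      ⟨fun g x => by simp only [isClassFunction_blockCoeff B g x],
        fun g => memLocalRing_mul (liftRes_mem c) (blockCoeff_mem hB g)⟩
    have he : c • idem M B = redFun M fun g => liftRes c * blockCoeff B g :=
      coeff_ext fun g => by
        rw [coeff_redFun, red_mul (liftRes_mem c) (blockCoeff_mem hB g), red_liftRes,
          MonoidAlgebra.coeff_smul_apply, smul_eq_mul, idem, coeff_redFun]
    have hom : omega (χ : H → ℂ) (fun g => liftRes c * blockCoeff B g) =
        liftRes c * omega (χ : H → ℂ) (blockCoeff B) := by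
      simp only [omega, mul_assoc, ← Finset.mul_sum, mul_div_assoc]
    rw [he, lam_redFun χ hint, hom, omega_blockCoeff, if_pos hχ, mul_one, red_liftRes]
  have hym : y ∈ alg (Residue M) (⊤ : Subgroup H) ⊤ :=
    sub_mem (mul_mem hf' ha') ((alg (Residue M) (⊤ : Subgroup H) ⊤).smul_mem hf' c)
  have hlamy : lam χ y = 0 := by
    rw [hy, lam_sub χ (mul_mem hf' ha') ((alg (Residue M) (⊤ : Subgroup H) ⊤).smul_mem hf' c),
      lam_mul χ hf' ha', hlamf, one_mul, hlamc, ← hc, sub_self]
  rcases (isBlk_idem hM hB).nilpotent_or_inv (alg_comm le_rfl) hym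
    (by rw [hy, mul_sub, mul_smul_comm, ← mul_assoc, idem_idem hB]) with h | ⟨w, hw, h⟩
  · exact h
  · exfalso
    have := lam_mul χ hym hw
    rw [h, hlamf, hlamy, zero_mul] at this
    exact one_ne_zero this

theorem isSplit_of_isPair (hM : IsPModular p M) (R : Subgroup G)
    (f : MonoidAlgebra (Residue M) G) (h : IsPair p (R, f)) : IsSplit C[R] f :=
  isSplit_of_isBlk hM _ h.2

variable {B : Set (IrrCharacter G)} {P : Subgroup G} {e : Set (IrrCharacter C[P])}

/-- The group algebra data of a maximal pair. -/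
theorem maxPair_data (hM : IsPModular p M) (hmax : IsMaximalBrauerPair p M B P e) :
    IsPair p (P, idemIn M C[P] e) ∧ IsBlk (Residue M) (⊤ : Subgroup G) (idem M B) ∧
      IsMaxPair p (idem M B) (P, idemIn M C[P] e) := by
  obtain ⟨h1, h2, h3⟩ := (isMaximalBrauerPair_iff hM).mp hmax
  exact ⟨isPair_toPair hM h1, isBlk_idem hM h2, h3⟩

theorem ple_of_subpairLE (hM : IsPModular p M) (hmax : IsMaximalBrauerPair p M B P e)
    {Q : Subgroup G} {f : Set (IrrCharacter C[Q])} (h : SubpairLE p M Q f P e) :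
    PLE p (Q, idemIn M C[Q] f) (P, idemIn M C[P] e) :=
  ((subpairLE_iff hM hmax.1.1).mp h).2

theorem carries_iff (hM : IsPModular p M) (hmax : IsMaximalBrauerPair p M B P e) {Q : Subgroup G}
    {g : G} :
    Carries p (P, idemIn M C[P] e) Q g ↔
      ∃ f : Set (IrrCharacter C[Q]), SubpairLE p M Q f P e ∧
        SubpairLE p M (Q.map (MulAut.conj g).toMonoidHom) (conjBlock Q g f) P e := by
  haveI := charP_residue hM
  constructor
  · rintro ⟨f, h1, h2⟩
    obtain ⟨f', hf', hff'⟩ := exists_toPair_eq hM (PLE.isPair h1 (maxPair_data hM hmax).1)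
    refine ⟨f', (subpairLE_iff hM hmax.1.1).mpr ⟨hf', hff'.symm ▸ h1⟩,
      (subpairLE_iff hM hmax.1.1).mpr ⟨isBrauerPair_conjBlock hf' g, ?_⟩⟩
    rw [← cjPair_toPair, hff']
    exact h2
  · rintro ⟨f, h1, h2⟩
    refine ⟨idemIn M C[Q] f, ((subpairLE_iff hM hmax.1.1).mp h1).2, ?_⟩
    have h3 := ((subpairLE_iff hM hmax.1.1).mp h2).2
    rw [← cjPair_toPair] at h3
    exact h3

/-- The fusion system of the block is that of its pair in the residue group algebra. -/
theorem eq_blockSystem [CharP (Residue M) p] (hM : IsPModular p M)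
    (hmax : IsMaximalBrauerPair p M B P e) {F : FusionSystem P}
    (hF : IsBlockFusionSystemOn p M B P e F) :
    F = blockSystem (maxPair_data hM hmax).1 := by
  refine Fusion.ext_hom fun Q => Set.ext fun φ => ?_
  rw [hF.2 Q φ]
  constructor
  · rintro ⟨-, g, hg, -, hC⟩
    exact ⟨g, hg, (carries_iff hM hmax).mpr hC⟩
  · rintro ⟨g, hg, hC⟩
    exact ⟨hC.le, g, hg, hC.map_le, (carries_iff hM hmax).mp hC⟩

theorem isBlockFusionSystemOn_blockSystem [CharP (Residue M) p] (hM : IsPModular p M)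
    (hmax : IsMaximalBrauerPair p M B P e) :
    IsBlockFusionSystemOn p M B P e (blockSystem (maxPair_data hM hmax).1) :=
  ⟨hmax, fun Q φ => ⟨fun ⟨g, hg, hC⟩ =>
    ⟨hC.le, g, hg, hC.map_le, (carries_iff hM hmax).mp hC⟩,
    fun ⟨_, g, hg, _, hC⟩ => ⟨g, hg, (carries_iff hM hmax).mpr hC⟩⟩⟩

theorem mem_stab_idemIn_iff (hM : IsPModular p M) {Q : Subgroup G} {f : Set (IrrCharacter C[Q])}
    (hf : IsPBlock M f) {y : G} :
    y ∈ stab Q (idemIn M C[Q] f) ↔ y ∈ N[Q] ∧ StabilizesBlock C[Q] f y := by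
  rw [mem_stab, stabilizesBlock_iff hM hf]
  exact ⟨fun h => ⟨h.1, map_normalizer_centralizer h.1, h.2⟩, fun h => ⟨h.1, h.2.2⟩⟩

theorem stab_eq (hM : IsPModular p M) {Q T : Subgroup G} {f : Set (IrrCharacter C[Q])}
    (hf : IsPBlock M f) (hT : ∀ y : G, y ∈ T ↔ y ∈ N[Q] ∧ StabilizesBlock C[Q] f y) :
    stab Q (idemIn M C[Q] f) = T :=
  Subgroup.ext fun y => by rw [mem_stab_idemIn_iff hM hf, hT]

end CfsgLib.BrauerPairs
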