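import Cfsg.Agent.BrauerPairs.NilpotentLocal
import Cfsg.Agent.BrauerPairs.FusionBridge

/-!
# Nilpotent blocks of characters
-/

namespace CfsgLib.BrauerPairs

open Cfsg CfsgLib.Block CfsgLib.Block.Chr

universe u

variable {G : Type u} [Group G] [Fintype G] {M : Ideal AlgInt} [M.IsPrime] {p : ℕ}
  [hp : Fact p.Prime]

local notation "C[" Q "]" => Subgroup.centralizer (SetLike.coe Q)

theorem isNilpotentBlock_iff (hM : IsPModular p M) {B : Set (IrrCharacter G)} :
    IsNilpotentBlock p M B ↔ IsPBlock M B ∧ IsNil p (idem M B) := by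
  refine ⟨fun ⟨hB, h⟩ => ⟨hB, fun Q f hQ t ht hreg => ?_⟩,
    fun ⟨hB, h⟩ => ⟨hB, fun Q f hQ x hx hst hreg => ?_⟩⟩
  · obtain ⟨f', hf', hff'⟩ := exists_toPair_eq hM (Q := Q) (f := f) hQ.1
    rw [← hff'] at hQ
    obtain rfl : idemIn M C[Q] f' = f := congrArg Prod.snd hff'
    obtain ⟨hx, hst⟩ := (mem_stab_idemIn_iff hM hf'.2).mp ht
    exact h Q f' ((isBrauerPairOf_iff hM).mpr ⟨hf', hB, hQ⟩) t hx hst hreg
  · obtain ⟨hf, -, hpair⟩ := (isBrauerPairOf_iff hM).mp hQ
    exact h Q (idemIn M C[Q] f) hpair x ((mem_stab_idemIn_iff hM hf.2).mpr ⟨hx, hst⟩) hreg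

omit hp in
/-- The residue idempotent of a block of a subgroup, seen in that subgroup. -/
theorem restr_idemIn (H : Subgroup G) [Fintype H] (F : Set (IrrCharacter H)) :
    restr H (idemIn M H F) = idem M F := by
  refine coeff_ext fun g => ?_
  rw [idemIn_eq, restr, coeff_ofFun, coeff_emb_coe]

end CfsgLib.BrauerPairs
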