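import Cfsg.Agent.BrauerPairs.LocalBridge
import Cfsg.Agent.Blocks.Cover
import Mathlib.RingTheory.Jacobson.Ideal

/-!
# Defect groups of covering blocks meet the normal subgroup in a defect group (Knörr)
-/

set_option autoImplicit false
set_option linter.style.haveILetI false
set_option linter.unusedSectionVars false

namespace CfsgLib.BrauerPairs

open Cfsg CfsgLib.Block CfsgLib.Block.Chr CfsgLib.Char MonoidAlgebra

universe u

/-! ### An idempotent in a graded ring whose neutral part is central and nil -/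

section graded

variable {R : Type*} [Ring R]

theorem mem_jacobson_of_central_nilpotent {z : R} (hz : IsNilpotent z)
    (hc : ∀ r : R, Commute z r) : z ∈ Ideal.jacobson (⊥ : Ideal R) := by
  rw [Ideal.mem_jacobson_iff]
  intro y
  have hn : IsNilpotent (y * z) := (hc y).symm.isNilpotent_mul_left hz
  obtain ⟨w, hw⟩ := hn.isUnit_add_one
  refine ⟨((w⁻¹ : Rˣ) : R), ?_⟩
  rw [Ideal.mem_bot, sub_eq_zero, mul_assoc]
  have h := w.inv_mul
  rw [hw, mul_add, mul_one] at h
  exact h

theorem idem_eq_zero_of_mem_jacobson {f : R} (hf : f * f = f)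
    (h : f ∈ Ideal.jacobson (⊥ : Ideal R)) : f = 0 := by
  rw [Ideal.mem_jacobson_iff] at h
  obtain ⟨w, hw⟩ := h (-1)
  rw [Ideal.mem_bot, sub_eq_zero] at hw
  calc f = (w * (-1) * f + w) * f := by rw [hw, one_mul]
    _ = -(w * (f * f)) + w * f := by
      simp only [mul_neg, mul_one, neg_mul, add_mul, mul_assoc]
    _ = 0 := by rw [hf, neg_add_cancel]

/-- An idempotent which is a sum of homogeneous elements vanishes if the neutral products are
central and nilpotent. -/
theorem eq_zero_of_graded {Γ : Type*} [Group Γ] [Fintype Γ] (X : Γ → Set R)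
    (hmul : ∀ q r, ∀ x ∈ X q, ∀ y ∈ X r, x * y ∈ X (q * r))
    (hone : ∀ z ∈ X 1, IsNilpotent z ∧ ∀ r : R, Commute z r)
    {f : R} (hf : f * f = f) {j : Γ → R} (hj : ∀ q, j q ∈ X q) (hsum : f = ∑ q, j q) : f = 0 := by
  classical
  have key : ∀ m : ℕ, ∀ (a : R) (S : Finset Γ), (Finset.univ \ S).card ≤ m → 1 ∉ S →
      (∀ s ∈ S, ∃ c u, u ∈ X s ∧ a = c * u) → a * f ∈ Ideal.jacobson (⊥ : Ideal R) := by
    intro m
    induction m with
    | zero =>
      intro a S hS h1 _
      rw [Nat.le_zero, Finset.card_eq_zero] at hS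
      exact absurd (by_contra fun h => (Finset.notMem_empty (1 : Γ))
        (hS ▸ Finset.mem_sdiff.2 ⟨Finset.mem_univ _, h⟩)) h1
    | succ m ih =>
      intro a S hS h1 hfac
      have e : a * f = ∑ q, a * j q * f := by
        conv_lhs => rw [← hf]
        nth_rewrite 1 [hsum]
        rw [Finset.sum_mul, Finset.mul_sum]
        exact Finset.sum_congr rfl fun q _ => (mul_assoc a (j q) f).symm
      rw [e]
      refine Ideal.sum_mem _ fun q _ => ?_
      set S' := insert q (S.image (· * q))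
      have hfac' : ∀ s ∈ S', ∃ c u, u ∈ X s ∧ a * j q = c * u := by
        intro s hs
        rcases Finset.mem_insert.1 hs with rfl | hs
        · exact ⟨a, j s, hj s, rfl⟩
        · obtain ⟨t, ht, rfl⟩ := Finset.mem_image.1 hs
          obtain ⟨c, u, hu, hau⟩ := hfac t ht
          exact ⟨c, u * j q, hmul t q u hu _ (hj q), by rw [hau, mul_assoc]⟩
      by_cases h1' : (1 : Γ) ∈ S'
      · obtain ⟨c, z, hz, haz⟩ := hfac' 1 h1'
        rw [haz, mul_assoc, ((hone z hz).2 f).eq, ← mul_assoc]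
        exact Ideal.mul_mem_left _ _
          (mem_jacobson_of_central_nilpotent (hone z hz).1 (hone z hz).2)
      · refine ih (a * j q) S' ?_ h1' hfac'
        have hcard : S'.card = S.card + 1 := by
          rw [Finset.card_insert_of_notMem, Finset.card_image_of_injective _ (mul_left_injective q)]
          intro h
          obtain ⟨t, ht, htq⟩ := Finset.mem_image.1 h
          exact h1 (by rwa [mul_eq_right.1 htq] at ht)
        rw [Finset.card_sdiff_of_subset (Finset.subset_univ _)] at hS ⊢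
        omega
  have h := key _ 1 ∅ le_rfl (Finset.notMem_empty _) (fun s hs => absurd hs (Finset.notMem_empty s))
  rw [one_mul] at h
  exact idem_eq_zero_of_mem_jacobson hf h

end graded

/-! ### Covering in the residue group algebra -/

variable {G : Type u} [Group G] [Fintype G] {M : Ideal AlgInt} [M.IsPrime] {p : ℕ}
  [hp : Fact p.Prime] {N : Subgroup G} [hN : N.Normal] [Fintype N]

omit hp in
/-- The idempotent of a conjugate block. -/
theorem idemIn_conjIrr {b b' : Set (IrrCharacter N)} (hb : IsPBlock M b) (hb' : IsPBlock M b')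
    {g : G} {θ : IrrCharacter N} (hθ : θ ∈ b) (hg : conjIrr g θ ∈ b') :
    idemIn M N b' = cj (Residue M) g⁻¹ (idemIn M N b) := by
  classical
  letI := irrFintype (G := N)
  refine coeff_ext fun x => ?_
  rw [coeff_cj, coeff_idemIn, coeff_idemIn, inv_inv]
  congr 1
  by_cases hx : x ∈ N
  · have hx' : g * x * g⁻¹ ∈ N := hN.conj_mem x hx g
    rw [show x = ((⟨x, hx⟩ : N) : G) from rfl, subgroupBlockCoeff_coe,
      show g * ((⟨x, hx⟩ : N) : G) * g⁻¹ = ((⟨g * x * g⁻¹, hx'⟩ : N) : G) from rfl,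
      subgroupBlockCoeff_coe, blockCoeff_eq_sum, blockCoeff_eq_sum]
    congr 1
    refine Finset.sum_bij' (fun φ _ => conjIrr g⁻¹ φ) (fun φ _ => conjIrr g φ) (fun φ hφ => ?_)
      (fun φ hφ => ?_) (fun φ _ => ?_) (fun φ _ => ?_) (fun φ _ => ?_)
    · refine Finset.mem_filter.2 ⟨Finset.mem_univ _, (sameBlock_iff_mem hb hθ).2 ?_⟩
      have h := sameBlock_conjIrr (M := M) g⁻¹
        (sameBlock_of_mem hb' hg (Finset.mem_filter.1 hφ).2)
      rwa [show conjIrr g⁻¹ (conjIrr g θ) = θ from Subtype.ext (by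
        simp only [conjIrr_coe]; rw [conjOn_conjOn, mul_inv_cancel, conjOn_one])] at h
    · exact Finset.mem_filter.2 ⟨Finset.mem_univ _, (sameBlock_iff_mem hb' hg).2
        (sameBlock_conjIrr g (sameBlock_of_mem hb hθ (Finset.mem_filter.1 hφ).2))⟩
    · refine Subtype.ext ?_
      simp only [conjIrr_coe]; rw [conjOn_conjOn, inv_mul_cancel, conjOn_one]
    · refine Subtype.ext ?_
      simp only [conjIrr_coe]; rw [conjOn_conjOn, mul_inv_cancel, conjOn_one]
    · rw [conjIrr_coe, conjOn_apply_one, conjOn_apply]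
      simp [mul_assoc]
  · rw [subgroupBlockCoeff_not_mem b' hx, subgroupBlockCoeff_not_mem b fun h => hx (by
      have := hN.conj_mem _ h g⁻¹
      simpa [mul_assoc] using this)]

omit hp in
theorem idem_fixBy (B : Set (IrrCharacter G)) (T : Subgroup G) : FixBy T (idem M B) :=
  (idem_mem B).2.mono le_top

omit hp in
theorem idem_central (B : Set (IrrCharacter G)) (a : MonoidAlgebra (Residue M) G) :
    idem M B * a = a * idem M B :=
  (alg_commute le_rfl (suppIn_top a) (idem_mem B).2).symm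

/-- A block of the normal subgroup below a covering block is a conjugate of the covered one. -/
theorem exists_conj_of_mul_ne_zero (hM : IsPModular p M) {B : Set (IrrCharacter G)}
    (hB : IsPBlock M B) {b : Set (IrrCharacter N)} (hb : IsPBlock M b) {χ : IrrCharacter G}
    (hχ : χ ∈ B) {θ : IrrCharacter N} (hθ : θ ∈ b)
    (hc : classInner (fun n : N => (χ : G → ℂ) n) (θ : N → ℂ) ≠ 0)
    {e : MonoidAlgebra (Residue M) G} (he : IsBlk (Residue M) N e) (hne : idem M B * e ≠ 0) :
    ∃ g : G, e = cj (Residue M) g (idemIn M N b) := by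
  classical
  obtain ⟨b', hb', rfl⟩ := exists_idemIn_eq hM he
  have hI := isIntClass_coverFun (M := M) (G := G) hb
  have hres : IsIntClass M (blockCoeff (orbitUnion (G := G) b)) :=
    resFun_coverFun (G := G) b ▸ isIntClass_resFun N hI
  set ĉ := redFun M (coverFun (G := G) b) with hĉ
  have hĉm : ĉ ∈ alg (Residue M) ⊤ ⊤ := redFun_mem hI.1
  have hcN : ĉ = emb N (redFun M (blockCoeff (orbitUnion (G := G) b))) := by
    refine coeff_ext fun x => ?_
    by_cases hx : x ∈ N
    · rw [show x = ((⟨x, hx⟩ : N) : G) from rfl, coeff_emb_coe, hĉ, coeff_redFun, coeff_redFun,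
        ← resFun_coverFun]
      rfl
    · rw [coeff_emb_not_mem N _ hx, hĉ, coeff_redFun, coverFun_not_mem b hx, red_zero]
  have hidemU : redFun M (blockCoeff (orbitUnion (G := G) b)) *
      redFun M (blockCoeff (orbitUnion (G := G) b)) =
        redFun M (blockCoeff (orbitUnion (G := G) b)) := by
    rw [← redFun_conv hres.2 hres.2, conv_blockCoeff_self]
  have hĉi : ĉ * ĉ = ĉ := by rw [hcN, ← map_mul, hidemU]
  have hBc : ĉ * idem M B = idem M B := by
    refine (mul_idem_eq_iff hM hB hĉm hĉi).2 fun χ' hχ' => ?_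
    rw [hĉ, lam_redFun χ' hI, ← red_one, red_eq_iff (omega_mem χ' hI) memLocalRing_one]
    have h := omega_cong (sameBlock_of_mem hB hχ' hχ) hI
    rwa [omega_coverFun hc hb, if_pos (self_mem_orbitUnion hθ)] at h
  by_cases hU : ∃ φ ∈ b', φ ∈ orbitUnion (G := G) b
  · obtain ⟨φ, hφ, g, η, hη, rfl⟩ := hU
    exact ⟨g⁻¹, idemIn_conjIrr hb hb' hη hφ⟩
  · exfalso
    push Not at hU
    apply hne
    have h0 : redFun M (blockCoeff (orbitUnion (G := G) b)) * idem M b' = 0 := by
      have hm : redFun M (blockCoeff (orbitUnion (G := G) b)) ∈ alg (Residue M) ⊤ ⊤ :=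
        redFun_mem hres.1
      rcases (isBlk_idem hM hb').mul_eq_zero_or hm hidemU with h | h
      · rw [alg_commute le_rfl hm.1 (idem_mem b').2]; exact h
      · exfalso
        obtain ⟨φ, hφ⟩ := exists_mem_block hb'
        rw [← alg_commute le_rfl hm.1 (idem_mem b').2] at h
        have h1 := (mul_idem_eq_iff hM hb' hm hidemU).1 h φ hφ
        rw [lam_redFun φ hres, omega_blockCoeff, if_neg (hU φ hφ), red_zero] at h1
        exact zero_ne_one h1
    rw [← hBc, idemIn_eq, hcN, alg_commute le_rfl (suppIn_top _) (idem_mem B).2, mul_assoc,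
      ← map_mul, h0, map_zero, mul_zero]

/-- Some idempotent of a block of `N` surviving truncation also meets the block `B`. -/
theorem exists_blk_br (hM : IsPModular p M) {B : Set (IrrCharacter G)} {R : Subgroup G}
    (hR : IsPGroup p R) (hRN : R ≤ N) (h : br R (idem M B) ≠ 0) :
    ∃ e, IsBlk (Residue M) N e ∧ idem M B * e ≠ 0 ∧ br R e ≠ 0 := by
  classical
  haveI := charP_residue hM
  have hS := alg_comm (k := Residue M) (le_refl N)
  by_contra hne
  push Not at hne
  apply h
  rw [← mul_one (idem M B), ← sum_primFinset hS, Finset.mul_sum, map_sum]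
  refine Finset.sum_eq_zero fun e he => ?_
  have heb : IsBlk (Residue M) N e := (mem_primFinset hS).mp he
  by_cases h0 : idem M B * e = 0
  · rw [h0, map_zero]
  · rw [br_mul hR (idem_fixBy B R) (heb.fixBy.mono hRN), hne e heb h0, mul_zero]

omit hp in
theorem covered_mul_ne_zero (hM : IsPModular p M) {B : Set (IrrCharacter G)}
    (hB : IsPBlock M B) {b : Set (IrrCharacter N)} (hb : IsPBlock M b) {χ : IrrCharacter G}
    (hχ : χ ∈ B) {θ : IrrCharacter N} (hθ : θ ∈ b)
    (hc : classInner (fun n : N => (χ : G → ℂ) n) (θ : N → ℂ) ≠ 0) :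
    idem M B * idemIn M N b ≠ 0 := by
  haveI : Fact p.Prime := ⟨hM.1⟩
  haveI := charP_residue hM
  intro h0
  obtain ⟨e, he, hne⟩ := exists_prim_mul_ne_zero (alg_comm (k := Residue M) (le_refl N))
    (idem_ne_zero hB)
  rw [← idem_central B e] at hne
  obtain ⟨g, rfl⟩ := exists_conj_of_mul_ne_zero hM hB hb hχ hθ hc he hne
  apply hne
  rw [← idem_fixBy (M := M) B ⊤ g (Subgroup.mem_top g), ← map_mul, h0, map_zero]

/-- Keep the coefficients in one coset. -/
noncomputable def cosetPart (N : Subgroup G) (q : G ⧸ N) (a : MonoidAlgebra (Residue M) G) :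
    MonoidAlgebra (Residue M) G :=
  open Classical in ofFun fun g => if (g : G ⧸ N) = q then a.coeff g else 0

theorem sum_cosetPart [Fintype (G ⧸ N)] (a : MonoidAlgebra (Residue M) G) :
    ∑ q : G ⧸ N, cosetPart N q a = a := by
  classical
  refine coeff_ext fun g => ?_
  rw [MonoidAlgebra.coeff_sum, Finsupp.finsetSum_apply, Finset.sum_eq_single (g : G ⧸ N)]
  · simp [cosetPart]
  · intro q _ hq; simp [cosetPart, Ne.symm hq]
  · simp

theorem fixBy_cosetPart (q : G ⧸ N) {a : MonoidAlgebra (Residue M) G} (h : FixBy N a) :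
    FixBy N (cosetPart N q a) := by
  classical
  refine fixBy_of_coeff fun t ht g => ?_
  have he : ((t⁻¹ * g * t : G) : G ⧸ N) = (g : G ⧸ N) := by
    refine QuotientGroup.eq.2 ?_
    have h1 := hN.conj_mem t ht g⁻¹
    have h2 := N.mul_mem (N.inv_mem ht) (N.mul_mem h1 (N.one_mem))
    have e : (t⁻¹ * g * t)⁻¹ * g = t⁻¹ * (g⁻¹ * t * g⁻¹⁻¹ * 1) := by group
    rw [e]
    exact h2
  simp only [cosetPart, coeff_ofFun, he, h.coeff_eq ht g]

theorem br_cosetPart (Q : Subgroup G) (q : G ⧸ N) {a : MonoidAlgebra (Residue M) G}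
    (h : br Q a = 0) : br Q (cosetPart N q a) = 0 := by
  classical
  refine coeff_ext fun g => ?_
  have hg := congrArg (fun x : MonoidAlgebra (Residue M) G => x.coeff g) h
  simp only [coeff_br, MonoidAlgebra.coeff_zero, Finsupp.zero_apply] at hg ⊢
  by_cases hC : g ∈ Subgroup.centralizer (Q : Set G)
  · rw [if_pos hC] at hg ⊢
    simp [cosetPart, hg]
  · rw [if_neg hC]

/-- A defect group of the covered block is conjugate into a defect group of the covering block. -/
theorem exists_conj_covered_le (hM : IsPModular p M) {B : Set (IrrCharacter G)}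
    (hB : IsPBlock M B) {b : Set (IrrCharacter N)} (hb : IsPBlock M b) {χ : IrrCharacter G}
    (hχ : χ ∈ B) {θ : IrrCharacter N} (hθ : θ ∈ b)
    (hc : classInner (fun n : N => (χ : G → ℂ) n) (θ : N → ℂ) ≠ 0)
    {Q : Subgroup G} (hQp : IsPGroup p Q) (hQN : Q ≤ N) (hQ : br Q (idemIn M N b) ≠ 0)
    {P : Subgroup G} (hP : IsDefectGroup p M B P) :
    ∃ x : G, Q.map (MulAut.conj x).toMonoidHom ≤ P := by
  classical
  haveI := charP_residue hM
  by_contra hno
  push Not at hno
  set eB := idem M B with heB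
  set eb := idemIn M N b with heb
  have hbb := isBlk_idemIn hM hb
  have hbrB : br Q eB = 0 := by
    obtain ⟨-, -, ⟨a, ha, hea⟩, -⟩ := (isDefectGroup_iff hM hB).1 hP
    by_contra h
    rw [heB, hea] at h
    obtain ⟨x, -, hx⟩ := exists_conj_le_of_br_tr_ne_zero hQp le_top ha.2 h
    exact hno x hx
  haveI : Fintype (G ⧸ N) := Fintype.ofFinite _
  let R := ↥(alg (Residue M) (⊤ : Subgroup G) N)
  let X : G ⧸ N → Set R := fun q =>
    {x | (∀ g : G, (g : G ⧸ N) ≠ q → (x : MonoidAlgebra (Residue M) G).coeff g = 0) ∧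
      br Q (x : MonoidAlgebra (Residue M) G) = 0 ∧
        (x : MonoidAlgebra (Residue M) G) * eb = x}
  have hfixeB : FixBy N eB := idem_fixBy B N
  have hbf : FixBy Q eb := hbb.fixBy.mono hQN
  have hjm : ∀ q, cosetPart N q eB * eb ∈ alg (Residue M) (⊤ : Subgroup G) N := fun q =>
    mul_mem ⟨suppIn_top _, fixBy_cosetPart q hfixeB⟩ (alg_mono le_top le_rfl hbb.mem)
  let j : G ⧸ N → R := fun q => ⟨_, hjm q⟩
  have hj : ∀ q, j q ∈ X q := by
    intro q
    refine ⟨fun g hg => ?_, ?_, ?_⟩
    · show (cosetPart N q eB * eb).coeff g = 0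
      rw [coeff_mul]
      refine Finset.sum_eq_zero fun x _ => ?_
      by_cases hx : (x : G ⧸ N) = q
      · rw [hbb.suppIn (x⁻¹ * g) fun h => hg (by rw [← hx]; exact (QuotientGroup.eq.2 h).symm),
          mul_zero]
      · simp [cosetPart, hx]
    · show br Q (cosetPart N q eB * eb) = 0
      rw [br_mul hQp ((fixBy_cosetPart q hfixeB).mono hQN) hbf, br_cosetPart Q q hbrB, zero_mul]
    · show cosetPart N q eB * eb * eb = cosetPart N q eB * eb
      rw [mul_assoc, hbb.idem]
  have hmul : ∀ q r, ∀ x ∈ X q, ∀ y ∈ X r, x * y ∈ X (q * r) := by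
    rintro q r x ⟨hx1, hx2, -⟩ y ⟨hy1, -, hy3⟩
    refine ⟨fun g hg => ?_, ?_, ?_⟩
    · show ((x : MonoidAlgebra (Residue M) G) * (y : MonoidAlgebra (Residue M) G)).coeff g = 0
      rw [coeff_mul]
      refine Finset.sum_eq_zero fun a _ => ?_
      by_cases ha : (a : G ⧸ N) = q
      · rw [hy1 (a⁻¹ * g) fun h => hg ?_, mul_zero]
        rw [← ha, ← h, QuotientGroup.mk_mul, QuotientGroup.mk_inv, mul_inv_cancel_left]
      · rw [hx1 a ha, zero_mul]
    · show br Q ((x : MonoidAlgebra (Residue M) G) * (y : MonoidAlgebra (Residue M) G)) = 0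
      rw [br_mul hQp (x.2.2.mono hQN) (y.2.2.mono hQN), hx2, zero_mul]
    · show (x : MonoidAlgebra (Residue M) G) * (y : MonoidAlgebra (Residue M) G) * eb = _
      rw [mul_assoc, hy3]
      rfl
  have hone : ∀ z ∈ X 1, IsNilpotent z ∧ ∀ r : R, Commute z r := by
    rintro z ⟨hz1, hz2, hz3⟩
    have hzs : SuppIn N (z : MonoidAlgebra (Residue M) G) := fun g hg =>
      hz1 g fun h => hg ((QuotientGroup.eq_one_iff g).1 h)
    refine ⟨?_, fun r => Subtype.ext (alg_commute le_rfl hzs r.2.2)⟩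
    have hzm : (z : MonoidAlgebra (Residue M) G) ∈ alg (Residue M) N N := ⟨hzs, z.2.2⟩
    rcases IsPrimIdem.nilpotent_or_inv (alg_comm (k := Residue M) (le_refl N)) hbb hzm
      (by rw [alg_commute le_rfl hbb.suppIn z.2.2]; exact hz3) with ⟨n, hn⟩ | ⟨c, hc', hinv⟩
    · exact ⟨n, Subtype.ext (by rw [SubmonoidClass.coe_pow]; exact hn)⟩
    · exfalso
      apply hQ
      rw [show eb = (z : MonoidAlgebra (Residue M) G) * c from heb.trans hinv.symm, br_mul hQp (z.2.2.mono hQN) (hc'.2.mono hQN), hz2, zero_mul]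
  have hfm : eB * eb ∈ alg (Residue M) (⊤ : Subgroup G) N :=
    mul_mem ⟨suppIn_top _, hfixeB⟩ (alg_mono le_top le_rfl hbb.mem)
  have hf : (⟨_, hfm⟩ : R) * ⟨_, hfm⟩ = ⟨_, hfm⟩ := Subtype.ext (by
    show eB * eb * (eB * eb) = eB * eb
    rw [mul_assoc, ← mul_assoc eb, ← idem_central B eb, ← mul_assoc, ← mul_assoc, ← heB,
      idem_idem hB, mul_assoc, hbb.idem])
  have h0 := eq_zero_of_graded X hmul hone hf hj (Subtype.ext (by
    show eB * eb = ((∑ q, j q : R) : MonoidAlgebra (Residue M) G)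
    rw [AddSubmonoidClass.coe_finsetSum]
    show eB * eb = ∑ q, cosetPart N q eB * eb
    rw [← Finset.sum_mul, sum_cosetPart]))
  exact covered_mul_ne_zero hM hB hb hχ hθ hc (congrArg Subtype.val h0)

/-- **Knörr**: some defect group of a covering block meets `N` in the given defect group. -/
theorem exists_defectGroup_inf_eq (hM : IsPModular p M) {B : Set (IrrCharacter G)}
    (hB : IsPBlock M B) {b : Set (IrrCharacter N)} (hb : IsPBlock M b) {χ : IrrCharacter G}
    (hχ : χ ∈ B) {θ : IrrCharacter N} (hθ : θ ∈ b)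
    (hc : classInner (fun n : N => (χ : G → ℂ) n) (θ : N → ℂ) ≠ 0)
    {Q : Subgroup G} (hQN : Q ≤ N) (hQ : IsDefectGroup p M b (Q.subgroupOf N)) :
    ∃ P : Subgroup G, IsDefectGroup p M B P ∧ P ⊓ N = Q := by
  classical
  haveI := charP_residue hM
  obtain ⟨hQp, -, hQbr, hQmax⟩ := (isDefectGroup_sub_iff_of_le hM N hb hQN).1 hQ
  obtain ⟨P₀, hP₀⟩ := exists_defectGroup (p := p) hB hM
  obtain ⟨x, hx⟩ := exists_conj_covered_le hM hB hb hχ hθ hc hQp hQN hQbr hP₀
  set P := P₀.map (MulAut.conj x⁻¹).toMonoidHom with hPdef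
  have hP : IsDefectGroup p M B P := isDefectGroup_conj hM hB hP₀ x⁻¹
  have hQP : Q ≤ P := by
    have := Subgroup.map_mono (f := (MulAut.conj x⁻¹).toMonoidHom) hx
    rwa [map_conj_map_conj, inv_mul_cancel, map_conj_one] at this
  refine ⟨P, hP, (Subgroup.eq_of_le_of_card_ge (le_inf hQP hQN) ?_).symm⟩
  set R := P ⊓ N with hR
  have hRp : IsPGroup p R := (isPGroup_defectGroup hP).to_le inf_le_left
  have hbrR : br R (idem M B) ≠ 0 := fun h => by
    obtain ⟨-, -, -, hPbr⟩ := (isDefectGroup_iff hM hB).1 hP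
    exact hPbr (by rw [← br_br_of_le (inf_le_left : R ≤ P), h, map_zero])
  obtain ⟨e, he, hBe, hbre⟩ := exists_blk_br hM hRp inf_le_right hbrR
  obtain ⟨g, rfl⟩ := exists_conj_of_mul_ne_zero hM hB hb hχ hθ hc he hBe
  have hRle : R.map (MulAut.conj g⁻¹).toMonoidHom ≤ N := by
    rintro _ ⟨u, hu, rfl⟩
    exact hN.conj_mem u (inf_le_right (a := P) hu) g⁻¹
  have hne : br (R.map (MulAut.conj g⁻¹).toMonoidHom) (idemIn M N b) ≠ 0 := by
    intro h
    have h1 := congrArg (cj (Residue M) g) h
    rw [cj_br, map_conj_map_conj, mul_inv_cancel, map_conj_one, map_zero] at h1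
    exact hbre h1
  have := hQmax _ (hRp.map _) hRle hne
  rwa [Subgroup.card_map_of_injective (MulEquiv.injective _)] at this

end CfsgLib.BrauerPairs
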