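import Mathlib.Algebra.Algebra.Subalgebra.Basic
import Mathlib.RingTheory.IntegralClosure.IsIntegral.Basic
import Mathlib.FieldTheory.Minpoly.Field
import Mathlib.LinearAlgebra.Dimension.Finite
import Mathlib.LinearAlgebra.FiniteDimensional.Lemmas
import Mathlib.RingTheory.Nilpotent.Basic

/-!
# Primitive idempotents of a commutative subalgebra of a finite-dimensional algebra
-/

namespace CfsgLib.BrauerPairs

variable {k : Type*} [Field k] {A : Type*} [Ring A] [Algebra k A]

/-- A primitive idempotent of the (commutative) subalgebra `S`. -/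
def IsPrimIdem (S : Subalgebra k A) (e : A) : Prop :=
  e ∈ S ∧ e ≠ 0 ∧ e * e = e ∧ ∀ f ∈ S, f * f = f → e * f = 0 ∨ e * f = e

variable {S : Subalgebra k A}

namespace IsPrimIdem

variable {e : A}

theorem mem (h : IsPrimIdem S e) : e ∈ S := h.1
theorem ne_zero (h : IsPrimIdem S e) : e ≠ 0 := h.2.1
theorem idem (h : IsPrimIdem S e) : e * e = e := h.2.2.1

theorem mul_eq_zero_or (h : IsPrimIdem S e) {f : A} (hf : f ∈ S) (hff : f * f = f) :
    e * f = 0 ∨ e * f = e := h.2.2.2 f hf hff

theorem mul_eq_self (h : IsPrimIdem S e) {f : A} (hf : f ∈ S) (hff : f * f = f)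
    (hne : e * f ≠ 0) : e * f = e := (h.mul_eq_zero_or hf hff).resolve_left hne

/-- A primitive idempotent stays primitive in a smaller subalgebra that contains it. -/
theorem mono (h : IsPrimIdem S e) {S' : Subalgebra k A} (hle : S' ≤ S) (he : e ∈ S') :
    IsPrimIdem S' e := ⟨he, h.2.1, h.2.2.1, fun f hf => h.2.2.2 f (hle hf)⟩

/-- An algebra automorphism carries primitive idempotents to primitive idempotents. -/
theorem map (h : IsPrimIdem S e) (φ : A ≃ₐ[k] A) {S' : Subalgebra k A}
    (hS : ∀ a, a ∈ S ↔ φ a ∈ S') : IsPrimIdem S' (φ e) := by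
  refine ⟨(hS e).mp h.1, fun h0 => h.2.1 (φ.injective (h0.trans (map_zero φ).symm)),
    by rw [← map_mul, h.idem], fun f hf hff => ?_⟩
  obtain ⟨g, rfl⟩ := φ.surjective f
  rw [← map_mul]
  rcases h.2.2.2 g ((hS g).mpr hf) (φ.injective (by rw [map_mul, hff])) with h1 | h1
  · exact Or.inl (by rw [h1, map_zero])
  · exact Or.inr (by rw [h1])

end IsPrimIdem

variable [FiniteDimensional k A]

/-- Fitting: some positive power of an element of `S` is absorbed by an idempotent multiple of
itself. -/
theorem exists_idem_pow {a : A} (ha : a ∈ S) :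
    ∃ (n : ℕ) (c : A), 0 < n ∧ c ∈ S ∧ a ^ n * c * (a ^ n * c) = a ^ n * c ∧
      a ^ n * (a ^ n * c) = a ^ n := by
  have hint : IsIntegral k a := Algebra.IsIntegral.isIntegral a
  obtain ⟨q, hq, hndvd⟩ := Polynomial.exists_eq_pow_rootMultiplicity_mul_and_not_dvd
    (minpoly k a) (minpoly.ne_zero hint) 0
  rw [map_zero, sub_zero] at hq hndvd
  set m := Polynomial.rootMultiplicity 0 (minpoly k a) with hm
  have hq0 : q.coeff 0 ≠ 0 := fun h => hndvd (Polynomial.X_dvd_iff.mpr h)
  have hz : a ^ m * Polynomial.aeval a q = 0 := by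
    have := minpoly.aeval k a
    rwa [hq, map_mul, map_pow, Polynomial.aeval_X] at this
  let b : A := -(q.coeff 0)⁻¹ • Polynomial.aeval a q.divX
  have hb : b ∈ S := S.smul_mem (Algebra.adjoin_le (by simpa using ha)
    (Polynomial.aeval_mem_adjoin_singleton k a)) _
  have hab : Commute a b := by
    refine Commute.smul_right ?_ _
    exact ((Commute.all Polynomial.X q.divX).map (Polynomial.aeval a)).symm.symm |>
      fun h => by simpa using h
  have hrel : a ^ m = a ^ (m + 1) * b := by
    have h1 : Polynomial.aeval a q = a * Polynomial.aeval a q.divX + algebraMap k A (q.coeff 0) := by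
      conv_lhs => rw [← Polynomial.X_mul_divX_add q]
      simp only [map_add, map_mul, Polynomial.aeval_X, Polynomial.aeval_C]
    rw [h1, mul_add, ← mul_assoc, ← pow_succ] at hz
    simp only [b, mul_smul_comm]
    rw [eq_neg_of_add_eq_zero_left hz, neg_smul, smul_neg, neg_neg, ← Algebra.commutes,
      ← Algebra.smul_def, smul_smul, inv_mul_cancel₀ hq0, one_smul]
  have hiter : ∀ j, a ^ m = a ^ (m + j) * b ^ j := by
    intro j
    induction j with
    | zero => simp
    | succ j ih =>
      have hcm : ∀ i, a ^ m * b ^ i = b ^ i * a ^ m := fun i => (hab.pow_pow m i).eq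
      calc a ^ m = a ^ (m + j) * b ^ j := ih
        _ = a ^ j * a ^ m * b ^ j := by rw [← pow_add, add_comm m j]
        _ = a ^ j * (a ^ (m + 1) * b) * b ^ j := by rw [← hrel]
        _ = a ^ (m + (j + 1)) * b ^ (j + 1) := by
          rw [← mul_assoc, ← pow_add, mul_assoc, ← pow_succ']
          congr 2
          omega
  have hn : a ^ (m + 1) = a ^ (m + 1) * (a ^ (m + 1) * b ^ (m + 1)) := by
    have h2 := hiter (m + 1)
    calc a ^ (m + 1) = a * a ^ m := pow_succ' a m
      _ = a * (a ^ (m + (m + 1)) * b ^ (m + 1)) := by rw [← h2]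
      _ = a ^ (m + 1) * (a ^ (m + 1) * b ^ (m + 1)) := by
        rw [← mul_assoc, ← mul_assoc, ← pow_succ', ← pow_add]
        congr 2
        omega
  refine ⟨m + 1, b ^ (m + 1), Nat.succ_pos _, pow_mem hb _, ?_, hn.symm⟩
  have hcc : Commute (a ^ (m + 1)) (b ^ (m + 1)) := hab.pow_pow _ _
  calc a ^ (m + 1) * b ^ (m + 1) * (a ^ (m + 1) * b ^ (m + 1))
      = a ^ (m + 1) * (a ^ (m + 1) * b ^ (m + 1)) * b ^ (m + 1) := by
        rw [← mul_assoc, mul_assoc (a ^ (m + 1)) (b ^ (m + 1)) (a ^ (m + 1)), ← hcc.eq]
    _ = a ^ (m + 1) * b ^ (m + 1) := by rw [← hn]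

variable (hS : ∀ a ∈ S, ∀ b ∈ S, a * b = b * a)
include hS

/-- Below a primitive idempotent an element is nilpotent or invertible. -/
theorem IsPrimIdem.nilpotent_or_inv {e a : A} (he : IsPrimIdem S e) (ha : a ∈ S)
    (hea : e * a = a) : IsNilpotent a ∨ ∃ b ∈ S, a * b = e := by
  obtain ⟨n, c, hn, hc, hidem, habs⟩ := exists_idem_pow ha
  have hi : a ^ n * c ∈ S := mul_mem (pow_mem ha n) hc
  have hean : e * a ^ n = a ^ n := by
    obtain ⟨m, rfl⟩ := Nat.exists_eq_succ_of_ne_zero hn.ne'
    rw [pow_succ', ← mul_assoc, hea]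
  rcases he.mul_eq_zero_or hi hidem with h0 | h1
  · left
    refine ⟨n, ?_⟩
    calc a ^ n = e * (a ^ n * (a ^ n * c)) := by rw [habs, hean]
      _ = 0 := by rw [hS _ (pow_mem ha n) _ hi, ← mul_assoc, h0, zero_mul]
  · right
    obtain ⟨m, rfl⟩ := Nat.exists_eq_succ_of_ne_zero hn.ne'
    refine ⟨a ^ m * c * e, mul_mem (mul_mem (pow_mem ha m) hc) he.mem, ?_⟩
    rw [← mul_assoc, ← mul_assoc, ← pow_succ', hS _ hi _ he.mem]
    exact h1

theorem IsPrimIdem.mul_eq_zero_of_ne {e f : A} (he : IsPrimIdem S e) (hf : IsPrimIdem S f)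
    (hne : e ≠ f) : e * f = 0 := by
  rcases he.mul_eq_zero_or hf.mem hf.idem with h | h
  · exact h
  rcases hf.mul_eq_zero_or he.mem he.idem with h' | h'
  · rwa [hS _ he.mem _ hf.mem]
  · exact absurd (by rw [← h, hS _ he.mem _ hf.mem, h']) hne

/-- Every nonzero idempotent lies above a primitive one. -/
theorem exists_prim_le {i : A} (hi : i ∈ S) (hii : i * i = i) (h0 : i ≠ 0) :
    ∃ e, IsPrimIdem S e ∧ e * i = e := by
  classical
  let d : A → ℕ := fun j => Module.finrank k (S.toSubmodule.map (LinearMap.mulLeft k j))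
  have key : ∀ n, ∀ j ∈ S, j * j = j → j ≠ 0 → j * i = j → d j = n →
      ∃ e, IsPrimIdem S e ∧ e * i = e := by
    intro n
    induction n using Nat.strong_induction_on with
    | _ n ih =>
      intro j hj hjj hj0 hji hd
      by_cases hp : ∀ f ∈ S, f * f = f → j * f = 0 ∨ j * f = j
      · exact ⟨j, ⟨hj, hj0, hjj, hp⟩, hji⟩
      · simp only [not_forall, not_or] at hp
        obtain ⟨f, hf, hff, hf0, hfj⟩ := hp
        have hj' : j * f ∈ S := mul_mem hj hf
        refine ih _ ?_ (j * f) hj' ?_ hf0 ?_ rfl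
        · rw [← hd]
          refine Submodule.finrank_lt_finrank_of_lt (lt_of_le_of_ne ?_ ?_)
          · rintro _ ⟨s, hs, rfl⟩
            exact ⟨f * s, S.mul_mem hf hs, (mul_assoc j f s).symm⟩
          · intro heq
            have hmem : j ∈ S.toSubmodule.map (LinearMap.mulLeft k j) :=
              ⟨1, S.one_mem, mul_one j⟩
            rw [← heq] at hmem
            obtain ⟨s, hs, hsj⟩ := hmem
            simp only [LinearMap.mulLeft_apply] at hsj
            apply hfj
            calc j * f = j * f * j := by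
                  rw [mul_assoc j f j, hS f hf j hj, ← mul_assoc, hjj]
              _ = j * f * (j * f * s) := by rw [hsj]
              _ = j := by
                rw [← mul_assoc, show j * f * (j * f) = j * f by
                  rw [mul_assoc j f (j * f), ← mul_assoc f j f, hS f hf j hj, mul_assoc j f f, hff,
                    ← mul_assoc, hjj], hsj]
        · rw [mul_assoc j f (j * f), ← mul_assoc f j f, hS f hf j hj, mul_assoc j f f, hff,
            ← mul_assoc, hjj]
        · rw [mul_assoc, hS f hf i hi, ← mul_assoc, hji]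
  exact key _ i hi hii h0 hii rfl

/-- The primitive idempotents are finite in number. -/
theorem finite_setOf_prim : {e | IsPrimIdem S e}.Finite := by
  have hli : LinearIndependent k (fun e : {e | IsPrimIdem S e} => (e : A)) := by
    rw [linearIndependent_iff']
    intro s c hsum i hi
    have h1 := congrArg (fun x => (i : A) * x) hsum
    simp only [Finset.mul_sum, mul_smul_comm, mul_zero] at h1
    rw [Finset.sum_eq_single_of_mem i hi fun j _ hji => by
      rw [i.2.mul_eq_zero_of_ne hS j.2 fun h => hji (Subtype.ext h.symm), smul_zero], i.2.idem,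
      smul_eq_zero] at h1
    exact h1.resolve_right i.2.ne_zero
  haveI := hli.finite
  exact Set.toFinite _

/-- The finset of primitive idempotents. -/
noncomputable def primFinset : Finset A := (finite_setOf_prim hS).toFinset

theorem mem_primFinset {e : A} : e ∈ primFinset hS ↔ IsPrimIdem S e := by
  simp [primFinset]

theorem sum_primFinset : ∑ e ∈ primFinset hS, e = 1 := by
  classical
  set s := ∑ e ∈ primFinset hS, e with hs
  have hsS : s ∈ S := Subalgebra.sum_mem _ fun e he => ((mem_primFinset hS).mp he).mem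
  have hes : ∀ e, IsPrimIdem S e → e * s = e := fun e he => by
    rw [hs, Finset.mul_sum, Finset.sum_eq_single_of_mem e ((mem_primFinset hS).mpr he)
      fun f hf hfe => he.mul_eq_zero_of_ne hS ((mem_primFinset hS).mp hf) hfe.symm]
    exact he.idem
  have hss : s * s = s := by
    conv_lhs => arg 1; rw [hs]
    rw [Finset.sum_mul, hs]
    exact Finset.sum_congr rfl fun e he => hes e ((mem_primFinset hS).mp he)
  by_contra hne
  obtain ⟨e, he, hle⟩ := exists_prim_le hS (sub_mem S.one_mem hsS)
    (by rw [sub_mul, one_mul, mul_sub, mul_one, hss, sub_self, sub_zero])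
    (sub_ne_zero.mpr (Ne.symm hne))
  rw [mul_sub, mul_one, hes e he, sub_self] at hle
  exact he.ne_zero hle.symm

/-- A nonzero element of `S` survives multiplication by some primitive idempotent. -/
theorem exists_prim_mul_ne_zero {a : A} (h0 : a ≠ 0) :
    ∃ e, IsPrimIdem S e ∧ e * a ≠ 0 := by
  by_contra hne
  simp only [not_exists, not_and, not_not] at hne
  apply h0
  rw [← one_mul a, ← sum_primFinset hS, Finset.sum_mul]
  exact Finset.sum_eq_zero fun e he => hne e ((mem_primFinset hS).mp he)

end CfsgLib.BrauerPairs
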