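import Cfsg.Agent.BrauerPairs.GroupAlg
import Cfsg.Agent.BrauerPairs.Prim
import Mathlib.GroupTheory.Sylow

/-!
# Block idempotents and defect subgroups in the group algebra

`IsBlk k H e`: a block idempotent of the subgroup `H`, i.e. a primitive idempotent of `Z(k[H])`
seen inside `k[G]`.  `IsDefect k H T b D`: `b` is a relative trace from `D` to `T` of an element
supported on `H`, and does not vanish under the truncation at `D`.
-/

namespace CfsgLib.BrauerPairs

variable {k : Type*} [Field k] {G : Type*} [Group G] [Fintype G]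

instance instFiniteDimensionalGroupAlg : FiniteDimensional k (MonoidAlgebra k G) :=
  Module.Finite.equiv (MonoidAlgebra.coeffLinearEquiv k).symm

variable {H T : Subgroup G}

theorem alg_comm (hHT : H ≤ T) :
    ∀ a ∈ alg k H T, ∀ b ∈ alg k H T, a * b = b * a :=
  fun _ ha _ hb => alg_commute hHT ha.1 hb.2

/-- A block idempotent of the subgroup `H`. -/
def IsBlk (k : Type*) [Field k] {G : Type*} [Group G] [Fintype G] (H : Subgroup G)
    (e : MonoidAlgebra k G) : Prop := IsPrimIdem (alg k H H) e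

theorem IsBlk.suppIn {e : MonoidAlgebra k G} (h : IsBlk k H e) : SuppIn H e := h.mem.1
theorem IsBlk.fixBy {e : MonoidAlgebra k G} (h : IsBlk k H e) : FixBy H e := h.mem.2

theorem map_normalizer_centralizer {Q : Subgroup G} :
    Subgroup.normalizer (Q : Set G) ≤
      Subgroup.normalizer (Subgroup.centralizer (Q : Set G) : Set G) := by
  intro x hx
  rw [Subgroup.mem_normalizer_iff]
  intro c
  constructor
  · intro hc
    rw [Subgroup.mem_centralizer_iff] at hc ⊢
    intro q hq
    have := hc (x⁻¹ * q * x) ((Subgroup.mem_normalizer_iff''.mp hx q).mp hq)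
    calc q * (x * c * x⁻¹) = x * ((x⁻¹ * q * x) * c) * x⁻¹ := by group
      _ = x * (c * (x⁻¹ * q * x)) * x⁻¹ := by rw [this]
      _ = x * c * x⁻¹ * q := by group
  · intro hc
    rw [Subgroup.mem_centralizer_iff] at hc ⊢
    intro q hq
    have := hc (x * q * x⁻¹) ((Subgroup.mem_normalizer_iff.mp hx q).mp hq)
    calc q * c = x⁻¹ * ((x * q * x⁻¹) * (x * c * x⁻¹)) * x := by group
      _ = x⁻¹ * ((x * c * x⁻¹) * (x * q * x⁻¹)) * x := by rw [this]
      _ = c * q := by group

theorem fixBy_of_suppIn_centralizer {Q : Subgroup G} {a : MonoidAlgebra k G}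
    (h : SuppIn (Subgroup.centralizer (Q : Set G)) a) : FixBy Q a := by
  refine fixBy_of_coeff fun q hq g => ?_
  by_cases hg : g ∈ Subgroup.centralizer (Q : Set G)
  · have hc : q * g = g * q := Subgroup.mem_centralizer_iff.mp hg q hq
    rw [mul_assoc, ← hc, inv_mul_cancel_left]
  · rw [h g hg, h]
    intro hc
    apply hg
    have := (Subgroup.mem_normalizer_iff''.mp (map_normalizer_centralizer
      (Subgroup.le_normalizer hq)) g).mpr hc
    exact this

/-- Conjugating a block idempotent gives a block idempotent of the conjugate subgroup. -/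
theorem IsBlk.cj {e : MonoidAlgebra k G} (h : IsBlk k H e) (x : G) :
    IsBlk k (H.map (MulAut.conj x).toMonoidHom) (cj k x e) := by
  refine IsPrimIdem.map h (BrauerPairs.cj k x) fun a => ⟨fun ha => cj_mem_alg ha x, fun ha => ?_⟩
  have := cj_mem_alg ha x⁻¹
  rw [cj_inv_cj, Subgroup.map_map] at this
  have hid : (MulAut.conj x⁻¹).toMonoidHom.comp (MulAut.conj x).toMonoidHom = MonoidHom.id G := by
    ext g; simp [mul_assoc]
  rwa [hid, Subgroup.map_id] at this

theorem IsBlk.cj_of_mem {e : MonoidAlgebra k G} (h : IsBlk k H e) {x : G}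
    (hx : x ∈ Subgroup.normalizer (H : Set G)) : IsBlk k H (BrauerPairs.cj k x e) := by
  have h1 := IsBlk.cj h x
  rwa [map_conj_eq_self hx] at h1

/-- A block idempotent of `H` fixed by `T` is primitive in `alg k H T`. -/
theorem IsBlk.prim {e : MonoidAlgebra k G} (h : IsBlk k H e) (hHT : H ≤ T) (hfix : FixBy T e) :
    IsPrimIdem (alg k H T) e :=
  IsPrimIdem.mono h (alg_mono le_rfl hHT) ⟨h.suppIn, hfix⟩

section sums

theorem fixBy_sum {ι : Type*} (s : Finset ι) (f : ι → MonoidAlgebra k G)
    (h : ∀ i ∈ s, FixBy T (f i)) : FixBy T (∑ i ∈ s, f i) := fun t ht => by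
  rw [map_sum]; exact Finset.sum_congr rfl fun i hi => h i hi t ht

end sums

/-- The class sum of `x` under `T`. -/
noncomputable def csum (k : Type*) [Field k] {G : Type*} [Group G] [Fintype G] (T : Subgroup G)
    (x : G) : MonoidAlgebra k G :=
  open Classical in ofFun fun g => if ∃ t ∈ T, t * x * t⁻¹ = g then 1 else 0

open Classical in
theorem suppIn_csum (hT : T ≤ Subgroup.normalizer (H : Set G)) {x : G} (hx : x ∈ H) :
    SuppIn H (csum k T x) := by
  intro g hg
  simp only [csum, coeff_ofFun]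
  rw [if_neg]
  rintro ⟨t, ht, rfl⟩
  exact hg ((Subgroup.mem_normalizer_iff.mp (hT ht) x).mp hx)

open Classical in
theorem fixBy_csum (x : G) : FixBy T (csum k T x) := by
  refine fixBy_of_coeff fun t ht g => ?_
  simp only [csum, coeff_ofFun]
  refine if_congr ⟨?_, ?_⟩ rfl rfl
  · rintro ⟨u, hu, h⟩
    refine ⟨t * u, T.mul_mem ht hu, ?_⟩
    calc t * u * x * (t * u)⁻¹ = t * (u * x * u⁻¹) * t⁻¹ := by group
      _ = g := by rw [h]; group
  · rintro ⟨u, hu, rfl⟩
    exact ⟨t⁻¹ * u, T.mul_mem (T.inv_mem ht) hu, by group⟩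

variable {p : ℕ} [hp : Fact p.Prime] [hk : CharP k p]

/-- A class sum is a multiple of a trace from a Sylow subgroup of the stabilizer. -/
theorem tr_single {x : G} {P : Subgroup G}
    (hPC : P ≤ T ⊓ Subgroup.centralizer ({x} : Set G)) :
    tr P T (MonoidAlgebra.single x (1 : k)) =
      (P.relIndex (T ⊓ Subgroup.centralizer ({x} : Set G)) : k) • csum k T x := by
  classical
  haveI : Fintype (T ⧸ P.subgroupOf T) := Fintype.ofFinite _
  set C := T ⊓ Subgroup.centralizer ({x} : Set G) with hC
  apply coeff_ext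
  intro g
  rw [tr_apply, MonoidAlgebra.coeff_sum, Finsupp.finsetSum_apply, MonoidAlgebra.coeff_smul_apply,
    csum, coeff_ofFun, smul_eq_mul]
  have hterm : ∀ q : T ⧸ P.subgroupOf T, (cj k ((q.out : T) : G) (MonoidAlgebra.single x (1 : k))).coeff g =
      if ((q.out : T) : G) * x * ((q.out : T) : G)⁻¹ = g then 1 else 0 := by
    intro q
    rw [coeff_cj, MonoidAlgebra.coeff_single_apply]
    refine if_congr ⟨fun h => by rw [h]; group, fun h => by rw [← h]; group⟩ rfl rfl
  rw [Finset.sum_congr rfl fun q _ => hterm q, Finset.sum_boole]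
  by_cases hex : ∃ t ∈ T, t * x * t⁻¹ = g
  · rw [if_pos hex, mul_one]
    obtain ⟨t, ht, htx⟩ := hex
    congr 1
    -- count elements of `T` mapping `x` to `g` in two ways
    have h1 : Nat.card {u : T // (u : G) * x * (u : G)⁻¹ = g} = Nat.card C := by
      refine Nat.card_congr ⟨fun u => ⟨t⁻¹ * (u.1 : G), T.mul_mem (T.inv_mem ht) u.1.2, ?_⟩,
        fun c => ⟨⟨t * c, T.mul_mem ht c.2.1⟩, ?_⟩, fun u => ?_, fun c => ?_⟩
      · show t⁻¹ * (u.1 : G) ∈ Subgroup.centralizer ({x} : Set G)
        rw [Subgroup.mem_centralizer_singleton_iff]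
        have hu : (u.1 : G) * x * (u.1 : G)⁻¹ = g := u.2
        have this : (u.1 : G) * x * (u.1 : G)⁻¹ = t * x * t⁻¹ := hu.trans htx.symm
        calc t⁻¹ * (u.1 : G) * x = t⁻¹ * ((u.1 : G) * x * (u.1 : G)⁻¹) * u.1 := by group
          _ = x * (t⁻¹ * u.1) := by rw [this]; group
      · show t * (c : G) * x * (t * (c : G))⁻¹ = g
        have hc := Subgroup.mem_centralizer_singleton_iff.mp c.2.2
        calc t * (c : G) * x * (t * (c : G))⁻¹ = t * ((c : G) * x) * (c : G)⁻¹ * t⁻¹ := by group
          _ = g := by rw [hc, ← htx]; group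
      · ext; simp
      · ext; simp
    have h2 : Nat.card {u : T // (u : G) * x * (u : G)⁻¹ = g} =
        (Finset.univ.filter fun q : T ⧸ P.subgroupOf T =>
          ((q.out : T) : G) * x * ((q.out : T) : G)⁻¹ = g).card * Nat.card (P.subgroupOf T) := by
      have hinv : ∀ (u v : T), v ∈ P.subgroupOf T →
          ((u * v : T) : G) * x * ((u * v : T) : G)⁻¹ = (u : G) * x * (u : G)⁻¹ := by
        intro u v hv
        have hc : (v : G) * x = x * (v : G) := Subgroup.mem_centralizer_singleton_iff.mp (hPC hv).2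
        calc ((u * v : T) : G) * x * ((u * v : T) : G)⁻¹
            = (u : G) * (((v : T) : G) * x) * ((v : T) : G)⁻¹ * (u : G)⁻¹ := by
              simp only [Subgroup.coe_mul]; group
          _ = _ := by rw [hc]; group
      rw [← Fintype.card_subtype, ← Nat.card_eq_fintype_card, ← Nat.card_prod]
      refine Nat.card_congr (Equiv.trans
        (Equiv.subtypeEquiv (Subgroup.groupEquivQuotientProdSubgroup (s := P.subgroupOf T))
          (q := fun z => ((z.1.out : T) : G) * x * ((z.1.out : T) : G)⁻¹ = g) fun u => ?_)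
        ⟨fun z => (⟨z.1.1, z.2⟩, z.1.2), fun z => ⟨(z.1.1, z.2), z.1.2⟩,
          fun _ => rfl, fun _ => rfl⟩)
      have hm : ((u : T) : T ⧸ P.subgroupOf T).out⁻¹ * u ∈ P.subgroupOf T := by
        rw [← QuotientGroup.eq, QuotientGroup.out_eq']
      have h3 := hinv ((u : T ⧸ P.subgroupOf T).out) _ hm
      rw [mul_inv_cancel_left] at h3
      rw [h3]
      rfl
    rw [h1, ← Subgroup.card_mul_index (P.subgroupOf C),
      Nat.card_congr (Subgroup.subgroupOfEquivOfLe hPC).toEquiv,
      Nat.card_congr (Subgroup.subgroupOfEquivOfLe (hPC.trans inf_le_left)).toEquiv,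
      mul_comm] at h2
    exact Nat.eq_of_mul_eq_mul_right Nat.card_pos h2.symm
  · rw [if_neg hex, mul_zero, Finset.filter_false_of_mem, Finset.card_empty, Nat.cast_zero]
    exact fun q _ h => hex ⟨_, (q.out).2, h⟩

/-- A primitive idempotent of `alg k H T` is the `T`-invariant combination of class sums. -/
theorem eq_sum_csum {b : MonoidAlgebra k G} (hb : FixBy T b) :
    ∃ s : Finset G, b = ∑ x ∈ s, b.coeff x • csum k T x := by
  classical
  let r : Setoid G := MulAction.orbitRel (T.map (MulAut.conj : G →* MulAut G)) G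
  have hr : ∀ a c : G, r a c ↔ ∃ t ∈ T, t * c * t⁻¹ = a := by
    intro a c
    show a ∈ MulAction.orbit _ c ↔ _
    rw [MulAction.mem_orbit_iff]
    constructor
    · rintro ⟨⟨_, t, ht, rfl⟩, h⟩
      exact ⟨t, ht, h⟩
    · rintro ⟨t, ht, h⟩
      exact ⟨⟨_, t, ht, rfl⟩, h⟩
  haveI : Fintype (Quotient r) := Fintype.ofFinite _
  refine ⟨Finset.univ.image (fun q : Quotient r => q.out), ?_⟩
  apply coeff_ext
  intro g
  rw [Finset.sum_image fun a _ c _ h => by rw [← Quotient.out_eq a, h, Quotient.out_eq],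
    MonoidAlgebra.coeff_sum, Finsupp.finsetSum_apply]
  simp only [MonoidAlgebra.coeff_smul_apply, csum, coeff_ofFun, smul_eq_mul]
  rw [Finset.sum_eq_single (Quotient.mk r g)]
  · obtain ⟨t, ht, h⟩ := (hr _ _).mp (Quotient.mk_out g : r (Quotient.mk r g).out g)
    rw [if_pos ⟨t⁻¹, T.inv_mem ht, by rw [← h]; group⟩, mul_one, ← h, hb.coeff_eq' ht]
  · intro q _ hq
    rw [if_neg, mul_zero]
    rintro ⟨t, ht, h⟩
    apply hq
    rw [← Quotient.out_eq q]
    exact (Quotient.sound ((hr g q.out).mpr ⟨t, ht, h⟩)).symm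
  · simp

/-- `D` is a defect subgroup of `b` in `alg k H T`. -/
def IsDefect (p : ℕ) {k : Type*} [Field k] {G : Type*} [Group G] [Fintype G] (H T : Subgroup G)
    (b : MonoidAlgebra k G) (D : Subgroup G) : Prop :=
  IsPGroup p D ∧ D ≤ T ∧ (∃ a ∈ alg k H D, b = tr D T a) ∧ br D b ≠ 0

variable {b : MonoidAlgebra k G}

open Classical in
/-- A class sum invertible below `b` and in the support of `b` gives a defect subgroup. -/
theorem isDefect_of_csum (hb : IsPrimIdem (alg k H T) b) (hHT : H ≤ T)
    (hT : T ≤ Subgroup.normalizer (H : Set G)) {x : G} (hx : b.coeff x ≠ 0)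
    {c : MonoidAlgebra k G} (hc : c ∈ alg k H T) (hinv : b * csum k T x * c = b)
    {P : Subgroup G} (hP : IsPGroup p P) (hPC : P ≤ T ⊓ Subgroup.centralizer ({x} : Set G))
    (hidx : ¬ p ∣ P.relIndex (T ⊓ Subgroup.centralizer ({x} : Set G))) :
    IsDefect p H T b P := by
  have hxH : x ∈ H := by
    by_contra h; exact hx (hb.mem.1 x h)
  refine ⟨hP, hPC.trans inf_le_left, ?_, ?_⟩
  · have hm : (P.relIndex (T ⊓ Subgroup.centralizer ({x} : Set G)) : k) ≠ 0 := by
      rw [Ne, CharP.cast_eq_zero_iff k p]; exact hidx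
    refine ⟨((P.relIndex (T ⊓ Subgroup.centralizer ({x} : Set G)) : k)⁻¹ •
      MonoidAlgebra.single x (1 : k)) * (b * c), ?_, ?_⟩
    · refine mul_mem ((alg k H P).smul_mem ⟨fun g hg => ?_, fun t ht => ?_⟩ _)
        (alg_mono le_rfl (hPC.trans inf_le_left) (mul_mem hb.mem hc))
      · rw [MonoidAlgebra.coeff_single_apply, if_neg]; rintro rfl; exact hg hxH
      · have hcx := Subgroup.mem_centralizer_singleton_iff.mp (hPC ht).2
        rw [cj, MonoidAlgebra.domCongr_single, MulAut.conj_apply, hcx, mul_inv_cancel_right]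
    · rw [tr_mul (fun t ht => by rw [map_mul, hb.mem.2 t ht, hc.2 t ht]), map_smul,
        tr_single hPC, smul_smul, inv_mul_cancel₀ hm, one_smul, ← mul_assoc,
        alg_commute hHT (suppIn_csum hT hxH) hb.mem.2]
      exact hinv.symm
  · intro h0
    apply hx
    have hxC : x ∈ Subgroup.centralizer (P : Set G) := Subgroup.mem_centralizer_iff.mpr
      fun u hu => Subgroup.mem_centralizer_singleton_iff.mp (hPC hu).2
    rw [← coeff_br_of_mem b hxC, h0]; rfl

/-- Some class in the support of `b` has an invertible class sum below `b`. -/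
theorem exists_csum_inv (hb : IsPrimIdem (alg k H T) b) (hHT : H ≤ T)
    (hT : T ≤ Subgroup.normalizer (H : Set G)) :
    ∃ x, b.coeff x ≠ 0 ∧ ∃ c ∈ alg k H T, b * csum k T x * c = b := by
  classical
  have hS := alg_comm (k := k) (T := T) hHT
  obtain ⟨s, hs⟩ := eq_sum_csum hb.mem.2
  set s' := s.filter fun x => b.coeff x ≠ 0
  have hs' : b = ∑ x ∈ s', b.coeff x • (b * csum k T x) := by
    conv_lhs => rw [← hb.idem, hs]
    conv_lhs => arg 2; rw [← hs]
    rw [Finset.sum_mul]
    rw [← Finset.sum_filter_of_ne (p := fun x => b.coeff x ≠ 0) fun x _ h h0 => h (by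
      rw [h0, zero_smul, zero_mul])]
    refine Finset.sum_congr rfl fun x hx => ?_
    have hxH : x ∈ H := by
      by_contra h; exact (Finset.mem_filter.mp hx).2 (hb.mem.1 x h)
    rw [smul_mul_assoc, alg_commute hHT (suppIn_csum hT hxH) hb.mem.2]
  by_contra hno
  simp only [not_exists, not_and] at hno
  have hnil : ∀ x ∈ s', IsNilpotent (b.coeff x • (b * csum k T x)) := by
    intro x hx
    have hx0 := (Finset.mem_filter.mp hx).2
    have hxH : x ∈ H := by by_contra h; exact hx0 (hb.mem.1 x h)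
    have hm : b * csum k T x ∈ alg k H T :=
      mul_mem hb.mem ⟨suppIn_csum hT hxH, fixBy_csum x⟩
    rcases hb.nilpotent_or_inv hS hm (by rw [← mul_assoc, hb.idem]) with h | ⟨c, hc, h⟩
    · exact h.smul _
    · exact absurd h (hno x hx0 c hc)
  have : IsNilpotent b := by
    have hfin : ∀ u : Finset G, u ⊆ s' →
        IsNilpotent (∑ x ∈ u, b.coeff x • (b * csum k T x)) ∧
          (∑ x ∈ u, b.coeff x • (b * csum k T x)) ∈ alg k H T := by
      intro u
      induction u using Finset.induction_on with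
      | empty => intro _; simp
      | @insert y t hy ih =>
        intro hu
        rw [Finset.sum_insert hy]
        have hys := hu (Finset.mem_insert_self y t)
        have hyH : y ∈ H := by
          by_contra h; exact (Finset.mem_filter.mp hys).2 (hb.mem.1 y h)
        have hym : b.coeff y • (b * csum k T y) ∈ alg k H T :=
          (alg k H T).smul_mem (mul_mem hb.mem ⟨suppIn_csum hT hyH, fixBy_csum y⟩) _
        obtain ⟨h1, h2⟩ := ih fun z hz => hu (Finset.mem_insert_of_mem hz)
        exact ⟨(show Commute _ _ from hS _ hym _ h2).isNilpotent_add (hnil y hys) h1,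
          add_mem hym h2⟩
    have := (hfin s' Finset.Subset.rfl).1
    rwa [← hs'] at this
  obtain ⟨n, hn⟩ := this
  apply hb.ne_zero
  have : ∀ m, b ^ (m + 1) = b := fun m => by
    induction m with
    | zero => simp
    | succ m ih => rw [pow_succ, ih, hb.idem]
  rcases n with _ | n
  · simp only [pow_zero] at hn
    rw [← one_mul b, hn, zero_mul]
  · rwa [this] at hn

/-- Defect subgroups exist. -/
theorem exists_isDefect (hb : IsPrimIdem (alg k H T) b) (hHT : H ≤ T)
    (hT : T ≤ Subgroup.normalizer (H : Set G)) : ∃ D, IsDefect p H T b D := by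
  obtain ⟨x, hx, c, hc, hinv⟩ := exists_csum_inv hb hHT hT
  let C := T ⊓ Subgroup.centralizer ({x} : Set G)
  obtain ⟨P⟩ := (inferInstance : Nonempty (Sylow p C))
  refine ⟨_, isDefect_of_csum hb hHT hT hx hc hinv (P.isPGroup'.map C.subtype)
    (Subgroup.map_subtype_le _) ?_⟩
  rw [Subgroup.relIndex, Subgroup.subgroupOf, Subgroup.comap_map_eq_self_of_injective
    C.subtype_injective]
  exact P.not_dvd_index

/-- A `p`-subgroup where the truncation survives is conjugate into a defect subgroup. -/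
theorem IsDefect.exists_conj_le {D : Subgroup G} (hD : IsDefect p H T b D) {Q : Subgroup G}
    (hQ : IsPGroup p Q) (hQT : Q ≤ T) (hbr : br Q b ≠ 0) :
    ∃ x ∈ T, Q.map (MulAut.conj x).toMonoidHom ≤ D := by
  obtain ⟨-, -, ⟨a, ha, rfl⟩, -⟩ := hD
  exact exists_conj_le_of_br_tr_ne_zero hQ hQT ha.2 hbr

theorem IsDefect.card_le {D : Subgroup G} (hD : IsDefect p H T b D) {Q : Subgroup G}
    (hQ : IsPGroup p Q) (hQT : Q ≤ T) (hbr : br Q b ≠ 0) : Nat.card Q ≤ Nat.card D := by
  obtain ⟨x, -, hx⟩ := hD.exists_conj_le hQ hQT hbr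
  rw [← Subgroup.card_map_of_injective (K := Q) (f := (MulAut.conj x).toMonoidHom)
    (MulEquiv.injective _)]
  exact Subgroup.card_le_of_le hx

/-- Defect subgroups are conjugate. -/
theorem IsDefect.conj {D D' : Subgroup G} (hD : IsDefect p H T b D) (hD' : IsDefect p H T b D') :
    ∃ x ∈ T, D'.map (MulAut.conj x).toMonoidHom = D := by
  obtain ⟨x, hxT, hx⟩ := hD.exists_conj_le hD'.1 hD'.2.1 hD'.2.2.2
  refine ⟨x, hxT, Subgroup.eq_of_le_of_card_ge hx ?_⟩
  rw [Subgroup.card_map_of_injective (MulEquiv.injective _)]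
  exact hD'.card_le hD.1 hD.2.1 hD.2.2.2

/-- A `p`-subgroup of maximal order with nonvanishing truncation of a trace is a defect group. -/
theorem IsDefect.of_card_ge (hb : FixBy T b) {D Q : Subgroup G} (hD : IsDefect p H T b D)
    (hQ : IsPGroup p Q) (hQT : Q ≤ T) (hT : T ≤ Subgroup.normalizer (H : Set G))
    (hbr : br Q b ≠ 0) (hcard : Nat.card D ≤ Nat.card Q) : IsDefect p H T b Q := by
  obtain ⟨x, hxT, hx⟩ := hD.exists_conj_le hQ hQT hbr
  have heq : Q.map (MulAut.conj x).toMonoidHom = D :=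
    Subgroup.eq_of_le_of_card_ge hx (by
      rw [Subgroup.card_map_of_injective (MulEquiv.injective _)]; exact hcard)
  obtain ⟨-, hDT, ⟨a, ha, hba⟩, -⟩ := hD
  refine ⟨hQ, hQT, ⟨cj k x⁻¹ a, ?_, ?_⟩, hbr⟩
  · have := cj_mem_alg ha x⁻¹
    rw [map_conj_eq_self (inv_mem (hT hxT)), ← heq, Subgroup.map_map] at this
    have hid : (MulAut.conj x⁻¹).toMonoidHom.comp (MulAut.conj x).toMonoidHom = MonoidHom.id G := by
      ext g; simp [mul_assoc]
    rwa [hid, Subgroup.map_id] at this
  · classical
    haveI : Fintype (T ⧸ D.subgroupOf T) := Fintype.ofFinite _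
    haveI : Fintype (T ⧸ Q.subgroupOf T) := Fintype.ofFinite _
    have hfix : FixBy Q (cj k x⁻¹ a) := by
      have := (ha.2.cj x⁻¹)
      rw [← heq, Subgroup.map_map] at this
      have hid : (MulAut.conj x⁻¹).toMonoidHom.comp (MulAut.conj x).toMonoidHom = MonoidHom.id G := by
        ext g; simp [mul_assoc]
      rwa [hid, Subgroup.map_id] at this
    rw [hba, tr_apply, tr_apply]
    -- the cosets of `D` correspond to those of `Q` by right translation with `x`
    let x' : T := ⟨x, hxT⟩
    let φ : T ⧸ D.subgroupOf T → T ⧸ Q.subgroupOf T := fun q => ((q.out * x' : T) : _)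
    have hφ : Function.Injective φ := by
      intro q r h
      rw [← QuotientGroup.out_eq' q, ← QuotientGroup.out_eq' r]
      refine QuotientGroup.eq.mpr ?_
      have h1 := QuotientGroup.eq.mp h
      rw [Subgroup.mem_subgroupOf] at h1 ⊢
      have h2 : (MulAut.conj x).toMonoidHom ((((q.out * x')⁻¹ * (r.out * x') : T)) : G) ∈
          Q.map (MulAut.conj x).toMonoidHom := ⟨_, h1, rfl⟩
      rw [heq] at h2
      simpa [x', mul_assoc] using h2
    have hbij : Function.Bijective φ := by
      rw [Fintype.bijective_iff_injective_and_card]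
      refine ⟨hφ, ?_⟩
      rw [← Nat.card_eq_fintype_card, ← Nat.card_eq_fintype_card]
      have h1 := Subgroup.card_mul_index (D.subgroupOf T)
      have h2 := Subgroup.card_mul_index (Q.subgroupOf T)
      rw [Nat.card_congr (Subgroup.subgroupOfEquivOfLe hDT).toEquiv] at h1
      rw [Nat.card_congr (Subgroup.subgroupOfEquivOfLe hQT).toEquiv] at h2
      have h3 : Nat.card D = Nat.card Q := by
        rw [← heq, Subgroup.card_map_of_injective (MulEquiv.injective _)]
      rw [h3] at h1
      exact Nat.eq_of_mul_eq_mul_left Nat.card_pos (h1.trans h2.symm)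
    refine Fintype.sum_bijective φ hbij _ _ fun q => ?_
    rw [← cj_rep hfix (t := q.out * x') (q := φ q) rfl, Subgroup.coe_mul, cj_mul, cj_cj_inv]

/-- A trace from a `p`-subgroup `D` with nonvanishing truncation: the truncation of a primitive
`b` is a sum over one orbit. -/
theorem mem_range_tr_of_br (hb : IsPrimIdem (alg k H T) b) (hHT : H ≤ T) {D : Subgroup G}
    (hD : IsPGroup p D) (hDT : D ≤ T) (hT : T ≤ Subgroup.normalizer (H : Set G))
    {a : MonoidAlgebra k G} (ha : a ∈ alg k H D) {S : MonoidAlgebra k G} (hS0 : S ≠ 0)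
    (hSS : S * S = S) (hS : br D (b * tr D T a) * S = S) :
    ∃ a' ∈ alg k H D, b = tr D T a' := by
  have hcomm := alg_comm (k := k) (T := T) hHT
  have hy : b * tr D T a ∈ alg k H T :=
    mul_mem hb.mem ⟨tr_suppIn ha.1 hT, tr_fixBy ha.2⟩
  rcases hb.nilpotent_or_inv hcomm hy (by rw [← mul_assoc, hb.idem]) with ⟨n, hn⟩ | ⟨c, hc, h⟩
  · exfalso
    apply hS0
    have hfixy : FixBy D (b * tr D T a) := hy.2.mono hDT
    have hpow : ∀ m, br D ((b * tr D T a) ^ m) * S = S := by
      intro m
      induction m with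
      | zero => rw [pow_zero, br_one, one_mul]
      | succ m ih =>
        rw [pow_succ', br_mul hD hfixy ((pow_mem hy m).2.mono hDT), mul_assoc, ih, hS]
    have := hpow n
    rw [hn, map_zero, zero_mul] at this
    exact this.symm
  · refine ⟨a * (b * c), mul_mem ha (alg_mono le_rfl hDT (mul_mem hb.mem hc)), ?_⟩
    rw [tr_mul (fun t ht => by rw [map_mul, hb.mem.2 t ht, hc.2 t ht]), ← mul_assoc,
      alg_commute hHT (tr_suppIn ha.1 hT) hb.mem.2]
    exact h.symm

end CfsgLib.BrauerPairs
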