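import Cfsg.Agent.Blocks.Basic
import Cfsg.Agent.BrauerPairs.Blk

/-!
# Reduction of integral class functions to the residue group algebra

The blocks of `Def_Blocks` are exactly the primitive central idempotents of `Residue M [G]`.
-/

namespace CfsgLib.BrauerPairs

open Cfsg CfsgLib.Block CfsgLib.Block.Chr
open scoped ComplexConjugate

universe u

variable {G : Type u} [Group G] [Fintype G] {M : Ideal AlgInt} [M.IsPrime] {p : ℕ}

/-- The reduction of a function with values in the local ring (junk `0` at other values). -/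
noncomputable def red (M : Ideal AlgInt) [M.IsPrime] (z : ℂ) : Residue M := by
  classical exact if h : MemLocalRing M z then res M ⟨z, h⟩ else 0

theorem red_eq {z : ℂ} (h : MemLocalRing M z) : red M z = res M ⟨z, h⟩ := dif_pos h

theorem red_zero : red M 0 = (0 : Residue M) := by
  rw [red_eq memLocalRing_zero]; exact map_zero (res M)

theorem red_one : red M 1 = (1 : Residue M) := by
  rw [red_eq memLocalRing_one]; exact map_one (res M)

theorem red_add {x y : ℂ} (hx : MemLocalRing M x) (hy : MemLocalRing M y) :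
    red M (x + y) = red M x + red M y := by
  rw [red_eq (memLocalRing_add hx hy), red_eq hx, red_eq hy, ← map_add]; rfl

theorem red_mul {x y : ℂ} (hx : MemLocalRing M x) (hy : MemLocalRing M y) :
    red M (x * y) = red M x * red M y := by
  rw [red_eq (memLocalRing_mul hx hy), red_eq hx, red_eq hy, ← map_mul]; rfl

theorem red_sum {ι : Type*} (s : Finset ι) {f : ι → ℂ} (hf : ∀ i ∈ s, MemLocalRing M (f i)) :
    red M (∑ i ∈ s, f i) = ∑ i ∈ s, red M (f i) := by
  classical
  induction s using Finset.induction_on with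
  | empty => simp [red_zero]
  | insert a s ha ih =>
    rw [Finset.sum_insert ha, Finset.sum_insert ha, red_add (hf _ (Finset.mem_insert_self a s))
      (memLocalRing_sum fun i hi => hf i (Finset.mem_insert_of_mem hi)),
      ih fun i hi => hf i (Finset.mem_insert_of_mem hi)]

theorem red_eq_iff {x y : ℂ} (hx : MemLocalRing M x) (hy : MemLocalRing M y) :
    red M x = red M y ↔ MemLocalIdeal M (x - y) := by rw [red_eq hx, red_eq hy, res_eq_iff]

theorem red_eq_zero_iff {x : ℂ} (hx : MemLocalRing M x) : red M x = 0 ↔ MemLocalIdeal M x := by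
  rw [red_eq hx, res_eq_zero_iff]

theorem red_eq_one_iff {x : ℂ} (hx : MemLocalRing M x) :
    red M x = 1 ↔ MemLocalIdeal M (x - 1) := by rw [← red_one, red_eq_iff hx memLocalRing_one]

/-- A chosen lift of a residue. -/
noncomputable def liftRes (c : Residue M) : ℂ :=
  ((Function.surjInv (f := res M) Ideal.Quotient.mk_surjective c : localRing M) : ℂ)

theorem liftRes_mem (c : Residue M) : MemLocalRing M (liftRes c) :=
  (Function.surjInv (f := res M) Ideal.Quotient.mk_surjective c).2

theorem red_liftRes (c : Residue M) : red M (liftRes c) = c := by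
  rw [red_eq (liftRes_mem c)]
  exact Function.surjInv_eq (f := res M) Ideal.Quotient.mk_surjective c

/-- Reduction of a function to the group algebra. -/
noncomputable def redFun (M : Ideal AlgInt) [M.IsPrime] (a : G → ℂ) :
    MonoidAlgebra (Residue M) G :=
  ofFun fun g => red M (a g)

@[simp] theorem coeff_redFun (a : G → ℂ) (g : G) : (redFun M a).coeff g = red M (a g) := by
  simp [redFun]

theorem mem_alg_top {a : MonoidAlgebra (Residue M) G}
    (h : ∀ g x : G, a.coeff (x * g * x⁻¹) = a.coeff g) : a ∈ alg (Residue M) ⊤ ⊤ :=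
  ⟨suppIn_top a, fixBy_of_coeff fun t _ g => by simpa using h g t⁻¹⟩

theorem coeff_conj_of_mem {a : MonoidAlgebra (Residue M) G} (h : a ∈ alg (Residue M) ⊤ ⊤)
    (g x : G) : a.coeff (x * g * x⁻¹) = a.coeff g :=
  by simpa using h.2.coeff_eq (Subgroup.mem_top x⁻¹) g

theorem redFun_mem {a : G → ℂ} (ha : IsClassFunction G a) :
    redFun M a ∈ alg (Residue M) ⊤ ⊤ := mem_alg_top fun g x => by simp [ha g x]

theorem redFun_conv {a b : G → ℂ} (ha : ∀ g, MemLocalRing M (a g))
    (hb : ∀ g, MemLocalRing M (b g)) : redFun M (conv a b) = redFun M a * redFun M b := by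
  apply coeff_ext
  intro g
  rw [coeff_redFun, conv, red_sum _ fun x _ => memLocalRing_mul (ha _) (hb _), coeff_mul]
  exact Finset.sum_congr rfl fun x _ => by rw [red_mul (ha _) (hb _), coeff_redFun, coeff_redFun]

/-- The lift of a central element of the residue group algebra. -/
noncomputable def liftFun (a : MonoidAlgebra (Residue M) G) : G → ℂ := fun g => liftRes (a.coeff g)

theorem redFun_liftFun (a : MonoidAlgebra (Residue M) G) : redFun M (liftFun a) = a :=
  coeff_ext fun g => by rw [coeff_redFun]; exact red_liftRes _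

theorem isIntClass_liftFun {a : MonoidAlgebra (Residue M) G} (ha : a ∈ alg (Residue M) ⊤ ⊤) :
    IsIntClass M (liftFun a) :=
  ⟨fun g x => by simp only [liftFun, coeff_conj_of_mem ha g x], fun g => liftRes_mem _⟩

theorem omega_congr_fun (χ : IrrCharacter G) {a b : G → ℂ} (ha : IsIntClass M a)
    (hb : IsIntClass M b) (h : redFun M a = redFun M b) :
    MemLocalIdeal M (omega (χ : G → ℂ) a - omega (χ : G → ℂ) b) := by
  classical
  rw [omega_eq_sum_classes χ ha.1, omega_eq_sum_classes χ hb.1, ← Finset.sum_sub_distrib]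
  refine memLocalIdeal_sum fun C _ => ?_
  rw [← sub_mul]
  refine memLocalIdeal_mul_right ((red_eq_iff (ha.2 _) (hb.2 _)).mp ?_) (centralChar_mem χ _)
  rw [← coeff_redFun, h, coeff_redFun]

/-- The central character of `χ` on the centre of the residue group algebra. -/
noncomputable def lam (χ : IrrCharacter G) (a : MonoidAlgebra (Residue M) G) : Residue M :=
  red M (omega (χ : G → ℂ) (liftFun a))

theorem lam_redFun (χ : IrrCharacter G) {a : G → ℂ} (ha : IsIntClass M a) :
    lam χ (redFun M a) = red M (omega (χ : G → ℂ) a) := by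
  have hb := isIntClass_liftFun (redFun_mem (M := M) ha.1)
  rw [lam, red_eq_iff (omega_mem χ hb) (omega_mem χ ha)]
  exact omega_congr_fun χ hb ha (redFun_liftFun _)

theorem lam_mul (χ : IrrCharacter G) {a b : MonoidAlgebra (Residue M) G}
    (ha : a ∈ alg (Residue M) ⊤ ⊤) (hb : b ∈ alg (Residue M) ⊤ ⊤) :
    lam χ (a * b) = lam χ a * lam χ b := by
  have ha' := isIntClass_liftFun ha
  have hb' := isIntClass_liftFun hb
  conv_lhs => rw [← redFun_liftFun a, ← redFun_liftFun b, ← redFun_conv ha'.2 hb'.2]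
  rw [lam_redFun χ (isIntClass_conv ha' hb'), omega_conv χ ha'.1,
    red_mul (omega_mem χ ha') (omega_mem χ hb')]
  rfl

theorem lam_zero (χ : IrrCharacter G) : lam χ (0 : MonoidAlgebra (Residue M) G) = 0 := by
  have h : (0 : MonoidAlgebra (Residue M) G) = redFun M (fun _ => 0) :=
    coeff_ext fun g => by simp [red_zero]
  rw [h, lam_redFun χ ⟨fun _ _ => rfl, fun _ => memLocalRing_zero⟩]
  simp [omega, red_zero]

theorem lam_sub (χ : IrrCharacter G) {a b : MonoidAlgebra (Residue M) G}
    (ha : a ∈ alg (Residue M) ⊤ ⊤) (hb : b ∈ alg (Residue M) ⊤ ⊤) :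
    lam χ (a - b) = lam χ a - lam χ b := by
  have ha' := isIntClass_liftFun ha
  have hb' := isIntClass_liftFun hb
  have hd : IsIntClass M (liftFun a - liftFun b) :=
    ⟨fun g x => by simp only [Pi.sub_apply, ha'.1 g x, hb'.1 g x],
      fun g => memLocalRing_sub (ha'.2 g) (hb'.2 g)⟩
  have h : a - b = redFun M (liftFun a - liftFun b) := coeff_ext fun g => by
    rw [coeff_redFun, Pi.sub_apply, red_eq (memLocalRing_sub (ha'.2 g) (hb'.2 g))]
    conv_lhs => rw [← redFun_liftFun a, ← redFun_liftFun b]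
    simp only [MonoidAlgebra.coeff_sub, Finsupp.sub_apply, coeff_redFun, red_eq (ha'.2 g),
      red_eq (hb'.2 g)]
    rw [← map_sub]; rfl
  have hom : omega (χ : G → ℂ) (liftFun a - liftFun b) =
      omega (χ : G → ℂ) (liftFun a) - omega (χ : G → ℂ) (liftFun b) := by
    simp only [omega, Pi.sub_apply, sub_mul, Finset.sum_sub_distrib, sub_div]
  rw [h, lam_redFun χ hd, hom, lam, lam,
    red_eq (memLocalRing_sub (omega_mem χ ha') (omega_mem χ hb')), red_eq (omega_mem χ ha'),
    red_eq (omega_mem χ hb'), ← map_sub]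
  rfl

/-- An idempotent killed by all central characters is zero. -/
theorem eq_zero_of_lam (hM : IsPModular p M) {f : MonoidAlgebra (Residue M) G}
    (hf : f ∈ alg (Residue M) ⊤ ⊤) (hff : f * f = f) (h : ∀ χ, lam χ f = 0) : f = 0 := by
  classical
  letI := irrFintype (G := G)
  set a := liftFun f with ha_def
  have ha := isIntClass_liftFun hf
  let P : ℕ → (G → ℂ) := fun n => Nat.rec a (fun _ b => conv a b) n
  have hP : ∀ n, IsIntClass M (P n) ∧ redFun M (P n) = f ∧
      ∀ χ : IrrCharacter G, omega (χ : G → ℂ) (P n) = omega (χ : G → ℂ) a ^ (n + 1) := by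
    intro n
    induction n with
    | zero => exact ⟨ha, redFun_liftFun f, fun χ => (pow_one _).symm⟩
    | succ n ih =>
      refine ⟨isIntClass_conv ha ih.1, ?_, fun χ => ?_⟩
      · show redFun M (conv a (P n)) = f
        rw [redFun_conv ha.2 ih.1.2, ih.2.1, redFun_liftFun, hff]
      · show omega (χ : G → ℂ) (conv a (P n)) = _
        rw [omega_conv χ ha.1, ih.2.2 χ, pow_succ' _ (n + 1)]
  set v := (Nat.card G).factorization p
  choose n hn using fun χ : IrrCharacter G =>
    exists_pow_dvd_of_memLocalIdeal hM ((red_eq_zero_iff (omega_mem χ ha)).mp (h χ)) (v + 1)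
  set N := ∑ χ, n χ
  obtain ⟨hN1, hN2, hN3⟩ := hP N
  rw [← hN2]
  apply coeff_ext
  intro g
  rw [coeff_redFun, eq_sum_omega hN1.1 g, MonoidAlgebra.coeff_zero, Finsupp.zero_apply,
    Finset.mul_sum]
  have hcard : Nat.card G = p ^ v * (Nat.card G / p ^ v) :=
    (Nat.ordProj_mul_ordCompl_eq_self _ p).symm
  set m := Nat.card G / p ^ v
  have hm : ¬ p ∣ m := Nat.not_dvd_ordCompl hM.1 Nat.card_pos.ne'
  have hp0 : (p : ℂ) ≠ 0 := Nat.cast_ne_zero.mpr hM.1.ne_zero
  have hmem : ∀ χ : IrrCharacter G, MemLocalIdeal M ((Nat.card G : ℂ)⁻¹ *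
      ((χ : G → ℂ) 1 * omega (χ : G → ℂ) (P N) * conj ((χ : G → ℂ) g))) := by
    intro χ
    have hle : n χ ≤ N + 1 :=
      (Finset.single_le_sum (fun i _ => Nat.zero_le (n i)) (Finset.mem_univ χ)).trans
        (Nat.le_succ _)
    have hd : MemLocalRing M (omega (χ : G → ℂ) a ^ (N + 1) / (p : ℂ) ^ (v + 1)) := by
      obtain ⟨d, hd⟩ := Nat.exists_eq_add_of_le hle
      have : omega (χ : G → ℂ) a ^ (N + 1) / (p : ℂ) ^ (v + 1) =
          omega (χ : G → ℂ) a ^ (n χ) / (p : ℂ) ^ (v + 1) * omega (χ : G → ℂ) a ^ d := by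
        rw [hd, pow_add, div_mul_eq_mul_div]
      rw [this]
      exact memLocalRing_mul (hn χ) (pow_mem (S := localRing M) (omega_mem χ ha) d)
    have hconj : MemLocalRing M (conj ((χ : G → ℂ) g)) := by
      rw [conj_irr χ g]; exact irr_mem χ _
    have : (Nat.card G : ℂ)⁻¹ * ((χ : G → ℂ) 1 * omega (χ : G → ℂ) (P N) * conj ((χ : G → ℂ) g))
        = (p : ℂ) * ((m : ℂ)⁻¹ * ((χ : G → ℂ) 1 *
          (omega (χ : G → ℂ) a ^ (N + 1) / (p : ℂ) ^ (v + 1)) * conj ((χ : G → ℂ) g))) := by
      rw [hN3 χ, hcard, Nat.cast_mul, Nat.cast_pow, mul_inv, pow_succ (p : ℂ) v]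
      field_simp
    rw [this]
    exact memLocalIdeal_mul_right (memLocalIdeal_p hM) (memLocalRing_mul
      (memLocalRing_natCast_inv hM hm)
      (memLocalRing_mul (memLocalRing_mul (irr_mem χ 1) hd) hconj))
  rw [red_eq_zero_iff (memLocalIdeal_memLocalRing (memLocalIdeal_sum fun χ _ => hmem χ))]
  exact memLocalIdeal_sum fun χ _ => hmem χ

theorem eq_of_lam (hM : IsPModular p M) {f f' : MonoidAlgebra (Residue M) G}
    (hf : f ∈ alg (Residue M) ⊤ ⊤) (hff : f * f = f)
    (hf' : f' ∈ alg (Residue M) ⊤ ⊤) (hff' : f' * f' = f') (h : ∀ χ, lam χ f = lam χ f') :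
    f = f' := by
  have key : ∀ x y : MonoidAlgebra (Residue M) G, x ∈ alg (Residue M) ⊤ ⊤ → x * x = x →
      y ∈ alg (Residue M) ⊤ ⊤ → y * y = y → (∀ χ, lam χ x = lam χ y) → x = x * y := by
    intro x y hx hxx hy hyy h
    have hc : x * y = y * x := alg_commute le_rfl hx.1 hy.2
    have hz : (x - x * y) * (x - x * y) = x - x * y := by
      have h1 : x * y * x = x * y := by rw [mul_assoc, ← hc, ← mul_assoc, hxx]
      have h2 : x * (x * y) = x * y := by rw [← mul_assoc, hxx]
      have h3 : x * y * (x * y) = x * y := by rw [← mul_assoc, h1, mul_assoc, hyy]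
      rw [sub_mul, mul_sub, mul_sub, hxx, h1, h2, h3, sub_self, sub_zero]
    refine sub_eq_zero.mp (eq_zero_of_lam hM (sub_mem hx (mul_mem hx hy)) hz fun χ => ?_)
    rw [lam_sub χ hx (mul_mem hx hy), lam_mul χ hx hy, ← h χ, ← lam_mul χ hx hx, hxx, sub_self]
  rw [key f f' hf hff hf' hff' h, alg_commute le_rfl hf.1 hf'.2]
  exact (key f' f hf' hff' hf hff fun χ => (h χ).symm).symm

/-- The idempotent of a set of characters in the residue group algebra. -/
noncomputable def idem (M : Ideal AlgInt) [M.IsPrime] (B : Set (IrrCharacter G)) :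
    MonoidAlgebra (Residue M) G :=
  redFun M (blockCoeff B)

theorem idem_mem (B : Set (IrrCharacter G)) : idem M B ∈ alg (Residue M) ⊤ ⊤ :=
  redFun_mem (isClassFunction_blockCoeff B)

theorem lam_idem {B : Set (IrrCharacter G)} (hB : IsPBlock M B) (χ : IrrCharacter G)
    [Decidable (χ ∈ B)] : lam χ (idem M B) = if χ ∈ B then 1 else 0 := by
  rw [idem, lam_redFun χ (isIntClass_blockCoeff hB), omega_blockCoeff, apply_ite (red M), red_one,
    red_zero]

theorem idem_idem {B : Set (IrrCharacter G)} (hB : IsPBlock M B) :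
    idem M B * idem M B = idem M B := by
  rw [idem, ← redFun_conv (isIntClass_blockCoeff hB).2 (isIntClass_blockCoeff hB).2]
  classical
  letI := irrFintype (G := G)
  have hc := isClassFunction_blockCoeff (G := G) B
  congr 1
  funext g
  rw [eq_sum_omega (isClassFunction_conv hc hc) g, eq_sum_omega hc g]
  congr 1
  refine Finset.sum_congr rfl fun χ _ => ?_
  rw [omega_conv χ hc, omega_blockCoeff]
  split_ifs <;> simp

theorem lam_eq_of_sameBlock {B : Set (IrrCharacter G)} (hB : IsPBlock M B) {χ ψ : IrrCharacter G}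
    (hχ : χ ∈ B) (hψ : ψ ∈ B) {a : MonoidAlgebra (Residue M) G} (ha : a ∈ alg (Residue M) ⊤ ⊤) :
    lam χ a = lam ψ a := by
  have ha' := isIntClass_liftFun ha
  rw [lam, lam, red_eq_iff (omega_mem χ ha') (omega_mem ψ ha')]
  exact omega_cong (sameBlock_of_mem hB hχ hψ) ha'

theorem idem_ne_zero {B : Set (IrrCharacter G)} (hB : IsPBlock M B) : idem M B ≠ 0 := by
  classical
  intro h
  obtain ⟨χ, hχ⟩ := exists_mem_block hB
  have h1 := lam_idem hB χ
  rw [h, lam_zero, if_pos hχ] at h1
  exact zero_ne_one h1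

theorem lam_eq_zero_or_one (χ : IrrCharacter G) {f : MonoidAlgebra (Residue M) G}
    (hf : f ∈ alg (Residue M) ⊤ ⊤) (hff : f * f = f) : lam χ f = 0 ∨ lam χ f = 1 := by
  have h := lam_mul χ hf hf
  rw [hff] at h
  rcases eq_or_ne (lam χ f) 0 with h0 | h0
  · exact Or.inl h0
  · exact Or.inr (mul_left_cancel₀ h0 (by rw [← h, mul_one]))

theorem isBlk_idem (hM : IsPModular p M) {B : Set (IrrCharacter G)} (hB : IsPBlock M B) :
    IsBlk (Residue M) ⊤ (idem M B) := by
  classical
  refine ⟨idem_mem B, idem_ne_zero hB, idem_idem hB, fun f hf hff => ?_⟩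
  have hef : idem M B * f ∈ alg (Residue M) ⊤ ⊤ := mul_mem (idem_mem B) hf
  have hcomm : f * idem M B = idem M B * f := alg_commute le_rfl hf.1 (idem_mem B).2
  have hefef : idem M B * f * (idem M B * f) = idem M B * f := by
    rw [← mul_assoc, mul_assoc (idem M B) f, hcomm, ← mul_assoc, idem_idem hB, mul_assoc, hff]
  obtain ⟨χ₀, hχ₀⟩ := exists_mem_block hB
  rcases lam_eq_zero_or_one χ₀ hf hff with h0 | h1
  · left
    refine eq_zero_of_lam hM hef hefef fun χ => ?_
    rw [lam_mul χ (idem_mem B) hf, lam_idem hB χ]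
    split_ifs with h
    · rw [one_mul, lam_eq_of_sameBlock hB h hχ₀ hf, h0]
    · rw [zero_mul]
  · right
    refine eq_of_lam hM hef hefef (idem_mem B) (idem_idem hB) fun χ => ?_
    rw [lam_mul χ (idem_mem B) hf, lam_idem hB χ]
    split_ifs with h
    · rw [one_mul, lam_eq_of_sameBlock hB h hχ₀ hf, h1]
    · rw [zero_mul]

theorem idem_injective {B B' : Set (IrrCharacter G)} (hB : IsPBlock M B) (hB' : IsPBlock M B')
    (h : idem M B = idem M B') : B = B' := by
  classical
  obtain ⟨χ, hχ⟩ := exists_mem_block hB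
  refine block_eq_of_common hB hB' hχ ?_
  have h1 := lam_idem hB χ
  have h2 := lam_idem hB' χ
  rw [h, h2, if_pos hχ] at h1
  by_contra hn
  rw [if_neg hn] at h1
  exact zero_ne_one h1

/-- Every block of the residue group algebra comes from a block of characters. -/
theorem exists_idem_eq (hM : IsPModular p M) {f : MonoidAlgebra (Residue M) G}
    (hf : IsBlk (Residue M) ⊤ f) : ∃ B, IsPBlock M B ∧ idem M B = f := by
  classical
  obtain ⟨χ, hχ⟩ : ∃ χ, lam χ f ≠ 0 := by
    by_contra h
    push Not at h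
    exact hf.ne_zero (eq_zero_of_lam hM hf.mem hf.idem h)
  have hB := isPBlock_blockOf (M := M) χ
  refine ⟨_, hB, ?_⟩
  by_contra hne
  have h0 := (isBlk_idem hM hB).mul_eq_zero_of_ne
    (alg_comm (k := Residue M) (le_refl (⊤ : Subgroup G))) hf hne
  have := lam_mul χ (idem_mem (M := M) (blockOf M (χ : G → ℂ))) hf.mem
  rw [h0, lam_zero, lam_idem hB χ, if_pos (mem_blockOf_self χ), one_mul] at this
  exact hχ this.symm

/-- An idempotent of the centre acts as one on a block iff the central character is one. -/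
theorem mul_idem_eq_iff (hM : IsPModular p M) {B : Set (IrrCharacter G)} (hB : IsPBlock M B)
    {c : MonoidAlgebra (Residue M) G} (hc : c ∈ alg (Residue M) ⊤ ⊤) (hcc : c * c = c) :
    c * idem M B = idem M B ↔ ∀ χ ∈ B, lam χ c = 1 := by
  classical
  constructor
  · intro h χ hχ
    have := lam_mul χ hc (idem_mem (M := M) B)
    rw [h, lam_idem hB χ, if_pos hχ, mul_one] at this
    exact this.symm
  · intro h
    rw [alg_commute le_rfl hc.1 (idem_mem B).2]
    rcases (isBlk_idem hM hB).mul_eq_zero_or hc hcc with h0 | h1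
    · exfalso
      obtain ⟨χ, hχ⟩ := exists_mem_block hB
      have := lam_mul χ (idem_mem (M := M) B) hc
      rw [h0, lam_zero, lam_idem hB χ, if_pos hχ, h χ hχ, one_mul] at this
      exact zero_ne_one this
    · exact h1

end CfsgLib.BrauerPairs
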