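import Cfsg.Agent.BrauerPairs.Reduction
import Cfsg.Prelude.Def_BrauerPairs

/-!
# Idempotents of blocks of subgroups inside the residue group algebra of the whole group
-/

namespace CfsgLib.BrauerPairs

open Cfsg CfsgLib.Block CfsgLib.Block.Chr

universe u

section emb

variable {k : Type*} [Field k] {G : Type u} [Group G] [Fintype G] (H : Subgroup G) [Fintype H]

/-- The inclusion of the group algebra of a subgroup. -/
noncomputable def emb : MonoidAlgebra k H →ₐ[k] MonoidAlgebra k G :=
  MonoidAlgebra.mapDomainAlgHom k k H.subtype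

omit [Fintype G] [Fintype H] in
theorem coeff_emb_coe (a : MonoidAlgebra k H) (h : H) : (emb H a).coeff (h : G) = a.coeff h := by
  simp [emb, Finsupp.mapDomain_apply Subtype.coe_injective]

omit [Fintype G] [Fintype H] in
theorem coeff_emb_not_mem (a : MonoidAlgebra k H) {g : G} (hg : g ∉ H) :
    (emb H a).coeff g = 0 := by
  simp only [emb, MonoidAlgebra.mapDomainAlgHom_apply, MonoidAlgebra.coeff_mapDomain]
  exact Finsupp.mapDomain_of_notMem_range _ _ (fun ⟨h, e⟩ => hg (e ▸ h.2))

omit [Fintype G] [Fintype H] in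
theorem emb_injective : Function.Injective (emb (k := k) H) := fun a b h => coeff_ext fun x => by
  rw [← coeff_emb_coe, h, coeff_emb_coe]

/-- Restriction of coefficients to a subgroup. -/
noncomputable def restr (a : MonoidAlgebra k G) : MonoidAlgebra k H := ofFun fun h => a.coeff h

theorem emb_restr {a : MonoidAlgebra k G} (ha : SuppIn H a) : emb H (restr H a) = a :=
  coeff_ext fun g => by
    by_cases hg : g ∈ H
    · rw [show g = ((⟨g, hg⟩ : H) : G) from rfl, coeff_emb_coe]; simp [restr]
    · rw [coeff_emb_not_mem H _ hg, ha g hg]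

theorem emb_mem {a : MonoidAlgebra k H} (ha : a ∈ alg k (⊤ : Subgroup H) ⊤) :
    emb H a ∈ alg k H H := by
  refine ⟨fun g hg => coeff_emb_not_mem H a hg, fixBy_of_coeff fun t ht g => ?_⟩
  by_cases hg : g ∈ H
  · obtain ⟨g, rfl⟩ : ∃ g' : H, (g' : G) = g := ⟨⟨g, hg⟩, rfl⟩
    rw [show t⁻¹ * (g : G) * t = (((⟨t, ht⟩ : H)⁻¹ * g * ⟨t, ht⟩ : H) : G) from rfl,
      coeff_emb_coe, coeff_emb_coe]
    exact ha.2.coeff_eq (Subgroup.mem_top _) _
  · rw [coeff_emb_not_mem H a hg, coeff_emb_not_mem H a fun h => hg (by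
      simpa [mul_assoc] using H.mul_mem (H.mul_mem ht h) (H.inv_mem ht))]

theorem restr_mem {a : MonoidAlgebra k G} (ha : a ∈ alg k H H) :
    restr H a ∈ alg k (⊤ : Subgroup H) ⊤ := by
  refine ⟨suppIn_top _, fixBy_of_coeff fun t _ g => ?_⟩
  simp only [restr, coeff_ofFun, Subgroup.coe_mul, Subgroup.coe_inv]
  exact ha.2.coeff_eq t.2 _

theorem isBlk_emb {a : MonoidAlgebra k H} (ha : IsBlk k (⊤ : Subgroup H) a) :
    IsBlk k H (emb H a) := by
  refine ⟨emb_mem H ha.mem, fun h => ha.ne_zero (emb_injective H (h.trans (map_zero _).symm)),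
    by rw [← map_mul, ha.idem], fun f hf hff => ?_⟩
  have hf' := restr_mem H hf
  have hff' : restr H f * restr H f = restr H f := emb_injective H (by
    rw [map_mul, emb_restr H hf.1, hff])
  rcases ha.mul_eq_zero_or hf' hff' with h | h
  · left; rw [← emb_restr H hf.1, ← map_mul, h, map_zero]
  · right; rw [← emb_restr H hf.1, ← map_mul, h]

theorem isBlk_restr {f : MonoidAlgebra k G} (hf : IsBlk k H f) :
    IsBlk k (⊤ : Subgroup H) (restr H f) := by
  have he := emb_restr H hf.mem.1
  refine ⟨restr_mem H hf.mem, fun h => hf.ne_zero (by rw [← he, h, map_zero]),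
    emb_injective H (by rw [map_mul, he, hf.idem]), fun g hg hgg => ?_⟩
  rcases hf.mul_eq_zero_or (emb_mem H hg) (by rw [← map_mul, hgg]) with h | h
  · left; exact emb_injective H (by rw [map_mul, he, h, map_zero])
  · right; exact emb_injective H (by rw [map_mul, he, h])

end emb

section idemIn

variable {G : Type u} [Group G] [Fintype G] {M : Ideal AlgInt} [M.IsPrime] {p : ℕ}
  {H : Subgroup G}

/-- The idempotent of a block of a subgroup inside the group algebra of the group. -/
noncomputable def idemIn (M : Ideal AlgInt) [M.IsPrime] (H : Subgroup G)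
    (e : Set (IrrCharacter H)) : MonoidAlgebra (Residue M) G :=
  ofFun fun g => red M (subgroupBlockCoeff H e g)

@[simp] theorem coeff_idemIn (e : Set (IrrCharacter H)) (g : G) :
    (idemIn M H e).coeff g = red M (subgroupBlockCoeff H e g) := by simp [idemIn]

theorem subgroupBlockCoeff_coe (e : Set (IrrCharacter H)) (h : H) :
    subgroupBlockCoeff H e (h : G) = blockCoeff e h := by
  simp only [subgroupBlockCoeff, dif_pos h.2]

theorem subgroupBlockCoeff_not_mem (e : Set (IrrCharacter H)) {g : G} (hg : g ∉ H) :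
    subgroupBlockCoeff H e g = 0 := by simp only [subgroupBlockCoeff, dif_neg hg]

theorem memLocalRing_subgroupBlockCoeff {e : Set (IrrCharacter H)} (he : IsPBlock M e) (g : G) :
    MemLocalRing M (subgroupBlockCoeff H e g) := by
  haveI := Fintype.ofFinite H
  by_cases hg : g ∈ H
  · rw [show g = ((⟨g, hg⟩ : H) : G) from rfl, subgroupBlockCoeff_coe]
    exact blockCoeff_mem he _
  · rw [subgroupBlockCoeff_not_mem e hg]; exact memLocalRing_zero

theorem idemIn_eq [Fintype H] (e : Set (IrrCharacter H)) :
    idemIn M H e = emb H (idem M e) := by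
  refine coeff_ext fun g => ?_
  by_cases hg : g ∈ H
  · rw [show g = ((⟨g, hg⟩ : H) : G) from rfl, coeff_emb_coe, coeff_idemIn, idem, coeff_redFun,
      subgroupBlockCoeff_coe]
  · rw [coeff_emb_not_mem H _ hg, coeff_idemIn, subgroupBlockCoeff_not_mem e hg, red_zero]

theorem isBlk_idemIn (hM : IsPModular p M) {e : Set (IrrCharacter H)} (he : IsPBlock M e) :
    IsBlk (Residue M) H (idemIn M H e) := by
  haveI := Fintype.ofFinite H
  rw [idemIn_eq]; exact isBlk_emb H (isBlk_idem hM he)

theorem idemIn_injective {e e' : Set (IrrCharacter H)} (he : IsPBlock M e) (he' : IsPBlock M e')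
    (h : idemIn M H e = idemIn M H e') : e = e' := by
  haveI := Fintype.ofFinite H
  rw [idemIn_eq, idemIn_eq] at h
  exact idem_injective he he' (emb_injective H h)

theorem exists_idemIn_eq (hM : IsPModular p M) {f : MonoidAlgebra (Residue M) G}
    (hf : IsBlk (Residue M) H f) : ∃ e, IsPBlock M e ∧ idemIn M H e = f := by
  haveI := Fintype.ofFinite H
  obtain ⟨e, he, h⟩ := exists_idem_eq hM (isBlk_restr H hf)
  exact ⟨e, he, by rw [idemIn_eq, h, emb_restr H hf.mem.1]⟩

/-- The Brauer truncation of the reduction of an integral `β` acts as one on a block of `C(P)` iff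
the Brauer central character of `β` is one. -/
theorem br_mul_idemIn_eq_iff (hM : IsPModular p M) (P : Subgroup G) {β : G → ℂ}
    (hβ : ∀ g, MemLocalRing M (β g))
    (hcl : ∀ c ∈ Subgroup.centralizer (P : Set G), ∀ x ∈ Subgroup.centralizer (P : Set G),
      β (c * x * c⁻¹) = β x)
    {e : Set (IrrCharacter (Subgroup.centralizer (P : Set G)))} (he : IsPBlock M e)
    (hidem : br P (redFun M β) * br P (redFun M β) = br P (redFun M β)) :
    br P (redFun M β) * idemIn M _ e = idemIn M _ e ↔
      ∀ ξ ∈ e, MemLocalIdeal M (brauerOmega P β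
        (ξ : Subgroup.centralizer (P : Set G) → ℂ) - 1) := by
  classical
  haveI := Fintype.ofFinite (Subgroup.centralizer (P : Set G))
  set C := Subgroup.centralizer (P : Set G)
  let b : C → ℂ := fun c => β c
  have hb : IsIntClass M b := ⟨fun c x => hcl _ x.2 _ c.2, fun c => hβ c⟩
  have hbr : br P (redFun M β) = emb C (redFun M b) := by
    refine coeff_ext fun g => ?_
    by_cases hg : g ∈ C
    · rw [coeff_br_of_mem _ hg, show g = ((⟨g, hg⟩ : C) : G) from rfl, coeff_emb_coe]
      simp [b]
    · rw [coeff_emb_not_mem C _ hg, coeff_br, if_neg hg]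
  rw [hbr] at hidem ⊢
  rw [idemIn_eq, ← map_mul, (emb_injective C).eq_iff,
    mul_idem_eq_iff hM he (redFun_mem hb.1) (emb_injective C (by rw [map_mul, hidem]))]
  refine forall₂_congr fun ξ _ => ?_
  rw [lam_redFun ξ hb, red_eq_one_iff (omega_mem ξ hb)]
  have : brauerOmega P β (ξ : C → ℂ) = omega (ξ : C → ℂ) b := by
    rw [brauerOmega, finsum_eq_sum_of_fintype, omega, Finset.sum_div]
  rw [this]

end idemIn

end CfsgLib.BrauerPairs
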