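import Cfsg.Agent.BrauerPairs.SubgroupIdem
import Cfsg.Agent.BrauerPairs.LocalBlocks

/-!
# Brauer pairs of a subgroup inside the group algebra of the whole group
-/

namespace CfsgLib.BrauerPairs

universe u

variable {k : Type*} [Field k] {G : Type u} [Group G] [Fintype G] (L : Subgroup G) [Fintype L]

omit [Fintype G] [Fintype L] in
theorem coeff_emb_of_eq (a : MonoidAlgebra k L) {g : G} {h : L} (e : (h : G) = g) :
    (emb L a).coeff g = a.coeff h := e ▸ coeff_emb_coe L a h

theorem cj_emb (x : L) (a : MonoidAlgebra k L) : cj k (x : G) (emb L a) = emb L (cj k x a) := by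
  refine coeff_ext fun g => ?_
  rw [coeff_cj]
  by_cases hg : g ∈ L
  · obtain ⟨g, rfl⟩ : ∃ g' : L, (g' : G) = g := ⟨⟨g, hg⟩, rfl⟩
    rw [coeff_emb_coe, coeff_cj]
    exact coeff_emb_of_eq L a rfl
  · rw [coeff_emb_not_mem L _ hg, coeff_emb_not_mem]
    exact fun h => hg (by simpa [mul_assoc] using L.mul_mem (L.mul_mem x.2 h) (L.inv_mem x.2))

theorem br_emb_eq (S : Subgroup L) (a : MonoidAlgebra k L) :
    br (S.map L.subtype) (emb L a) = emb L (br S a) := by
  classical
  refine coeff_ext fun g => ?_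
  by_cases hg : g ∈ L
  · obtain ⟨g, rfl⟩ : ∃ g' : L, (g' : G) = g := ⟨⟨g, hg⟩, rfl⟩
    rw [coeff_br, coeff_emb_coe, coeff_emb_coe, coeff_br]
    refine if_congr ?_ rfl rfl
    simp only [Subgroup.mem_centralizer_iff, SetLike.mem_coe, Subgroup.mem_map,
      Subgroup.coe_subtype, forall_exists_index, and_imp]
    exact ⟨fun h y hy => Subtype.ext (h _ y hy rfl),
      fun h _ y hy he => he ▸ congrArg Subtype.val (h y hy)⟩
  · rw [coeff_emb_not_mem L _ hg, coeff_br]
    split_ifs with h
    · exact coeff_emb_not_mem L a hg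
    · rfl

omit [Fintype G] [Fintype L] in
theorem map_centralizer_subtype (S : Subgroup L)
    (h : Subgroup.centralizer ((S.map L.subtype : Subgroup G) : Set G) ≤ L) :
    (Subgroup.centralizer (S : Set L)).map L.subtype =
      Subgroup.centralizer ((S.map L.subtype : Subgroup G) : Set G) := by
  ext g
  simp only [Subgroup.mem_map, Subgroup.coe_subtype]
  constructor
  · rintro ⟨c, hc, rfl⟩
    rw [Subgroup.mem_centralizer_iff]
    rintro _ ⟨y, hy, rfl⟩
    exact congrArg Subtype.val (Subgroup.mem_centralizer_iff.mp hc y hy)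
  · intro hg
    refine ⟨⟨g, h hg⟩, Subgroup.mem_centralizer_iff.mpr fun y hy => Subtype.ext ?_, rfl⟩
    exact Subgroup.mem_centralizer_iff.mp hg _ ⟨y, hy, rfl⟩

theorem emb_mem_alg {K T : Subgroup L} {a : MonoidAlgebra k L} (ha : a ∈ alg k K T) :
    emb L a ∈ alg k (K.map L.subtype) (T.map L.subtype) := by
  refine ⟨fun g hg => ?_, ?_⟩
  · by_cases hL : g ∈ L
    · obtain ⟨g, rfl⟩ : ∃ g' : L, (g' : G) = g := ⟨⟨g, hL⟩, rfl⟩
      rw [coeff_emb_coe]
      exact ha.1 g fun h => hg ⟨g, h, rfl⟩
    · exact coeff_emb_not_mem L a hL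
  · rintro _ ⟨t, ht, rfl⟩
    rw [Subgroup.coe_subtype, cj_emb, ha.2 t ht]

theorem restr_mem_alg {K T : Subgroup L} {a : MonoidAlgebra k G}
    (ha : a ∈ alg k (K.map L.subtype) (T.map L.subtype)) : restr L a ∈ alg k K T := by
  refine ⟨fun g hg => ?_, fun t ht => ?_⟩
  · simp only [restr, coeff_ofFun]
    exact ha.1 g fun ⟨y, hy, he⟩ => hg (by rwa [Subtype.ext he] at hy)
  · refine emb_injective L ?_
    have hs : SuppIn L a := ha.1.mono (Subgroup.map_subtype_le K)
    rw [← cj_emb, emb_restr L hs]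
    exact ha.2 _ ⟨t, ht, rfl⟩

theorem isBlk_emb_sub {K : Subgroup L} {a : MonoidAlgebra k L} (ha : IsBlk k K a) :
    IsBlk k (K.map L.subtype) (emb L a) := by
  refine ⟨emb_mem_alg L ha.mem, fun h => ha.ne_zero (emb_injective L (h.trans (map_zero _).symm)),
    by rw [← map_mul, ha.idem], fun f hf hff => ?_⟩
  have he := emb_restr L (hf.1.mono (Subgroup.map_subtype_le K))
  have hff' : restr L f * restr L f = restr L f := emb_injective L (by rw [map_mul, he, hff])
  rcases ha.mul_eq_zero_or (restr_mem_alg L hf) hff' with h | h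
  · left; rw [← he, ← map_mul, h, map_zero]
  · right; rw [← he, ← map_mul, h]

theorem isBlk_restr_sub {K : Subgroup L} {f : MonoidAlgebra k G}
    (hf : IsBlk k (K.map L.subtype) f) : IsBlk k K (restr L f) := by
  have he := emb_restr L (hf.suppIn.mono (Subgroup.map_subtype_le K))
  refine ⟨restr_mem_alg L hf.mem, fun h => hf.ne_zero (by rw [← he, h, map_zero]),
    emb_injective L (by rw [map_mul, he, hf.idem]), fun g hg hgg => ?_⟩
  rcases hf.mul_eq_zero_or (emb_mem_alg L hg) (by rw [← map_mul, hgg]) with h | h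
  · left; exact emb_injective L (by rw [map_mul, he, h, map_zero])
  · right; exact emb_injective L (by rw [map_mul, he, h])

omit [Fintype G] [Fintype L] in
theorem isPGroup_map_subtype {p : ℕ} {S : Subgroup L} :
    IsPGroup p (S.map L.subtype : Subgroup G) ↔ IsPGroup p S :=
  ⟨fun h => h.of_equiv (S.equivMapOfInjective _ L.subtype_injective).symm, fun h => h.map _⟩

variable {p : ℕ}

/-- A pair of the subgroup, in the whole group. -/
noncomputable def embPair (x : Subgroup L × MonoidAlgebra k L) :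
    Subgroup G × MonoidAlgebra k G := (x.1.map L.subtype, emb L x.2)

theorem isPair_embPair_iff {x : Subgroup L × MonoidAlgebra k L}
    (h : Subgroup.centralizer ((x.1.map L.subtype : Subgroup G) : Set G) ≤ L) :
    IsPair p (embPair L x) ↔ IsPair p x := by
  unfold IsPair embPair
  rw [isPGroup_map_subtype, ← map_centralizer_subtype L x.1 h]
  refine and_congr_right fun _ => ⟨fun hb => ?_, isBlk_emb_sub L⟩
  have h2 : restr L (emb L x.2) = x.2 := emb_injective L
    (emb_restr L (hb.suppIn.mono (Subgroup.map_subtype_le _)))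
  exact h2 ▸ isBlk_restr_sub L hb

theorem nstep_embPair {x y : Subgroup L × MonoidAlgebra k L}
    (hx : Subgroup.centralizer ((x.1.map L.subtype : Subgroup G) : Set G) ≤ L)
    (h : NStep p x y) : NStep p (embPair L x) (embPair L y) := by
  have hle : x.1.map L.subtype ≤ y.1.map L.subtype := Subgroup.map_mono h.2.2.1
  have hy := (Subgroup.centralizer_le (SetLike.coe_subset_coe.mpr hle)).trans hx
  refine ⟨(isPair_embPair_iff L hx).mpr h.1, (isPair_embPair_iff L hy).mpr h.2.1, hle, ?_, ?_, ?_⟩
  · exact (Subgroup.map_mono h.2.2.2.1).trans (Subgroup.le_normalizer_map _)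
  · rintro _ ⟨t, ht, rfl⟩
    show cj k (t : G) (emb L x.2) = emb L x.2
    rw [cj_emb, h.2.2.2.2.1 t ht]
  · show br (y.1.map L.subtype) (emb L x.2) * emb L y.2 = emb L y.2
    rw [br_emb_eq, ← map_mul, h.2.2.2.2.2]

theorem ple_embPair {x y : Subgroup L × MonoidAlgebra k L}
    (hx : Subgroup.centralizer ((x.1.map L.subtype : Subgroup G) : Set G) ≤ L)
    (h : PLE p x y) : PLE p (embPair L x) (embPair L y) := by
  induction h using Relation.ReflTransGen.head_induction_on with
  | refl => exact Relation.ReflTransGen.refl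
  | head hac _ ih =>
    refine Relation.ReflTransGen.head (nstep_embPair L hx hac) (ih ?_)
    exact (Subgroup.centralizer_le (SetLike.coe_subset_coe.mpr
      (Subgroup.map_mono hac.2.2.1))).trans hx

theorem cjPair_embPair (x : L) (y : Subgroup L × MonoidAlgebra k L) :
    cjPair (x : G) (embPair L y) = embPair L (cjPair x y) := by
  refine Prod.ext ?_ (cj_emb L x y.2)
  show (y.1.map L.subtype).map (MulAut.conj (x : G)).toMonoidHom =
    (y.1.map (MulAut.conj x).toMonoidHom).map L.subtype
  rw [Subgroup.map_map, Subgroup.map_map]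
  congr 1

end CfsgLib.BrauerPairs
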