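import Cfsg.Agent.BrauerPairs.Blk
import Mathlib.Logic.Relation
import Mathlib.GroupTheory.Nilpotent

/-!
# Brauer pairs

`NStep`: normal inclusion of Brauer pairs; its reflexive transitive closure gives inclusion.
Uniqueness of the pair below a given one on a given subgroup, blocks of pairs, and conjugacy of
maximal pairs (Alperin–Broué).
-/

namespace CfsgLib.BrauerPairs

variable {p : ℕ} [hp : Fact p.Prime] {k : Type*} [Field k] [hk : CharP k p]
  {G : Type*} [Group G] [Fintype G]

/-- Centralizer of a subgroup, as a subgroup. -/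
local notation "C[" Q "]" => Subgroup.centralizer (SetLike.coe Q)

/-- A Brauer pair: a `p`-subgroup and a block idempotent of its centralizer. -/
def IsPair (p : ℕ) (x : Subgroup G × MonoidAlgebra k G) : Prop :=
  IsPGroup p x.1 ∧ IsBlk k C[x.1] x.2

/-- Normal inclusion of Brauer pairs. -/
def NStep (p : ℕ) (x y : Subgroup G × MonoidAlgebra k G) : Prop :=
  IsPair p x ∧ IsPair p y ∧ x.1 ≤ y.1 ∧ y.1 ≤ Subgroup.normalizer (x.1 : Set G) ∧
    FixBy y.1 x.2 ∧ br y.1 x.2 * y.2 = y.2

/-- Inclusion of Brauer pairs. -/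
def PLE (p : ℕ) (x y : Subgroup G × MonoidAlgebra k G) : Prop :=
  Relation.ReflTransGen (NStep p) x y

omit [Fintype G] in
theorem centralizer_le_normalizer (Q : Subgroup G) :
    C[Q] ≤ Subgroup.normalizer (Q : Set G) := by
  intro c hc
  rw [Subgroup.mem_normalizer_iff]
  intro q
  refine ⟨fun hq => ?_, fun hq => ?_⟩
  · rw [← Subgroup.mem_centralizer_iff.mp hc q hq, mul_inv_cancel_right]; exact hq
  · have := Subgroup.mem_centralizer_iff.mp hc _ hq
    simp only [mul_assoc, inv_mul_cancel, mul_one] at this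
    have h3 : q * c = c * q := by
      have h4 := congrArg (fun z => c⁻¹ * z * c) this
      simpa [mul_assoc] using h4
    have h2 : q = c * q * c⁻¹ := by rw [← h3, mul_inv_cancel_right]
    rwa [h2]

theorem IsPair.suppIn {x : Subgroup G × MonoidAlgebra k G} (h : IsPair p x) :
    SuppIn C[x.1] x.2 := h.2.suppIn

theorem IsPair.fix_self {x : Subgroup G × MonoidAlgebra k G} (h : IsPair p x) :
    FixBy x.1 x.2 := fixBy_of_suppIn_centralizer h.suppIn

theorem IsPair.br_self {x : Subgroup G × MonoidAlgebra k G} (h : IsPair p x) :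
    br x.1 x.2 = x.2 := br_eq_self h.suppIn

/-- The truncation at `P` of a `P`-stable block idempotent of `C(Q)`, `Q ≤ P`. -/
theorem br_mem_alg {P Q : Subgroup G} (hQP : Q ≤ P) {f : MonoidAlgebra k G}
    (hf : f ∈ alg k C[Q] C[Q]) : br P f ∈ alg k C[P] C[P] :=
  ⟨suppIn_br f, fixBy_br (hf.2.mono (Subgroup.centralizer_le (SetLike.coe_subset_coe.mpr hQP)))
    (centralizer_le_normalizer P)⟩

theorem br_idem {P : Subgroup G} (hP : IsPGroup p P) {f : MonoidAlgebra k G} (hf : f * f = f)
    (hfix : FixBy P f) : br P f * br P f = br P f := by rw [← br_mul hP hfix hfix, hf]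

theorem coeff_cj_of_mem_centralizer {P : Subgroup G} {u g : G} (hu : u ∈ P)
    (hg : g ∈ C[P]) (a : MonoidAlgebra k G) : (cj k u a).coeff g = a.coeff g := by
  rw [coeff_cj, mul_assoc, ← Subgroup.mem_centralizer_iff.mp hg u hu, inv_mul_cancel_left]

/-- Exactly one block idempotent of `C(Q)` lies normally below a given pair `(P, e)`. -/
theorem existsUnique_nstep {P Q : Subgroup G} {e : MonoidAlgebra k G} (hPe : IsPair p (P, e))
    (hQP : Q ≤ P) (hPN : P ≤ Subgroup.normalizer (Q : Set G)) :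
    ∃! f, NStep p (Q, f) (P, e) := by
  classical
  have hS := alg_comm (k := k) (le_refl C[Q])
  have hP : IsPGroup p P := hPe.1
  -- uniqueness
  have huniq : ∀ f f', NStep p (Q, f) (P, e) → NStep p (Q, f') (P, e) → f = f' := by
    intro f f' h h'
    by_contra hne
    have h0 := h.1.2.mul_eq_zero_of_ne hS h'.1.2 hne
    apply hPe.2.ne_zero
    have hzero : br P f * br P f' = 0 := by
      rw [← br_mul hP h.2.2.2.2.1 h'.2.2.2.2.1, h0, map_zero]
    calc e = br P f * e := h.2.2.2.2.2.symm
      _ = br P f * (br P f' * e) := by rw [h'.2.2.2.2.2]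
      _ = 0 := by rw [← mul_assoc, hzero, zero_mul]
  refine existsUnique_of_exists_of_unique ?_ huniq
  set s := primFinset hS with hs
  have hsum : ∑ f ∈ s, br P f = (1 : MonoidAlgebra k G) := by
    rw [← map_sum, sum_primFinset hS, br_one]
  have hPC : P ≤ Subgroup.normalizer (C[Q] : Set G) := hPN.trans map_normalizer_centralizer
  let _ : MulAction P s :=
    { smul := fun u f => ⟨cj k (u : G) f, (mem_primFinset hS).mpr
        (IsBlk.cj_of_mem ((mem_primFinset hS).mp f.2) (hPC u.2))⟩
      one_smul := fun f => Subtype.ext (by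
        show cj k ((1 : P) : G) (f : MonoidAlgebra k G) = f
        simp)
      mul_smul := fun u v f => Subtype.ext (by
        show cj k ((u * v : P) : G) (f : MonoidAlgebra k G) = cj k (u : G) (cj k (v : G) f)
        rw [Subgroup.coe_mul, cj_mul]) }
  by_contra hno
  apply hPe.2.ne_zero
  have hfix0 : ∀ f ∈ s, FixBy P f → br P f * e = 0 := by
    intro f hf hfix
    have hfb : IsBlk k C[Q] f := (mem_primFinset hS).mp hf
    have hcomm := alg_comm (k := k) (le_refl C[P]) _ (br_mem_alg hQP hfb.mem) _ hPe.2.mem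
    rcases hPe.2.mul_eq_zero_or (br_mem_alg hQP hfb.mem) (br_idem hP hfb.idem hfix) with h | h
    · rw [hcomm]; exact h
    · exact absurd ⟨f, ⟨hP.to_le hQP, hfb⟩, hPe, hQP, hPN, hfix, by rw [hcomm]; exact h⟩ hno
  calc e = (∑ f ∈ s, br P f) * e := by rw [hsum, one_mul]
    _ = ∑ f : s, br P (f : MonoidAlgebra k G) * e := by
        rw [Finset.sum_mul, ← Finset.sum_coe_sort]
    _ = 0 := by
      have h1 : ∑ f : s, br P (f : MonoidAlgebra k G) =
          ∑ f ∈ (MulAction.fixedPoints P s).toFinset, br P (f : MonoidAlgebra k G) := by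
        apply coeff_ext
        intro g
        rw [MonoidAlgebra.coeff_sum, Finsupp.finsetSum_apply, MonoidAlgebra.coeff_sum,
          Finsupp.finsetSum_apply]
        refine sum_eq_sum_fixed hP (fun f : s => (br P (f : MonoidAlgebra k G)).coeff g) fun u f => ?_
        show (br P (cj k (u : G) (f : MonoidAlgebra k G))).coeff g = _
        by_cases hg : g ∈ C[P]
        · rw [coeff_br_of_mem _ hg, coeff_br_of_mem _ hg, coeff_cj_of_mem_centralizer u.2 hg]
        · rw [suppIn_br _ g hg, suppIn_br _ g hg]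
      rw [← Finset.sum_mul, h1, Finset.sum_mul]
      refine Finset.sum_eq_zero fun f hf => hfix0 f f.2 fun u hu => ?_
      exact congrArg Subtype.val (Set.mem_toFinset.mp hf ⟨u, hu⟩)

/-- Transitivity: a stable block normally below the top is normally below a normal intermediate
pair. -/
theorem NStep.descend {Q R S : Subgroup G} {f gR gS : MonoidAlgebra k G}
    (h1 : NStep p (Q, f) (S, gS)) (h2 : NStep p (R, gR) (S, gS)) (hQR : Q ≤ R) :
    NStep p (Q, f) (R, gR) := by
  have hRS : R ≤ S := h2.2.2.1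
  have hR : IsPGroup p R := h2.1.1
  have hS : IsPGroup p S := h2.2.1.1
  have hfixR : FixBy R f := h1.2.2.2.2.1.mono hRS
  refine ⟨h1.1, h2.1, hQR, hRS.trans h1.2.2.2.1, hfixR, ?_⟩
  have hmem := br_mem_alg (P := R) hQR h1.1.2.mem
  have hcomm := alg_comm (k := k) (le_refl C[R]) _ hmem _ h2.1.2.mem
  rcases h2.1.2.mul_eq_zero_or hmem (br_idem hR h1.1.2.idem hfixR) with h | h
  · exfalso
    apply h1.2.1.2.ne_zero
    have hfixS : FixBy S (br R f) := fixBy_br h1.2.2.2.2.1 h2.2.2.2.1
    have hz : br S (br R f * gR) = 0 := by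
      rw [show br R f * gR = gR * br R f from hcomm, h, map_zero]
    rw [br_mul hS hfixS h2.2.2.2.2.1, br_br_of_le hRS] at hz
    calc gS = br S f * gS := h1.2.2.2.2.2.symm
      _ = br S f * (br S gR * gS) := by rw [h2.2.2.2.2.2]
      _ = 0 := by rw [← mul_assoc, hz, zero_mul]
  · show br R f * gR = gR
    rw [hcomm]; exact h

omit hp hk in
theorem PLE.le {x y : Subgroup G × MonoidAlgebra k G} (h : PLE p x y) : x.1 ≤ y.1 := by
  induction h with
  | refl => exact le_rfl
  | tail _ h2 ih => exact ih.trans h2.2.2.1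

omit hp hk in
theorem PLE.isPair {x y : Subgroup G × MonoidAlgebra k G} (h : PLE p x y) (hy : IsPair p y) :
    IsPair p x := by
  induction h using Relation.ReflTransGen.head_induction_on with
  | refl => exact hy
  | head h1 _ _ => exact h1.1

theorem NStep.eq_of_eq {Q : Subgroup G} {f g : MonoidAlgebra k G} (h : NStep p (Q, f) (Q, g)) :
    f = g := by
  have h1 := h.2.2.2.2.2
  simp only at h1
  rw [show br Q f = f from h.1.br_self] at h1
  by_contra hne
  exact h.2.1.2.ne_zero (h1.symm.trans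
    (h.1.2.mul_eq_zero_of_ne (alg_comm le_rfl) h.2.1.2 hne))

theorem PLE.eq_of_eq {x y : Subgroup G × MonoidAlgebra k G} (h : PLE p x y) (he : x.1 = y.1) :
    x = y := by
  induction h using Relation.ReflTransGen.head_induction_on with
  | refl => rfl
  | @head a b h1 h2 ih =>
    have hab : a.1 = b.1 := le_antisymm h1.2.2.1 ((PLE.le h2).trans he.symm.le)
    have heq : a = b := by
      obtain ⟨Q, f⟩ := a
      obtain ⟨R, g⟩ := b
      simp only at hab
      subst hab
      rw [NStep.eq_of_eq h1]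
    rw [heq]
    exact ih (heq ▸ he)

omit [Fintype G] hk in
theorem lt_normalizer_inf [Finite G] {Q P : Subgroup G} (hP : IsPGroup p P) (h : Q < P) :
    Q < P ⊓ Subgroup.normalizer (Q : Set G) := by
  haveI : Group.IsNilpotent P := hP.isNilpotent
  have hnc := normalizerCondition_of_isNilpotent (G := P) (Q.subgroupOf P) (by
    rw [lt_top_iff_ne_top, Ne, Subgroup.subgroupOf_eq_top]
    exact fun hle => absurd (h.trans_le hle) (lt_irrefl _))
  obtain ⟨⟨x, hxP⟩, hxN, hxQ⟩ := SetLike.exists_of_lt hnc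
  rw [Subgroup.mem_subgroupOf] at hxQ
  refine lt_of_le_of_ne (le_inf h.le Subgroup.le_normalizer) fun he => hxQ ?_
  refine he.ge (Subgroup.mem_inf.mpr ⟨hxP, ?_⟩)
  rw [Subgroup.mem_normalizer_iff] at hxN ⊢
  intro q
  refine ⟨fun hq => ?_, fun hq => ?_⟩
  · exact (hxN ⟨q, h.le hq⟩).mp hq
  · have hqP : q ∈ P := by
      have := P.mul_mem (P.mul_mem (P.inv_mem hxP) (h.le hq)) hxP
      simpa [mul_assoc] using this
    exact (hxN ⟨q, hqP⟩).mpr hq

/-- **Uniqueness of subpairs**: below `(P, e)` there is exactly one pair on each subgroup. -/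
theorem existsUnique_ple {P : Subgroup G} {e : MonoidAlgebra k G} (hPe : IsPair p (P, e))
    {Q : Subgroup G} (hQP : Q ≤ P) : ∃! f, PLE p (Q, f) (P, e) := by
  induction hn : Nat.card P - Nat.card Q using Nat.strong_induction_on generalizing Q with
  | _ n ih =>
    subst hn
    have hP : IsPGroup p P := hPe.1
    rcases hQP.eq_or_lt with rfl | hlt
    · exact ⟨e, Relation.ReflTransGen.refl, fun f hf => congrArg Prod.snd (PLE.eq_of_eq hf rfl)⟩
    have hdec : ∀ {R : Subgroup G}, Q < R → R ≤ P →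
        Nat.card P - Nat.card R < Nat.card P - Nat.card Q := by
      intro R hQR hRP
      have h1 : Nat.card Q < Nat.card R := by
        by_contra hc
        exact hQR.ne (Subgroup.eq_of_le_of_card_ge hQR.le (not_lt.mp hc))
      have h2 := Subgroup.card_le_of_le hRP
      omega
    set N := P ⊓ Subgroup.normalizer (Q : Set G) with hN
    have hQN : Q < N := lt_normalizer_inf hP hlt
    obtain ⟨gN, hgN, -⟩ := ih _ (hdec hQN inf_le_left) inf_le_left rfl
    obtain ⟨f₀, hf₀, -⟩ :=
      existsUnique_nstep (PLE.isPair hgN hPe) hQN.le inf_le_right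
    -- every pair on a subgroup between `Q` and `N` receives `(Q, f₀)`
    have hmid : ∀ (n : ℕ) (R : Subgroup G) (g : MonoidAlgebra k G), Nat.card N - Nat.card R = n →
        Q < R → R ≤ N → PLE p (R, g) (P, e) → NStep p (Q, f₀) (R, g) := by
      intro n
      induction n using Nat.strong_induction_on with
      | _ n ih2 =>
        intro R g hn hQR hRN hg
        rcases hRN.eq_or_lt with rfl | hRlt
        · obtain ⟨g', -, hu⟩ := ih _ (hdec hQR inf_le_left) inf_le_left rfl
          rw [hu g hg, ← hu gN hgN]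
          exact hf₀
        · set S := N ⊓ Subgroup.normalizer (R : Set G) with hS
          have hRS : R < S := lt_normalizer_inf (hP.to_le inf_le_left) hRlt
          have hSP : S ≤ P := inf_le_left.trans inf_le_left
          obtain ⟨gS, hgS, -⟩ := ih _ (hdec (hQR.trans hRS) hSP) hSP rfl
          obtain ⟨g', hg', -⟩ := existsUnique_nstep (PLE.isPair hgS hPe) hRS.le inf_le_right
          have hg'P : PLE p (R, g') (P, e) := Relation.ReflTransGen.head hg' hgS
          obtain ⟨g'', -, hu⟩ := ih _ (hdec hQR (hRN.trans inf_le_left)) (hRN.trans inf_le_left) rfl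
          rw [hu g hg, ← hu g' hg'P]
          refine NStep.descend (ih2 _ ?_ S gS rfl (hQR.trans hRS) inf_le_left hgS) hg' hQR.le
          have h1 : Nat.card R < Nat.card S := by
            by_contra hc
            exact hRS.ne (Subgroup.eq_of_le_of_card_ge hRS.le (not_lt.mp hc))
          have h2 : Nat.card S ≤ Nat.card N := Subgroup.card_le_of_le inf_le_left
          omega
    have key : ∀ x : Subgroup G × MonoidAlgebra k G, PLE p x (P, e) → x.1 = Q → x.2 = f₀ := by
      intro x hx
      induction hx using Relation.ReflTransGen.head_induction_on with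
      | refl => intro h; exact absurd h hlt.ne'
      | @head a c h1 h2 ih1 =>
        intro ha
        obtain ⟨A, f⟩ := a
        obtain ⟨R, g⟩ := c
        simp only at ha
        subst ha
        rcases (h1.2.2.1 : A ≤ R).eq_or_lt with rfl | hAR
        · exact (NStep.eq_of_eq h1).trans (ih1 rfl)
        · have hstep := hmid _ R g rfl hAR (le_inf (PLE.le h2) h1.2.2.2.1) h2
          obtain ⟨f', -, hu⟩ := existsUnique_nstep h1.2.1 h1.2.2.1 h1.2.2.2.1
          exact (hu f h1).trans (hu f₀ hstep).symm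
    exact ⟨f₀, Relation.ReflTransGen.head hf₀ hgN, fun f hf => key (Q, f) hf rfl⟩

omit hk in
theorem PLE.trans {x y z : Subgroup G × MonoidAlgebra k G} (h1 : PLE p x y) (h2 : PLE p y z) :
    PLE p x z := Relation.ReflTransGen.trans h1 h2

section conjugation

omit hp hk

/-- Conjugate a pair. -/
noncomputable def cjPair (x : G) (y : Subgroup G × MonoidAlgebra k G) :
    Subgroup G × MonoidAlgebra k G :=
  (y.1.map (MulAut.conj x).toMonoidHom, cj k x y.2)

omit [Fintype G] in
theorem map_conj_centralizer (x : G) (Q : Subgroup G) :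
    C[Q].map (MulAut.conj x).toMonoidHom = C[Q.map (MulAut.conj x).toMonoidHom] := by
  ext g
  constructor
  · rintro ⟨c, hc, rfl⟩
    rw [Subgroup.mem_centralizer_iff]
    rintro _ ⟨q, hq, rfl⟩
    rw [← map_mul, ← map_mul, Subgroup.mem_centralizer_iff.mp hc q hq]
  · intro hg
    obtain ⟨c, rfl⟩ := (MulAut.conj x).surjective g
    refine ⟨c, Subgroup.mem_centralizer_iff.mpr fun q hq => ?_, rfl⟩
    apply (MulAut.conj x).injective
    rw [map_mul, map_mul]
    exact Subgroup.mem_centralizer_iff.mp hg _ ⟨q, hq, rfl⟩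

omit [Fintype G] in
theorem map_conj_map_conj (x y : G) (Q : Subgroup G) :
    (Q.map (MulAut.conj y).toMonoidHom).map (MulAut.conj x).toMonoidHom =
      Q.map (MulAut.conj (x * y)).toMonoidHom := by
  rw [Subgroup.map_map]
  congr 1
  ext g
  simp [mul_assoc]

omit [Fintype G] in
theorem map_conj_one (Q : Subgroup G) : Q.map (MulAut.conj (1 : G)).toMonoidHom = Q :=
  map_conj_eq_self (one_mem _)

theorem cjPair_mul (x y : G) (z : Subgroup G × MonoidAlgebra k G) :
    cjPair (x * y) z = cjPair x (cjPair y z) := by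
  unfold cjPair
  rw [map_conj_map_conj, cj_mul]

theorem cjPair_one (z : Subgroup G × MonoidAlgebra k G) : cjPair (1 : G) z = z := by
  unfold cjPair
  rw [map_conj_one, cj_one]

theorem IsPair.cj {y : Subgroup G × MonoidAlgebra k G} (h : IsPair p y) (x : G) :
    IsPair p (cjPair x y) := by
  refine ⟨h.1.map _, ?_⟩
  have := h.2.cj x
  rwa [map_conj_centralizer] at this

theorem NStep.cj {a c : Subgroup G × MonoidAlgebra k G} (h : NStep p a c) (x : G) :
    NStep p (cjPair x a) (cjPair x c) := by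
  refine ⟨h.1.cj x, h.2.1.cj x, Subgroup.map_mono h.2.2.1, ?_, h.2.2.2.2.1.cj x, ?_⟩
  · have := Subgroup.map_mono (f := (MulAut.conj x).toMonoidHom) h.2.2.2.1
    exact this.trans (Subgroup.le_normalizer_map _)
  · have := congrArg (BrauerPairs.cj k x) h.2.2.2.2.2
    rw [map_mul, cj_br] at this
    exact this

theorem PLE.cj {a c : Subgroup G × MonoidAlgebra k G} (h : PLE p a c) (x : G) :
    PLE p (cjPair x a) (cjPair x c) := by
  induction h with
  | refl => exact Relation.ReflTransGen.refl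
  | tail _ h2 ih => exact ih.tail (h2.cj x)

end conjugation

section blocks

/-- `(Q, f)` is a Brauer pair of the block idempotent `b` of `G`. -/
def IsPairOf (p : ℕ) (b : MonoidAlgebra k G) (x : Subgroup G × MonoidAlgebra k G) : Prop :=
  IsPair p x ∧ br x.1 b * x.2 = x.2

variable {b : MonoidAlgebra k G}

omit [Fintype G] hp hk in
theorem centralizer_bot : C[(⊥ : Subgroup G)] = ⊤ := by
  rw [eq_top_iff]
  intro g _
  rw [Subgroup.mem_centralizer_iff]
  intro x hx
  rw [Subgroup.coe_bot, Set.mem_singleton_iff] at hx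
  simp [hx]

omit hk in
theorem isPair_bot (hb : IsBlk k ⊤ b) : IsPair p ((⊥ : Subgroup G), b) :=
  ⟨IsPGroup.of_bot, (centralizer_bot (G := G)).symm ▸ hb⟩

omit hk in
theorem isPairOf_iff_nstep (hb : IsBlk k ⊤ b) {x : Subgroup G × MonoidAlgebra k G} :
    IsPairOf p b x ↔ NStep p ((⊥ : Subgroup G), b) x := by
  constructor
  · intro h
    refine ⟨isPair_bot hb, h.1, bot_le, ?_, fun t _ => hb.fixBy t trivial, h.2⟩
    rw [Subgroup.normalizer_eq_top]
    exact le_top
  · exact fun h => ⟨h.2.1, h.2.2.2.2.2⟩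

theorem isPairOf_iff_ple (hb : IsBlk k ⊤ b) {x : Subgroup G × MonoidAlgebra k G}
    (hx : IsPair p x) : IsPairOf p b x ↔ PLE p ((⊥ : Subgroup G), b) x := by
  rw [isPairOf_iff_nstep hb]
  refine ⟨fun h => Relation.ReflTransGen.single h, fun h => ?_⟩
  obtain ⟨f, hf, -⟩ := existsUnique_nstep (Q := (⊥ : Subgroup G)) hx bot_le (by
    rw [Subgroup.normalizer_eq_top]; exact le_top)
  obtain ⟨f', -, hu⟩ := existsUnique_ple hx (bot_le : (⊥ : Subgroup G) ≤ x.1)
  rwa [hu b h, ← hu f (Relation.ReflTransGen.single hf)]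

/-- Every pair is a pair of exactly one block. -/
theorem existsUnique_isPairOf {x : Subgroup G × MonoidAlgebra k G} (hx : IsPair p x) :
    ∃! b, IsBlk k ⊤ b ∧ IsPairOf p b x := by
  obtain ⟨f, hf, hu⟩ := existsUnique_nstep (Q := (⊥ : Subgroup G)) hx bot_le (by
    rw [Subgroup.normalizer_eq_top]; exact le_top)
  have hfb : IsBlk k ⊤ f := centralizer_bot (G := G) ▸ hf.1.2
  exact ⟨f, ⟨hfb, (isPairOf_iff_nstep hfb).mpr hf⟩,
    fun c hc => hu c ((isPairOf_iff_nstep hc.1).mp hc.2)⟩

/-- Inclusion preserves the block. -/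
theorem isPairOf_iff_of_ple {x y : Subgroup G × MonoidAlgebra k G} (hb : IsBlk k ⊤ b)
    (h : PLE p x y) (hy : IsPair p y) : IsPairOf p b x ↔ IsPairOf p b y := by
  have hx := PLE.isPair h hy
  rw [isPairOf_iff_ple hb hx, isPairOf_iff_ple hb hy]
  refine ⟨fun h' => h'.trans h, fun h' => ?_⟩
  obtain ⟨f, hf, -⟩ := existsUnique_nstep (Q := (⊥ : Subgroup G)) hx bot_le (by
    rw [Subgroup.normalizer_eq_top]; exact le_top)
  obtain ⟨f', -, hu⟩ := existsUnique_ple hy (bot_le : (⊥ : Subgroup G) ≤ y.1)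
  have h1 : PLE p ((⊥ : Subgroup G), f) y := (Relation.ReflTransGen.single hf).trans h
  rw [hu b h', ← hu f h1]
  exact Relation.ReflTransGen.single hf

omit hp hk in
theorem IsPairOf.cj (hb : IsBlk k ⊤ b) {y : Subgroup G × MonoidAlgebra k G}
    (h : IsPairOf p b y) (x : G) : IsPairOf p b (cjPair x y) := by
  refine ⟨h.1.cj x, ?_⟩
  have := congrArg (BrauerPairs.cj k x) h.2
  rw [map_mul, cj_br, hb.fixBy x trivial] at this
  exact this

omit hp hk in
theorem IsPairOf.br_ne_zero {y : Subgroup G × MonoidAlgebra k G} (h : IsPairOf p b y) :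
    br y.1 b ≠ 0 := fun h0 => h.1.2.ne_zero (by rw [← h.2, h0, zero_mul])

/-- The defect subgroups of a block of `G`. -/
abbrev IsDef (p : ℕ) (b : MonoidAlgebra k G) (D : Subgroup G) : Prop := IsDefect p ⊤ ⊤ b D

omit [Fintype G] hp hk in
theorem le_normalizer_top {T : Subgroup G} :
    T ≤ Subgroup.normalizer ((⊤ : Subgroup G) : Set G) := by
  rw [Subgroup.normalizer_eq_top]; exact le_top

/-- A surviving truncation carries a pair of the block. -/
theorem exists_isPairOf (hb : IsBlk k ⊤ b) {Q : Subgroup G} (hQ : IsPGroup p Q)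
    (h : br Q b ≠ 0) : ∃ f, IsPairOf p b (Q, f) := by
  have hS := alg_comm (k := k) (le_refl C[Q])
  obtain ⟨f, hf, hne⟩ := exists_prim_mul_ne_zero hS h
  have hfix : FixBy Q b := hb.fixBy.mono le_top
  have hm : br Q b ∈ alg k C[Q] C[Q] :=
    ⟨suppIn_br b, fixBy_br (hb.fixBy.mono le_top) (centralizer_le_normalizer Q)⟩
  refine ⟨f, ⟨hQ, hf⟩, ?_⟩
  show br Q b * f = f
  rw [hS _ hm _ hf.mem]
  exact hf.mul_eq_self hm (br_idem hQ hb.idem hfix) hne

/-- A pair not on a defect subgroup extends normally to a larger one. -/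
theorem exists_extension (hb : IsBlk k ⊤ b) {D : Subgroup G} (hD : IsDef p b D)
    {Q : Subgroup G} {f : MonoidAlgebra k G} (hf : IsPairOf p b (Q, f))
    (hne : Nat.card Q ≠ Nat.card D) :
    ∃ R g, Q < R ∧ NStep p (Q, f) (R, g) ∧ IsPairOf p b (R, g) := by
  classical
  have hQ : IsPGroup p Q := hf.1.1
  have hfb : IsBlk k C[Q] f := hf.1.2
  let T : Subgroup G :=
    { carrier := {x | x ∈ Subgroup.normalizer (Q : Set G) ∧ cj k x f = f}
      one_mem' := ⟨one_mem _, cj_one f⟩
      mul_mem' := fun {a c} ha hc => ⟨mul_mem ha.1 hc.1, by rw [cj_mul, hc.2, ha.2]⟩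
      inv_mem' := fun {a} ha => ⟨inv_mem ha.1, by conv_lhs => rw [← ha.2, cj_inv_cj]⟩ }
  have hfixT : FixBy T f := fun t ht => ht.2
  have hCT : C[Q] ≤ T := fun c hc => ⟨centralizer_le_normalizer Q hc, hfb.fixBy c hc⟩
  have hTN : T ≤ Subgroup.normalizer (C[Q] : Set G) :=
    fun t ht => map_normalizer_centralizer ht.1
  have hQT : Q ≤ T := fun q hq => ⟨Subgroup.le_normalizer hq, hf.1.fix_self q hq⟩
  have hfp := hfb.prim hCT hfixT
  obtain ⟨R, hR⟩ := exists_isDefect (p := p) hfp hCT hTN
  have hbrQ : br Q f = f := hf.1.br_self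
  have hQR : Q ≤ R := by
    obtain ⟨x, hxT, hx⟩ := hR.exists_conj_le hQ hQT (hbrQ.symm ▸ hfb.ne_zero)
    rwa [map_conj_eq_self hxT.1] at hx
  rcases hQR.eq_or_lt with rfl | hlt
  · -- `Q` is then a defect subgroup of `b`
    exfalso
    apply hne
    obtain ⟨-, -, ⟨a, ha, hfa⟩, -⟩ := hR
    set a' := f * a with ha'
    have ha'mem : a' ∈ alg k C[Q] Q :=
      mul_mem ⟨hfb.suppIn, hf.1.fix_self⟩ ha
    have hfa' : tr Q T a' = f := by
      rw [ha', mul_tr hfixT, ← hfa, hfb.idem]
    set N := Subgroup.normalizer (Q : Set G) with hN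
    have hsum : f * tr Q N a' = f := by
      haveI : Fintype (N ⧸ Q.subgroupOf N) := Fintype.ofFinite _
      haveI : Fintype (T ⧸ Q.subgroupOf T) := Fintype.ofFinite _
      rw [tr_apply, Finset.mul_sum]
      rw [← Finset.sum_filter_of_ne
        (p := fun q : N ⧸ Q.subgroupOf N => ((q.out : N) : G) ∈ T) fun q _ h => by
        by_contra hq
        apply h
        rw [ha', map_mul, ← mul_assoc]
        have hblk : IsBlk k C[Q] (cj k ((q.out : N) : G) f) :=
          hfb.cj_of_mem (map_normalizer_centralizer (q.out).2)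
        rw [hfb.mul_eq_zero_of_ne (alg_comm le_rfl) hblk
          fun he => hq ⟨(q.out).2, he.symm⟩, zero_mul]]
      conv_rhs => rw [← hfb.idem]; arg 2; rw [← hfa', tr_apply]
      rw [Finset.mul_sum]
      symm
      refine Finset.sum_bij (fun r _ =>
        ((⟨((r.out : T) : G), (r.out).2.1⟩ : N) : N ⧸ Q.subgroupOf N)) ?_ ?_ ?_ ?_
      · intro r _
        simp only [Finset.mem_filter, Finset.mem_univ, true_and]
        have h2 : (⟨((r.out : T) : G), (r.out).2.1⟩ : N)⁻¹ *
            (((⟨((r.out : T) : G), (r.out).2.1⟩ : N) : N ⧸ Q.subgroupOf N).out) ∈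
              Q.subgroupOf N := by
          rw [← QuotientGroup.eq, QuotientGroup.out_eq']
        have h3 := T.mul_mem (r.out).2 (hQT (Subgroup.mem_subgroupOf.mp h2))
        simpa using h3
      · intro r _ r' _ h
        rw [← QuotientGroup.out_eq' r, ← QuotientGroup.out_eq' r']
        refine QuotientGroup.eq.mpr ?_
        have h1 := QuotientGroup.eq.mp h
        rw [Subgroup.mem_subgroupOf] at h1 ⊢
        exact h1
      · intro q hq
        simp only [Finset.mem_filter, Finset.mem_univ, true_and] at hq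
        refine ⟨((⟨_, hq⟩ : T) : T ⧸ Q.subgroupOf T), Finset.mem_univ _, ?_⟩
        conv_rhs => rw [← QuotientGroup.out_eq' q]
        refine QuotientGroup.eq.mpr ?_
        have h2 : (((⟨_, hq⟩ : T) : T ⧸ Q.subgroupOf T).out)⁻¹ * (⟨_, hq⟩ : T) ∈
            Q.subgroupOf T := by
          rw [← QuotientGroup.eq, QuotientGroup.out_eq']
        rw [Subgroup.mem_subgroupOf] at h2 ⊢
        exact h2
      · intro r _
        rw [← cj_rep ha'mem.2 (t := (⟨((r.out : T) : G), (r.out).2.1⟩ : N))
          (q := (((⟨((r.out : T) : G), (r.out).2.1⟩ : N) : N ⧸ Q.subgroupOf N))) rfl]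
    have hbr : br Q (b * tr Q ⊤ a') * f = f := by
      rw [br_mul hQ (hb.fixBy.mono le_top) ((tr_fixBy ha'mem.2).mono le_top),
        br_tr_self hQ le_top ha'mem.2, br_eq_self ha'mem.1, top_inf_eq]
      have hcm : tr Q N a' * f = f * tr Q N a' := alg_comm (k := k) (le_refl C[Q]) _
        ⟨tr_suppIn ha'mem.1 map_normalizer_centralizer,
          (tr_fixBy ha'mem.2).mono (centralizer_le_normalizer Q)⟩ _ hfb.mem
      rw [mul_assoc, hcm, hsum, hf.2]
    obtain ⟨a'', ha'', hba⟩ := mem_range_tr_of_br hb le_rfl hQ le_top le_normalizer_top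
      (alg_mono le_top le_rfl ha'mem) hfb.ne_zero hfb.idem hbr
    have hQdef : IsDef p b Q := ⟨hQ, le_top, ⟨a'', ha'', hba⟩, hf.br_ne_zero⟩
    exact le_antisymm (hD.card_le hQ le_top hf.br_ne_zero)
      (hQdef.card_le hD.1 le_top hD.2.2.2)
  · have hS := alg_comm (k := k) (le_refl C[R])
    have hRN : R ≤ Subgroup.normalizer (Q : Set G) := fun r hr => (hR.2.1 hr).1
    have hfixR : FixBy R f := hfixT.mono hR.2.1
    have hmem := br_mem_alg (P := R) hQR hfb.mem
    obtain ⟨g, hg, hne'⟩ := exists_prim_mul_ne_zero hS hR.2.2.2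
    have hgg : br R f * g = g := by
      rw [hS _ hmem _ hg.mem]
      exact hg.mul_eq_self hmem (br_idem hR.1 hfb.idem hfixR) hne'
    have hstep : NStep p (Q, f) (R, g) := ⟨hf.1, ⟨hR.1, hg⟩, hQR, hRN, hfixR, hgg⟩
    exact ⟨R, g, hlt, hstep,
      (isPairOf_iff_of_ple hb (Relation.ReflTransGen.single hstep) ⟨hR.1, hg⟩).mp hf⟩

/-- Every pair of a block lies below one on a defect subgroup. -/
theorem exists_ple_defect (hb : IsBlk k ⊤ b) {D : Subgroup G} (hD : IsDef p b D)
    {Q : Subgroup G} {f : MonoidAlgebra k G} (hf : IsPairOf p b (Q, f)) :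
    ∃ (R : Subgroup G) (g : MonoidAlgebra k G), Nat.card R = Nat.card D ∧ IsPairOf p b (R, g) ∧ PLE p (Q, f) (R, g) := by
  induction hn : Nat.card D - Nat.card Q using Nat.strong_induction_on generalizing Q f with
  | _ n ih =>
    subst hn
    by_cases he : Nat.card Q = Nat.card D
    · exact ⟨Q, f, he, hf, Relation.ReflTransGen.refl⟩
    · obtain ⟨R, g, hlt, hstep, hg⟩ := exists_extension hb hD hf he
      have h1 : Nat.card Q < Nat.card R := by
        by_contra hc
        exact hlt.ne (Subgroup.eq_of_le_of_card_ge hlt.le (not_lt.mp hc))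
      have h2 : Nat.card R ≤ Nat.card D := hD.card_le hg.1.1 le_top hg.br_ne_zero
      obtain ⟨R', g', hc, hg', hle⟩ := ih _ (by omega) hg rfl
      exact ⟨R', g', hc, hg', Relation.ReflTransGen.head hstep hle⟩

/-- The pairs of a block on one defect subgroup are conjugate under its normalizer. -/
theorem conj_of_isPairOf_defect (hb : IsBlk k ⊤ b) {D : Subgroup G} (hD : IsDef p b D)
    {e e' : MonoidAlgebra k G} (he : IsPairOf p b (D, e)) (he' : IsPairOf p b (D, e')) :
    ∃ x ∈ Subgroup.normalizer (D : Set G), cj k x e = e' := by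
  classical
  set N := Subgroup.normalizer (D : Set G) with hN
  have hS := alg_comm (k := k) (le_refl C[D])
  have hNC : ∀ x ∈ N, x ∈ Subgroup.normalizer (C[D] : Set G) :=
    fun x hx => map_normalizer_centralizer hx
  let s := (Finset.univ.filter fun x : G => x ∈ N).image fun x => cj k x e
  have hs : ∀ u ∈ s, IsBlk k C[D] u := by
    intro u hu
    obtain ⟨x, hx, rfl⟩ := Finset.mem_image.mp hu
    exact he.1.2.cj_of_mem (hNC x (Finset.mem_filter.mp hx).2)
  have hsb : ∀ u ∈ s, br D b * u = u := by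
    intro u hu
    obtain ⟨x, hx, rfl⟩ := Finset.mem_image.mp hu
    have hxN := (Finset.mem_filter.mp hx).2
    have h1 := congrArg (cj k x) he.2
    rw [map_mul, cj_br_of_mem hxN, hb.fixBy x trivial] at h1
    exact h1
  set S := ∑ u ∈ s, u with hSdef
  have hSmem : S ∈ alg k C[D] C[D] := Subalgebra.sum_mem _ fun u hu => (hs u hu).mem
  have hfixS : FixBy N S := by
    intro y hy
    rw [hSdef, map_sum]
    refine Finset.sum_nbij' (fun u => cj k y u) (fun u => cj k y⁻¹ u) ?_ ?_ ?_ ?_ fun _ _ => rfl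
    · intro u hu
      obtain ⟨x, hx, rfl⟩ := Finset.mem_image.mp hu
      exact Finset.mem_image.mpr ⟨y * x, by simpa using N.mul_mem hy (Finset.mem_filter.mp hx).2,
        cj_mul y x e⟩
    · intro u hu
      obtain ⟨x, hx, rfl⟩ := Finset.mem_image.mp hu
      exact Finset.mem_image.mpr
        ⟨y⁻¹ * x, by simpa using N.mul_mem (N.inv_mem hy) (Finset.mem_filter.mp hx).2,
          cj_mul y⁻¹ x e⟩
    · exact fun u _ => cj_inv_cj y u
    · exact fun u _ => cj_cj_inv y u
  have heS : e ∈ s := Finset.mem_image.mpr ⟨1, by simp, cj_one e⟩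
  have huS : ∀ u ∈ s, u * S = u := fun u hu => by
    rw [hSdef, Finset.mul_sum, Finset.sum_eq_single_of_mem u hu
      fun v hv hvu => (hs u hu).mul_eq_zero_of_ne hS (hs v hv) hvu.symm]
    exact (hs u hu).idem
  have hSS : S * S = S := by
    conv_lhs => arg 1; rw [hSdef]
    rw [Finset.sum_mul, hSdef]
    exact Finset.sum_congr rfl huS
  have hbS : br D b * S = S := by
    rw [hSdef, Finset.mul_sum]; exact Finset.sum_congr rfl hsb
  have hS0 : S ≠ 0 := fun h0 => he.1.2.ne_zero (by rw [← huS e heS, h0, mul_zero])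
  obtain ⟨a, ha, hba⟩ := hD.2.2.1
  have hbr : br D b = tr D N (br D a) := by
    rw [hba, br_tr_self hD.1 le_top ha.2, top_inf_eq]
  set a₁ := S * br D a with ha₁
  have ha₁mem : a₁ ∈ alg k ⊤ D :=
    ⟨suppIn_top _, fun t ht => by
      rw [ha₁, map_mul, hfixS t (Subgroup.le_normalizer ht), cj_br_of_mem (Subgroup.le_normalizer ht),
        ha.2 t ht]⟩
  have hbrbmem : br D b ∈ alg k C[D] C[D] :=
    ⟨suppIn_br b, fixBy_br (hb.fixBy.mono le_top) (centralizer_le_normalizer D)⟩
  have hbt : br D (tr D ⊤ a₁) = S := by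
    rw [br_tr_self hD.1 le_top ha₁mem.2, top_inf_eq]
    have h1 : br D a₁ = a₁ := by
      refine br_eq_self fun g hg => ?_
      rw [ha₁, coeff_mul]
      refine Finset.sum_eq_zero fun x _ => ?_
      by_cases hx : x ∈ C[D]
      · rw [suppIn_br a (x⁻¹ * g) fun h => hg (by simpa using mul_mem hx h), mul_zero]
      · rw [hSmem.1 x hx, zero_mul]
    rw [h1, ha₁, mul_tr hfixS, ← hbr, hS _ hSmem _ hbrbmem, hbS]
  have hbr' : br D (b * tr D ⊤ a₁) * S = S := by
    rw [br_mul hD.1 (hb.fixBy.mono le_top) ((tr_fixBy ha₁mem.2).mono le_top), hbt, mul_assoc, hSS,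
      hbS]
  have hy : b * tr D ⊤ a₁ ∈ alg k ⊤ ⊤ :=
    mul_mem hb.mem ⟨suppIn_top _, tr_fixBy ha₁mem.2⟩
  have hfull : S = br D b := by
    rcases hb.nilpotent_or_inv (alg_comm le_rfl) hy (by rw [← mul_assoc, hb.idem]) with
      ⟨n, hn⟩ | ⟨c, hc, hyc⟩
    · exfalso
      apply hS0
      have hpow : ∀ m, br D ((b * tr D ⊤ a₁) ^ m) * S = S := fun m => by
        induction m with
        | zero => rw [pow_zero, br_one, one_mul]
        | succ m ih =>
          rw [pow_succ', br_mul hD.1 (hy.2.mono le_top) ((pow_mem hy m).2.mono le_top),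
            mul_assoc, ih, hbr']
      have := hpow n
      rw [hn, map_zero, zero_mul] at this
      exact this.symm
    · have hbrc : br D b * S * br D c = br D b := by
        have := congrArg (br D) hyc
        rw [br_mul hD.1 (hy.2.mono le_top) (hc.2.mono le_top),
          br_mul hD.1 (hb.fixBy.mono le_top) ((tr_fixBy ha₁mem.2).mono le_top), hbt] at this
        exact this
      rw [hbS] at hbrc
      calc S = br D b * S := hbS.symm
        _ = S * br D b := hS _ hbrbmem _ hSmem
        _ = S * (S * br D c) := by rw [hbrc]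
        _ = br D b := by rw [← mul_assoc, hSS, hbrc]
  by_contra hno
  simp only [not_exists, not_and] at hno
  apply he'.1.2.ne_zero
  have h1 : br D b * e' = e' := he'.2
  rw [← hfull, hSdef, Finset.sum_mul] at h1
  rw [← h1]
  refine Finset.sum_eq_zero fun u hu => ?_
  obtain ⟨x, hx, rfl⟩ := Finset.mem_image.mp hu
  exact (hs _ hu).mul_eq_zero_of_ne hS he'.1.2 (hno x (Finset.mem_filter.mp hx).2)

/-- A pair of `b` that is maximal. -/
def IsMaxPair (p : ℕ) (b : MonoidAlgebra k G) (x : Subgroup G × MonoidAlgebra k G) : Prop :=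
  IsPairOf p b x ∧ ∀ y, IsPairOf p b y → PLE p x y → y.1 = x.1

theorem isMaxPair_iff_card (hb : IsBlk k ⊤ b) {D : Subgroup G} (hD : IsDef p b D)
    {x : Subgroup G × MonoidAlgebra k G} :
    IsMaxPair p b x ↔ IsPairOf p b x ∧ Nat.card x.1 = Nat.card D := by
  constructor
  · intro h
    obtain ⟨R, g, hc, hg, hle⟩ := exists_ple_defect hb hD (Q := x.1) (f := x.2) h.1
    refine ⟨h.1, ?_⟩
    rw [← h.2 (R, g) hg hle]
    exact hc
  · intro h
    refine ⟨h.1, fun y hy hle => ?_⟩
    exact (Subgroup.eq_of_le_of_card_ge (PLE.le hle)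
      (by rw [h.2]; exact hD.card_le hy.1.1 le_top hy.br_ne_zero)).symm

/-- The subgroup of a maximal pair is a defect subgroup. -/
theorem IsMaxPair.isDef (hb : IsBlk k ⊤ b) {x : Subgroup G × MonoidAlgebra k G}
    (h : IsMaxPair p b x) : IsDef p b x.1 := by
  obtain ⟨D, hD⟩ := exists_isDefect (p := p) hb le_rfl le_normalizer_top
  exact hD.of_card_ge hb.fixBy h.1.1.1 le_top le_normalizer_top h.1.br_ne_zero
    ((isMaxPair_iff_card hb hD).mp h).2.ge

/-- Maximal pairs of a block are conjugate. -/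
theorem IsMaxPair.conj (hb : IsBlk k ⊤ b) {x y : Subgroup G × MonoidAlgebra k G}
    (hx : IsMaxPair p b x) (hy : IsMaxPair p b y) : ∃ z, cjPair z x = y := by
  obtain ⟨z, -, hz⟩ := (hy.isDef hb).conj (hx.isDef hb)
  have hxz := hx.1.cj hb z
  obtain ⟨Qy, ey⟩ := y
  simp only at hz
  have h1 : IsPairOf p b (Qy, cj k z x.2) := by
    have : cjPair z x = (Qy, cj k z x.2) := by rw [cjPair, hz]
    rwa [this] at hxz
  obtain ⟨w, hw, hwe⟩ := conj_of_isPairOf_defect hb (hy.isDef hb) h1 hy.1
  refine ⟨w * z, ?_⟩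
  rw [cjPair_mul]
  unfold cjPair
  simp only [hz, map_conj_eq_self hw, hwe]

/-- Every pair of a block is conjugate to one below a given maximal pair. -/
theorem exists_conj_ple_max (hb : IsBlk k ⊤ b) {x y : Subgroup G × MonoidAlgebra k G}
    (hx : IsMaxPair p b x) (hy : IsPairOf p b y) : ∃ z, PLE p (cjPair z y) x := by
  obtain ⟨R, g, hc, hg, hle⟩ := exists_ple_defect hb (hx.isDef hb) (Q := y.1) (f := y.2) hy
  have hmax : IsMaxPair p b (R, g) := (isMaxPair_iff_card hb (hx.isDef hb)).mpr ⟨hg, hc⟩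
  obtain ⟨z, hz⟩ := hmax.conj hb hx
  exact ⟨z, hz ▸ hle.cj z⟩

/-- Maximal pairs exist, on every defect subgroup. -/
theorem exists_isMaxPair (hb : IsBlk k ⊤ b) {D : Subgroup G} (hD : IsDef p b D) :
    ∃ e, IsMaxPair p b (D, e) := by
  obtain ⟨e, he⟩ := exists_isPairOf hb hD.1 hD.2.2.2
  exact ⟨e, (isMaxPair_iff_card hb hD).mpr ⟨he, rfl⟩⟩

end blocks

end CfsgLib.BrauerPairs
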