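import Cfsg.Agent.BrauerPairs.Transport
import Cfsg.Agent.BrauerPairs.Pairs

/-!
# Brauer pairs of `Def_BrauerPairs` as Brauer pairs in the residue group algebra
-/

namespace CfsgLib.BrauerPairs

open Cfsg CfsgLib.Block CfsgLib.Block.Chr

universe u

variable {G : Type u} [Group G] [Fintype G] {M : Ideal AlgInt} [M.IsPrime] {p : ℕ}
  [hp : Fact p.Prime]

local notation "C[" Q "]" => Subgroup.centralizer (SetLike.coe Q)

/-- The pair in the residue group algebra attached to a pair of characters. -/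
noncomputable def toPair (M : Ideal AlgInt) [M.IsPrime] (Q : Subgroup G)
    (e : Set (IrrCharacter C[Q])) : Subgroup G × MonoidAlgebra (Residue M) G :=
  (Q, idemIn M C[Q] e)

omit hp in
theorem isPair_toPair (hM : IsPModular p M) {Q : Subgroup G} {e : Set (IrrCharacter C[Q])}
    (h : IsBrauerPair p M Q e) : IsPair p (toPair M Q e) := ⟨h.1, isBlk_idemIn hM h.2⟩

omit hp in
theorem exists_toPair_eq (hM : IsPModular p M) {Q : Subgroup G}
    {f : MonoidAlgebra (Residue M) G} (h : IsPair p (Q, f)) :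
    ∃ e, IsBrauerPair p M Q e ∧ toPair M Q e = (Q, f) := by
  obtain ⟨e, he, hf⟩ := exists_idemIn_eq hM h.2
  exact ⟨e, ⟨h.1, he⟩, by rw [toPair, hf]⟩

omit [Fintype G] hp [M.IsPrime] in
theorem centralizer_conj_mem (P : Subgroup G) {c x : G} (hc : c ∈ C[P]) (hx : x ∈ C[P]) :
    c * x * c⁻¹ ∈ C[P] := mul_mem (mul_mem hc hx) (inv_mem hc)

omit hp in
theorem subgroupBlockCoeff_classFun {Q P : Subgroup G} (hQP : Q ≤ P)
    (f : Set (IrrCharacter C[Q])) {c x : G} (hc : c ∈ C[P]) (hx : x ∈ C[P]) :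
    subgroupBlockCoeff C[Q] f (c * x * c⁻¹) = subgroupBlockCoeff C[Q] f x := by
  haveI := Fintype.ofFinite C[Q]
  have hle : C[P] ≤ C[Q] := Subgroup.centralizer_le (SetLike.coe_subset_coe.mpr hQP)
  have e1 := subgroupBlockCoeff_coe f ((⟨c, hle hc⟩ : C[Q]) * ⟨x, hle hx⟩ * (⟨c, hle hc⟩ : C[Q])⁻¹)
  have e2 := subgroupBlockCoeff_coe f (⟨x, hle hx⟩ : C[Q])
  simp only [Subgroup.coe_mul, Subgroup.coe_inv] at e1
  rw [e1, e2, isClassFunction_blockCoeff f]

omit hp in
theorem idemIn_eq_redFun (Q : Subgroup G) (f : Set (IrrCharacter C[Q])) :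
    idemIn M C[Q] f = redFun M (subgroupBlockCoeff C[Q] f) :=
  coeff_ext fun g => by rw [coeff_idemIn, coeff_redFun]

theorem nstep_iff (hM : IsPModular p M) {Q P : Subgroup G} {f : Set (IrrCharacter C[Q])}
    {e : Set (IrrCharacter C[P])} :
    IsNormalSubpair p M Q f P e ↔ IsBrauerPair p M Q f ∧ IsBrauerPair p M P e ∧
      NStep p (toPair M Q f) (toPair M P e) := by
  haveI := charP_residue hM
  constructor
  · rintro ⟨h1, h2, hQP, hPN, hst, hom⟩
    have hfix : FixBy P (idemIn M C[Q] f) := fun x hx => ((stabilizesBlock_iff hM h1.2).mp (hst x hx)).2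
    refine ⟨h1, h2, isPair_toPair hM h1, isPair_toPair hM h2, hQP, hPN, hfix, ?_⟩
    show br P (idemIn M C[Q] f) * idemIn M C[P] e = idemIn M C[P] e
    have hidem := br_idem h2.1 (isBlk_idemIn hM h1.2).idem hfix
    rw [idemIn_eq_redFun] at hidem ⊢
    exact (br_mul_idemIn_eq_iff hM P (memLocalRing_subgroupBlockCoeff h1.2)
      (fun c hc x hx => subgroupBlockCoeff_classFun hQP f hc hx) h2.2 hidem).mpr hom
  · rintro ⟨h1, h2, -, -, hQP, hPN, hfix, hbr⟩
    refine ⟨h1, h2, hQP, hPN, fun x hx => (stabilizesBlock_iff hM h1.2).mpr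
      ⟨(hPN.trans map_normalizer_centralizer) hx, hfix x hx⟩, ?_⟩
    have hidem := br_idem h2.1 (isBlk_idemIn hM h1.2).idem hfix
    change br P (idemIn M C[Q] f) * idemIn M C[P] e = idemIn M C[P] e at hbr
    rw [idemIn_eq_redFun] at hidem hbr
    exact (br_mul_idemIn_eq_iff hM P (memLocalRing_subgroupBlockCoeff h1.2)
      (fun c hc x hx => subgroupBlockCoeff_classFun hQP f hc hx) h2.2 hidem).mp hbr

theorem subpairLE_iff (hM : IsPModular p M) {Q P : Subgroup G} {f : Set (IrrCharacter C[Q])}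
    {e : Set (IrrCharacter C[P])} (he : IsBrauerPair p M P e) :
    SubpairLE p M Q f P e ↔ IsBrauerPair p M Q f ∧ PLE p (toPair M Q f) (toPair M P e) := by
  constructor
  · intro h
    have key : ∀ a b : BrauerPairIdx G, Relation.ReflTransGen (NormalSubpairRel p M) a b →
        IsBrauerPair p M b.1 b.2 →
        IsBrauerPair p M a.1 a.2 ∧ PLE p (toPair M a.1 a.2) (toPair M b.1 b.2) := by
      intro a b hab hb
      induction hab using Relation.ReflTransGen.head_induction_on with
      | refl => exact ⟨hb, Relation.ReflTransGen.refl⟩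
      | head hac _ ih =>
        obtain ⟨h1, -, h3⟩ := (nstep_iff hM).mp hac
        exact ⟨h1, Relation.ReflTransGen.head h3 ih.2⟩
    exact key _ _ h he
  · rintro ⟨hf, h⟩
    have key : ∀ x : Subgroup G × MonoidAlgebra (Residue M) G, PLE p x (toPair M P e) →
        ∀ f : Set (IrrCharacter C[x.1]), IsBrauerPair p M x.1 f → idemIn M C[x.1] f = x.2 →
          Relation.ReflTransGen (NormalSubpairRel p M) ⟨x.1, f⟩ ⟨P, e⟩ := by
      intro x hx
      induction hx using Relation.ReflTransGen.head_induction_on with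
      | refl =>
        intro f hf hfe
        rw [idemIn_injective hf.2 he.2 hfe]
        exact Relation.ReflTransGen.refl
      | @head a c hac _ ih =>
        intro f hf hfe
        obtain ⟨g, hg, hgc⟩ := exists_toPair_eq hM (Q := c.1) (f := c.2) hac.2.1
        have hgc' : idemIn M C[c.1] g = c.2 := congrArg Prod.snd hgc
        refine Relation.ReflTransGen.head (b := ⟨c.1, g⟩) ?_ (ih g hg hgc')
        refine (nstep_iff hM).mpr ⟨hf, hg, ?_⟩
        have ha : toPair M a.1 f = a := Prod.ext rfl hfe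
        rw [ha, hgc]
        exact hac
    exact key _ h f hf rfl

omit hp in
theorem cjPair_toPair (Q : Subgroup G) (x : G) (f : Set (IrrCharacter C[Q])) :
    cjPair x (toPair M Q f) = toPair M (Q.map (MulAut.conj x).toMonoidHom) (conjBlock Q x f) :=
  Prod.ext rfl (idemIn_conjBlock Q x f).symm

omit hp in
theorem isBrauerPair_conjBlock {Q : Subgroup G} {f : Set (IrrCharacter C[Q])}
    (h : IsBrauerPair p M Q f) (x : G) :
    IsBrauerPair p M (Q.map (MulAut.conj x).toMonoidHom) (conjBlock Q x f) :=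
  ⟨h.1.map _, isPBlock_conjBlock Q x h.2⟩

theorem isBlk_idem_G (hM : IsPModular p M) {B : Set (IrrCharacter G)} (hB : IsPBlock M B) :
    IsBlk (Residue M) (⊤ : Subgroup G) (idem M B) := isBlk_idem hM hB

theorem isBrauerPairOf_iff (hM : IsPModular p M) {B : Set (IrrCharacter G)} {Q : Subgroup G}
    {e : Set (IrrCharacter C[Q])} :
    IsBrauerPairOf p M B Q e ↔
      IsBrauerPair p M Q e ∧ IsPBlock M B ∧ IsPairOf p (idem M B) (toPair M Q e) := by
  haveI := charP_residue hM
  constructor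
  · rintro ⟨h1, hB, hom⟩
    refine ⟨h1, hB, isPair_toPair hM h1, ?_⟩
    exact (br_mul_idemIn_eq_iff hM Q (fun g => blockCoeff_mem hB g)
      (fun c _ x _ => isClassFunction_blockCoeff B x c) h1.2
      (br_idem h1.1 (idem_idem hB) ((isBlk_idem hM hB).fixBy.mono le_top))).mpr hom
  · rintro ⟨h1, hB, -, hbr⟩
    exact ⟨h1, hB, (br_mul_idemIn_eq_iff hM Q (fun g => blockCoeff_mem hB g)
      (fun c _ x _ => isClassFunction_blockCoeff B x c) h1.2
      (br_idem h1.1 (idem_idem hB) ((isBlk_idem hM hB).fixBy.mono le_top))).mp hbr⟩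

theorem isMaximalBrauerPair_iff (hM : IsPModular p M) {B : Set (IrrCharacter G)} {P : Subgroup G}
    {e : Set (IrrCharacter C[P])} :
    IsMaximalBrauerPair p M B P e ↔
      IsBrauerPair p M P e ∧ IsPBlock M B ∧ IsMaxPair p (idem M B) (toPair M P e) := by
  haveI := charP_residue hM
  constructor
  · rintro ⟨h, hmax⟩
    obtain ⟨h1, hB, h2⟩ := (isBrauerPairOf_iff hM).mp h
    refine ⟨h1, hB, h2, fun y hy hle => ?_⟩
    obtain ⟨g, hg, hgy⟩ := exists_toPair_eq hM (Q := y.1) (f := y.2) hy.1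
    exact hmax y.1 g ((isBrauerPairOf_iff hM).mpr ⟨hg, hB, hgy ▸ hy⟩)
      ((subpairLE_iff hM hg).mpr ⟨h1, hgy ▸ hle⟩)
  · rintro ⟨h1, hB, h2, hmax⟩
    refine ⟨(isBrauerPairOf_iff hM).mpr ⟨h1, hB, h2⟩, fun R g hg hle => ?_⟩
    obtain ⟨hg1, -, hg2⟩ := (isBrauerPairOf_iff hM).mp hg
    exact hmax _ hg2 ((subpairLE_iff hM hg1).mp hle).2

omit hp in
theorem csum_top_eq_redFun (g : G) :
    csum (Residue M) (⊤ : Subgroup G) g = redFun M (classInd g) := by
  classical
  refine coeff_ext fun x => ?_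
  rw [coeff_redFun, csum, coeff_ofFun]
  by_cases h : IsConj g x
  · obtain ⟨t, ht⟩ := isConj_iff.mp h
    rw [classInd_of_isConj h, if_pos ⟨t, Subgroup.mem_top t, ht⟩, red_one]
  · rw [classInd_of_not_isConj h, if_neg, red_zero]
    rintro ⟨t, -, ht⟩
    exact h (isConj_iff.mpr ⟨t, ht⟩)

theorem isDef_of_isDefectGroup (hM : IsPModular p M) {B : Set (IrrCharacter G)} (hB : IsPBlock M B)
    {D : Subgroup G} (hD : IsDefectGroup p M B D) : IsDef p (idem M B) D := by
  classical
  haveI := charP_residue hM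
  obtain ⟨g, ⟨hg1, hg2, hg3⟩, P, rfl⟩ := hD
  obtain ⟨χ, hχ⟩ := exists_mem_block hB
  have hb := isBlk_idem (G := G) hM hB
  have hK : csum (Residue M) (⊤ : Subgroup G) g ∈ alg (Residue M) ⊤ ⊤ :=
    ⟨suppIn_top _, fixBy_csum g⟩
  have hm := mul_mem hb.mem hK
  have hne : lam χ (idem M B * csum (Residue M) (⊤ : Subgroup G) g) ≠ 0 := by
    rw [lam_mul χ hb.mem hK, lam_idem hB χ, if_pos hχ, one_mul, csum_top_eq_redFun,
      lam_redFun χ (isIntClass_classInd g), omega_classInd, Ne,
      red_eq_zero_iff (centralChar_mem χ g)]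
    exact hg3 χ hχ
  rcases hb.nilpotent_or_inv (alg_comm le_rfl) hm (by rw [← mul_assoc, hb.idem]) with
    ⟨n, hn⟩ | ⟨c, hc, hinv⟩
  · exfalso
    have hpow : ∀ n : ℕ, lam χ ((idem M B * csum (Residue M) (⊤ : Subgroup G) g) ^ (n + 1)) =
        lam χ (idem M B * csum (Residue M) (⊤ : Subgroup G) g) ^ (n + 1) := by
      intro n
      induction n with
      | zero => simp
      | succ n ih => rw [pow_succ _ (n + 1), lam_mul χ (pow_mem hm _) hm, ih, ← pow_succ]
    have h0 := hpow n
    rw [pow_succ, hn, zero_mul, lam_zero] at h0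
    exact pow_ne_zero _ hne h0.symm
  · refine isDefect_of_csum hb le_rfl le_normalizer_top ?_ hc hinv (P.isPGroup'.map _)
      (le_inf le_top (Subgroup.map_subtype_le _)) ?_
    · rw [idem, coeff_redFun, Ne, red_eq_zero_iff hg1]; exact hg2
    · rw [top_inf_eq, Subgroup.relIndex, Subgroup.subgroupOf,
        Subgroup.comap_map_eq_self_of_injective (Subgroup.subtype_injective _)]
      exact P.not_dvd_index

theorem isDefectGroup_of_isDef (hM : IsPModular p M) {B : Set (IrrCharacter G)}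
    (hB : IsPBlock M B) {D : Subgroup G} (hD : IsDef p (idem M B) D) :
    IsDefectGroup p M B D := by
  classical
  haveI := charP_residue hM
  obtain ⟨g, hg⟩ := exists_isDefectClass (G := G) hB
  let P₀ : Sylow p (Subgroup.centralizer ({g} : Set G)) := default
  have h0 : IsDefectGroup p M B ((P₀ : Subgroup (Subgroup.centralizer ({g} : Set G))).map
      (Subgroup.subtype _)) := ⟨g, hg, P₀, rfl⟩
  obtain ⟨z, -, hz⟩ := hD.conj (isDef_of_isDefectGroup hM hB h0)
  have hcl : ∀ t : G, IsDefectClass M B (t * g * t⁻¹) := by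
    intro t
    obtain ⟨h1, h2, h3⟩ := hg
    rw [IsDefectClass, isClassFunction_blockCoeff B g t]
    refine ⟨h1, h2, fun χ hχ => ?_⟩
    have : centralChar (χ : G → ℂ) (t * g * t⁻¹) = centralChar (χ : G → ℂ) g := by
      rw [← omega_classInd χ, ← omega_classInd χ g]
      congr 1
      funext x
      have hiff : IsConj (t * g * t⁻¹) x ↔ IsConj g x :=
        ⟨fun h => (isConj_iff.mpr ⟨t, rfl⟩).trans h, fun h => (isConj_iff.mpr ⟨t, rfl⟩).symm.trans h⟩
      by_cases h : IsConj g x
      · rw [classInd_of_isConj h, classInd_of_isConj (hiff.mpr h)]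
      · rw [classInd_of_not_isConj h, classInd_of_not_isConj (mt hiff.mp h)]
    rw [this]; exact h3 χ hχ
  refine ⟨z * g * z⁻¹, hcl z, ?_⟩
  have hmem : ∀ h, h ∈ Subgroup.centralizer ({g} : Set G) ↔
      z * h * z⁻¹ ∈ Subgroup.centralizer ({z * g * z⁻¹} : Set G) := by
    intro h
    simp only [Subgroup.mem_centralizer_singleton_iff]
    constructor
    · intro e
      calc z * h * z⁻¹ * (z * g * z⁻¹) = z * (h * g) * z⁻¹ := by group
        _ = z * g * z⁻¹ * (z * h * z⁻¹) := by rw [e]; group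
    · intro e
      calc h * g = z⁻¹ * (z * h * z⁻¹ * (z * g * z⁻¹)) * z := by group
        _ = g * h := by rw [e]; group
  have hsur : Function.Surjective (conjEquiv hmem).toMonoidHom := (conjEquiv hmem).surjective
  refine ⟨P₀.mapSurjective hsur, ?_⟩
  rw [← hz, Sylow.coe_mapSurjective, Subgroup.map_map, Subgroup.map_map]
  congr 1

theorem isDefectGroup_iff (hM : IsPModular p M) {B : Set (IrrCharacter G)}
    (hB : IsPBlock M B) {D : Subgroup G} :
    IsDefectGroup p M B D ↔ IsDef p (idem M B) D :=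
  ⟨isDef_of_isDefectGroup hM hB, isDefectGroup_of_isDef hM hB⟩

end CfsgLib.BrauerPairs
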