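import Cfsg.Agent.BrauerPairs.SubgroupIdem

/-!
# Transport of blocks along group isomorphisms, conjugation of blocks of subgroups
-/

namespace CfsgLib.BrauerPairs

open Cfsg CfsgLib.Block CfsgLib.Block.Chr

universe u v

section iso

variable {H : Type u} [Group H] {H' : Type v} [Group H'] (e : H ≃* H')

/-- Transport of irreducible characters along an isomorphism. -/
noncomputable def mapChar (χ : IrrCharacter H) : IrrCharacter H' :=
  ⟨fun x => (χ : H → ℂ) (e.symm x),
    CfsgLib.Char.IsIrrCharacter.comp_surjective χ.2 e.symm.toMonoidHom e.symm.surjective⟩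

@[simp] theorem mapChar_apply (χ : IrrCharacter H) (x : H') :
    (mapChar e χ : H' → ℂ) x = (χ : H → ℂ) (e.symm x) := rfl

theorem mapChar_symm (χ : IrrCharacter H') : mapChar e (mapChar e.symm χ) = χ :=
  Subtype.ext (funext fun x => by simp)

theorem mapChar_injective : Function.Injective (mapChar e) := fun χ ψ h => Subtype.ext (funext fun x => by
  have := congrArg (fun η : IrrCharacter H' => (η : H' → ℂ) (e x)) h
  simpa using this)

theorem centralChar_map (χ : IrrCharacter H) (x : H) :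
    centralChar (mapChar e χ : H' → ℂ) (e x) = centralChar (χ : H → ℂ) x := by
  have hc : Subgroup.centralizer ({e x} : Set H') =
      (Subgroup.centralizer ({x} : Set H)).map (e : H →* H') := by
    ext y
    simp only [Subgroup.mem_map, Subgroup.mem_centralizer_singleton_iff, MonoidHom.coe_coe]
    constructor
    · intro h
      refine ⟨e.symm y, e.injective ?_, e.apply_symm_apply y⟩
      simpa using h
    · rintro ⟨z, hz, rfl⟩
      rw [← map_mul, ← map_mul, hz]
  simp [centralChar, hc, Subgroup.index_map_equiv]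

/-- Transport of sets of characters. -/
noncomputable def mapSet (B : Set (IrrCharacter H)) : Set (IrrCharacter H') := mapChar e '' B

theorem blockOf_map {M : Ideal AlgInt} (χ : IrrCharacter H) :
    blockOf M (mapChar e χ : H' → ℂ) = mapSet e (blockOf M (χ : H → ℂ)) := by
  ext ψ
  constructor
  · intro h
    refine ⟨mapChar e.symm ψ, fun x => ?_, mapChar_symm e ψ⟩
    have h2 := h (e x)
    rw [centralChar_map, ← mapChar_symm e ψ, centralChar_map] at h2
    exact h2
  · rintro ⟨φ, hφ, rfl⟩ x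
    obtain ⟨x, rfl⟩ := e.surjective x
    rw [centralChar_map, centralChar_map]
    exact hφ x

theorem isPBlock_mapSet {M : Ideal AlgInt} {B : Set (IrrCharacter H)} (hB : IsPBlock M B) :
    IsPBlock M (mapSet e B) := by
  obtain ⟨χ, rfl⟩ := hB
  exact ⟨mapChar e χ, (blockOf_map e χ).symm⟩

theorem blockCoeff_map (B : Set (IrrCharacter H)) (x : H) :
    blockCoeff (mapSet e B) (e x) = blockCoeff B x := by
  rw [blockCoeff, blockCoeff, mapSet, finsum_mem_image (mapChar_injective e).injOn,
    ← Nat.card_congr e.toEquiv]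
  simp

end iso

section conj

variable {G : Type u} [Group G] [Fintype G] {M : Ideal AlgInt} [M.IsPrime]
  {H H' : Subgroup G} {x : G}

/-- Conjugation by `x` as an isomorphism between subgroups. -/
def conjEquiv (hH : ∀ g, g ∈ H ↔ x * g * x⁻¹ ∈ H') : H ≃* H' where
  toFun h := ⟨x * h * x⁻¹, (hH h).mp h.2⟩
  invFun h := ⟨x⁻¹ * h * x, (hH _).mpr (by simp [mul_assoc])⟩
  left_inv h := by ext; simp [mul_assoc]
  right_inv h := by ext; simp [mul_assoc]
  map_mul' a b := by ext; simp [mul_assoc]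

omit [Fintype G] in
theorem coe_conjEquiv (hH : ∀ g, g ∈ H ↔ x * g * x⁻¹ ∈ H') (h : H) :
    ((conjEquiv hH h : H') : G) = x * h * x⁻¹ := rfl

omit [Fintype G] in
theorem coe_conjEquiv_symm (hH : ∀ g, g ∈ H ↔ x * g * x⁻¹ ∈ H') (h : H') :
    (((conjEquiv hH).symm h : H) : G) = x⁻¹ * h * x := rfl

theorem subgroupBlockCoeff_conj (hH : ∀ g, g ∈ H ↔ x * g * x⁻¹ ∈ H')
    (f : Set (IrrCharacter H)) (g : G) :
    subgroupBlockCoeff H' (mapSet (conjEquiv hH) f) g = subgroupBlockCoeff H f (x⁻¹ * g * x) := by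
  by_cases hg : x⁻¹ * g * x ∈ H
  · have hg' : g ∈ H' := by
      have := (hH _).mp hg
      simpa [mul_assoc] using this
    obtain ⟨h, hh⟩ : ∃ h : H, (h : G) = x⁻¹ * g * x := ⟨⟨_, hg⟩, rfl⟩
    rw [← hh, subgroupBlockCoeff_coe,
      show g = ((conjEquiv hH h : H') : G) by simp [coe_conjEquiv, hh, mul_assoc],
      subgroupBlockCoeff_coe, blockCoeff_map]
  · rw [subgroupBlockCoeff_not_mem f hg, subgroupBlockCoeff_not_mem]
    intro hg'
    exact hg ((hH _).mpr (by simpa [mul_assoc] using hg'))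

theorem idemIn_conj (hH : ∀ g, g ∈ H ↔ x * g * x⁻¹ ∈ H') (f : Set (IrrCharacter H)) :
    idemIn M H' (mapSet (conjEquiv hH) f) = cj (Residue M) x (idemIn M H f) :=
  coeff_ext fun g => by rw [coeff_idemIn, coeff_cj, coeff_idemIn, subgroupBlockCoeff_conj hH]

omit [Fintype G] in
theorem mem_normalizer_iff_conjEquiv : x ∈ Subgroup.normalizer (H : Set G) ↔
    ∀ g, g ∈ H ↔ x * g * x⁻¹ ∈ H := Subgroup.mem_normalizer_iff

omit [Fintype G] in
theorem isConjCharOf_iff (hH : ∀ g, g ∈ H ↔ x * g * x⁻¹ ∈ H) (χ χ' : IrrCharacter H) :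
    IsConjCharOf H x (χ : H → ℂ) (χ' : H → ℂ) ↔ χ' = mapChar (conjEquiv hH) χ := by
  constructor
  · intro h
    refine Subtype.ext (funext fun k => ?_)
    rw [mapChar_apply]
    exact h _ k (by simp [coe_conjEquiv_symm, mul_assoc])
  · rintro rfl k k' hk
    rw [mapChar_apply]
    exact congrArg _ (Subtype.ext (by simp [coe_conjEquiv_symm, hk, mul_assoc]))

theorem stabilizesBlock_iff {p : ℕ} (hM : IsPModular p M) {f : Set (IrrCharacter H)}
    (hf : IsPBlock M f) : StabilizesBlock H f x ↔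
      x ∈ Subgroup.normalizer (H : Set G) ∧ cj (Residue M) x (idemIn M H f) = idemIn M H f := by
  haveI := Fintype.ofFinite H
  constructor
  · rintro ⟨hx, h⟩
    refine ⟨hx, ?_⟩
    have hH := mem_normalizer_iff_conjEquiv.mp hx
    obtain ⟨χ, hχ⟩ := exists_mem_block hf
    obtain ⟨χ', hχ', hc⟩ := h χ hχ
    rw [isConjCharOf_iff hH] at hc
    subst hc
    rw [← idemIn_conj hH, block_eq_of_common (isPBlock_mapSet _ hf) hf ⟨χ, hχ, rfl⟩ hχ']
  · rintro ⟨hx, h⟩
    refine ⟨hx, fun χ hχ => ?_⟩
    have hH := mem_normalizer_iff_conjEquiv.mp hx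
    rw [← idemIn_conj hH] at h
    have := idemIn_injective (isPBlock_mapSet _ hf) hf h
    exact ⟨mapChar (conjEquiv hH) χ, this ▸ ⟨χ, hχ, rfl⟩, (isConjCharOf_iff hH _ _).mpr rfl⟩

omit [Fintype G] in
theorem mem_centralizer_map_conj (Q : Subgroup G) (x g : G) :
    g ∈ Subgroup.centralizer (Q : Set G) ↔ x * g * x⁻¹ ∈
      Subgroup.centralizer ((Q.map (MulAut.conj x).toMonoidHom : Subgroup G) : Set G) := by
  simp only [Subgroup.mem_centralizer_iff, SetLike.mem_coe, Subgroup.mem_map,
    MulEquiv.coe_toMonoidHom, MulAut.conj_apply, forall_exists_index, and_imp]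
  constructor
  · intro h _ y hy he
    subst he
    simpa [mul_assoc] using congrArg (fun z => x * z * x⁻¹) (h y hy)
  · intro h y hy
    simpa [mul_assoc] using congrArg (fun z => x⁻¹ * z * x) (h _ y hy rfl)

omit [Fintype G] in
theorem conjBlock_eq_mapSet (Q : Subgroup G) (x : G)
    (f : Set (IrrCharacter (Subgroup.centralizer (Q : Set G)))) :
    conjBlock Q x f = mapSet (conjEquiv (mem_centralizer_map_conj Q x)) f := by
  ext ξ
  constructor
  · rintro ⟨η, hη, h⟩
    refine ⟨η, hη, Subtype.ext (funext fun c' => ?_)⟩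
    rw [mapChar_apply]
    exact (h _ c' (show (c' : G) = x * (x⁻¹ * (c' : G) * x) * x⁻¹ by group)).symm
  · rintro ⟨η, hη, rfl⟩
    refine ⟨η, hη, fun c c' hc => ?_⟩
    rw [mapChar_apply]
    exact congrArg _ (Subtype.ext (show x⁻¹ * (c' : G) * x = c by rw [hc]; group))

theorem idemIn_conjBlock (Q : Subgroup G) (x : G)
    (f : Set (IrrCharacter (Subgroup.centralizer (Q : Set G)))) :
    idemIn M _ (conjBlock Q x f) = cj (Residue M) x (idemIn M _ f) := by
  rw [conjBlock_eq_mapSet, idemIn_conj]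

omit [Fintype G] [M.IsPrime] in
theorem isPBlock_conjBlock (Q : Subgroup G) (x : G)
    {f : Set (IrrCharacter (Subgroup.centralizer (Q : Set G)))} (hf : IsPBlock M f) :
    IsPBlock M (conjBlock Q x f) := by
  rw [conjBlock_eq_mapSet]; exact isPBlock_mapSet _ hf

end conj

end CfsgLib.BrauerPairs
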