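import Cfsg.Agent.BrauerPairs.BlockSystem
import Cfsg.Agent.BrauerPairs.SubgroupPairs
import Cfsg.Agent.Fusion.Saturation
import Mathlib.RingTheory.Nilpotent.Basic

/-!
# Saturation of the fusion system of a block

The stabilizer modulo the centralizer has Sylow subgroup the image of a defect subgroup, and fully
centralized subgroups are receptive.
-/

namespace CfsgLib.BrauerPairs

open Cfsg Cfsg.FusionSystem

variable {p : ℕ} [hp : Fact p.Prime] {k : Type*} [Field k] [hk : CharP k p]
  {G : Type*} [Group G] [Fintype G]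

local notation "C[" Q "]" => Subgroup.centralizer (SetLike.coe Q)
local notation "N[" Q "]" => Subgroup.normalizer (SetLike.coe Q)

omit hp hk in
/-- Transitivity of relative traces. -/
theorem tr_trans {D U T : Subgroup G} (hDU : D ≤ U) (hUT : U ≤ T) {a : MonoidAlgebra k G}
    (ha : FixBy D a) : tr U T (tr D U a) = tr D T a := by
  classical
  haveI : Fintype (T ⧸ U.subgroupOf T) := Fintype.ofFinite _
  haveI : Fintype (U ⧸ D.subgroupOf U) := Fintype.ofFinite _
  haveI : Fintype (T ⧸ D.subgroupOf T) := Fintype.ofFinite _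
  let φ : (T ⧸ U.subgroupOf T) × (U ⧸ D.subgroupOf U) → T ⧸ D.subgroupOf T :=
    fun x => ((x.1.out * Subgroup.inclusion hUT x.2.out : T) : T ⧸ D.subgroupOf T)
  have hφ : Function.Injective φ := by
    rintro ⟨q, r⟩ ⟨q', r'⟩ h
    have h1 := QuotientGroup.eq.mp h
    rw [Subgroup.mem_subgroupOf] at h1
    simp only [mul_inv_rev, Subgroup.coe_mul, Subgroup.coe_inv, Subgroup.coe_inclusion] at h1
    have hq : q = q' := by
      rw [← QuotientGroup.out_eq' q, ← QuotientGroup.out_eq' q']
      refine QuotientGroup.eq.mpr ?_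
      rw [Subgroup.mem_subgroupOf]
      have := U.mul_mem (U.mul_mem (r.out).2 (hDU h1)) (U.inv_mem (r'.out).2)
      simpa [mul_assoc] using this
    subst hq
    refine Prod.ext rfl ?_
    rw [← QuotientGroup.out_eq' r, ← QuotientGroup.out_eq' r']
    refine QuotientGroup.eq.mpr ?_
    rw [Subgroup.mem_subgroupOf]
    simpa [mul_assoc] using h1
  have hbij : Function.Bijective φ := by
    refine (Fintype.bijective_iff_injective_and_card φ).mpr ⟨hφ, ?_⟩
    rw [Fintype.card_prod, ← Nat.card_eq_fintype_card, ← Nat.card_eq_fintype_card,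
      ← Nat.card_eq_fintype_card]
    exact (mul_comm _ _).trans (Subgroup.relIndex_mul_relIndex D U T hDU hUT)
  rw [tr_apply (D := D) (T := T), ← Equiv.sum_comp (Equiv.ofBijective φ hbij),
    Fintype.sum_prod_type, tr_apply]
  refine Finset.sum_congr rfl fun q _ => ?_
  rw [tr_apply, map_sum]
  refine Finset.sum_congr rfl fun r _ => ?_
  rw [← cj_mul]
  exact cj_rep ha (t := q.out * Subgroup.inclusion hUT r.out) rfl

/-- The block algebra of `f` is split local: every central element is a scalar up to a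
nilpotent. -/
def IsSplit (H : Subgroup G) (f : MonoidAlgebra k G) : Prop :=
  ∀ a ∈ alg k H H, ∃ c : k, IsNilpotent (f * a - c • f)

/-- The index of `D H` in `T` is prime to `p` for a defect subgroup `D` of a split block of `H`. -/
theorem not_dvd_relIndex {H T D : Subgroup G} {f : MonoidAlgebra k G} (hf : IsBlk k H f)
    (hfix : FixBy T f) (hHT : H ≤ T) (hT : T ≤ N[H]) (hsplit : IsSplit H f)
    (hD : IsDefect p H T f D) : ¬ p ∣ (D ⊔ H).relIndex T := by
  classical
  intro hdvd
  obtain ⟨-, hDT, ⟨a, ha, hfa⟩, -⟩ := hD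
  have hUT : D ⊔ H ≤ T := sup_le hDT hHT
  set U := D ⊔ H
  have hb : tr D U a ∈ alg k H U :=
    ⟨tr_suppIn ha.1 (hUT.trans hT), tr_fixBy ha.2⟩
  have hfU : f ∈ alg k H U := ⟨hf.suppIn, hfix.mono hUT⟩
  have hfb : f * tr D U a ∈ alg k H H :=
    alg_mono le_rfl le_sup_right (mul_mem hfU hb)
  obtain ⟨c, hc⟩ := hsplit _ (alg_mono le_rfl le_sup_right hb)
  set ν := f * tr D U a - c • f with hν
  have hνmem : ν ∈ alg k H H := sub_mem hfb ((alg k H H).smul_mem hf.mem c)
  haveI : Fintype (T ⧸ U.subgroupOf T) := Fintype.ofFinite _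
  have hn : IsNilpotent (tr U T ν) := by
    rw [tr_apply]
    have hmem : ∀ q : T ⧸ U.subgroupOf T, cj k ((q.out : T) : G) ν ∈ alg k H H := fun q => by
      have := cj_mem_alg hνmem ((q.out : T) : G)
      rwa [map_conj_eq_self (hT (q.out).2)] at this
    exact Commute.isNilpotent_sum (fun q _ => hc.map (cj k ((q.out : T) : G)))
      fun q r _ _ => alg_comm le_rfl _ (hmem q) _ (hmem r)
  have htrf : tr U T f = (U.relIndex T : k) • f := by
    rw [tr_apply, Finset.sum_congr rfl fun q _ => hfix _ (q.out).2, Finset.sum_const,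
      Finset.card_univ, ← Nat.card_eq_fintype_card, ← Nat.cast_smul_eq_nsmul k]
    rfl
  have h0 : (U.relIndex T : k) = 0 := (CharP.cast_eq_zero_iff k p _).mpr hdvd
  have hf' : f = tr U T ν := by
    conv_lhs => rw [← hf.idem]; arg 2; rw [hfa, ← tr_trans le_sup_left hUT ha.2]
    rw [← mul_tr hfix, show f * tr D U a = c • f + ν by rw [hν, add_sub_cancel], map_add,
      map_smul, htrf, h0, zero_smul, smul_zero, zero_add]
  obtain ⟨n, hn⟩ := hf' ▸ hn
  have hpow : ∀ m, f ^ (m + 1) = f := fun m => by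
    induction m with
    | zero => simp
    | succ m ih => rw [pow_succ, ih, hf.idem]
  refine hf.ne_zero ?_
  rcases n with _ | n
  · rw [pow_zero] at hn
    rw [← mul_one f, hn, mul_zero]
  · rwa [hpow] at hn

/-- A normal step from a pair below, when the top normalizes. -/
theorem PLE.nstep_of_le_normalizer {Q U : Subgroup G} {f u : MonoidAlgebra k G}
    (hU : IsPair p (U, u)) (h : PLE p (Q, f) (U, u)) (hUN : U ≤ N[Q]) :
    NStep p (Q, f) (U, u) := by
  obtain ⟨f', hf', -⟩ := existsUnique_nstep (Q := Q) hU h.le hUN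
  rwa [ple_unique hU h (Relation.ReflTransGen.single hf')]

/-- Pairs between `(Q, f)` and a fixed one are conjugate under `C(Q)`, when the latter is
maximal for `f`. -/
theorem exists_centralizer_conj_ple {Q S U : Subgroup G} {f s u : MonoidAlgebra k G}
    (hQS : NStep p (Q, f) (S, s)) (hfc : IsDefMax p C[Q] f (S ⊓ C[Q])) (hU : IsPair p (U, u))
    (hUL : U ≤ S ⊔ C[Q]) (hle : PLE p (Q, f) (U, u)) :
    ∃ c ∈ C[Q], PLE p (cjPair c (U, u)) (S, s) := by
  classical
  have hf := hQS.1
  have hS : IsPair p (S, s) := hQS.2.1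
  have hSN : S ≤ N[Q] := hQS.2.2.2.1
  have hSstab : S ≤ stab Q f := fun t ht => ⟨hSN ht, hQS.2.2.2.2.1 t ht⟩
  have hSC : S ≤ N[C[Q]] := hSN.trans map_normalizer_centralizer
  set L : Subgroup G := S ⊔ C[Q] with hL
  haveI : Fintype L := Fintype.ofFinite L
  have hQL : Q ≤ L := hQS.2.2.1.trans le_sup_left
  have hCL : C[Q] ≤ L := le_sup_right
  have hLstab : L ≤ stab Q f := sup_le hSstab (centralizer_le_stab hf)
  have hLN : L ≤ N[Q] := hLstab.trans stab_le_normalizer
  have hfix : FixBy L f := fixBy_stab.mono hLstab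
  have hfL : IsBlk k L f := hf.2.of_stable hf.1 hQL hLN hCL hfix
  have hb := isBlk_restr (k := k) L hfL
  have hembf : emb L (restr L f) = f := emb_restr L hfL.suppIn
  -- pairs over `(Q, f)` inside `L`
  have hpair : ∀ {V : Subgroup G} {v : MonoidAlgebra k G}, IsPair p (V, v) → V ≤ L →
      PLE p (Q, f) (V, v) → IsPairOf p (restr L f) (V.subgroupOf L, restr L v) ∧
        embPair L (V.subgroupOf L, restr L v) = (V, v) := by
    intro V v hV hVL hQV
    have hmap : (V.subgroupOf L).map L.subtype = V := Subgroup.map_subgroupOf_eq_of_le hVL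
    have hCV : C[(V.subgroupOf L).map L.subtype] ≤ L := by
      rw [hmap]
      exact (Subgroup.centralizer_le (SetLike.coe_subset_coe.mpr hQV.le)).trans hCL
    have hv : emb L (restr L v) = v := emb_restr L (hV.2.suppIn.mono (by rwa [hmap] at hCV))
    have he : embPair L (V.subgroupOf L, restr L v) = (V, v) := Prod.ext hmap hv
    refine ⟨⟨(isPair_embPair_iff L hCV).mp (he.symm ▸ hV), emb_injective L ?_⟩, he⟩
    show emb L (br (V.subgroupOf L) (restr L f) * restr L v) = emb L (restr L v)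
    rw [map_mul, ← br_emb_eq, hembf, hmap, hv]
    exact (hQV.nstep_of_le_normalizer hV (hVL.trans hLN)).2.2.2.2.2
  obtain ⟨hSp, hSe⟩ := hpair hS le_sup_left (Relation.ReflTransGen.single hQS)
  obtain ⟨hUp, hUe⟩ := hpair hU hUL hle
  -- the pair on `S` is maximal
  obtain ⟨D, hD⟩ := exists_isDefect (p := p) (T := (⊤ : Subgroup L)) hb le_rfl le_normalizer_top
  have hcard : Nat.card (S.subgroupOf L) = Nat.card D := by
    refine le_antisymm (hD.card_le hSp.1.1 le_top hSp.br_ne_zero) ?_
    set C' := C[Q].subgroupOf L with hC'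
    haveI : C'.Normal :=
      Subgroup.normal_subgroupOf_iff_le_normalizer hCL |>.mpr (hLN.trans map_normalizer_centralizer)
    have hfac : ∀ A : Subgroup L,
        Nat.card A = Nat.card (C' ⊓ A : Subgroup L) * C'.relIndex A := by
      intro A
      rw [← Subgroup.inf_relIndex_right C' A, ← Subgroup.relIndex_bot_left,
        ← Subgroup.relIndex_bot_left,
        Subgroup.relIndex_mul_relIndex _ _ _ bot_le inf_le_right]
    have hidx : C'.relIndex D ≤ C'.relIndex (S.subgroupOf L) := by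
      have h1 : C'.relIndex D ≤ C'.relIndex ⊤ :=
        Subgroup.relIndex_le_of_le_right le_top (by
          rw [Subgroup.relIndex_top_right]; exact Subgroup.index_ne_zero_of_finite)
      have htop : (⊤ : Subgroup L) = S.subgroupOf L ⊔ C' :=
        (Subgroup.subgroupOf_self L).symm.trans (Subgroup.subgroupOf_sup le_sup_left hCL)
      rwa [htop, Subgroup.relIndex_sup_right] at h1
    have hinj : ∀ A : Subgroup L, Nat.card (C' ⊓ A : Subgroup L) =
        Nat.card (C[Q] ⊓ A.map L.subtype : Subgroup G) := fun A => by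
      rw [← Subgroup.card_map_of_injective (K := C' ⊓ A) L.subtype_injective,
        Subgroup.map_inf _ _ _ L.subtype_injective, Subgroup.map_subgroupOf_eq_of_le hCL]
    rw [hfac D, hfac (S.subgroupOf L)]
    refine Nat.mul_le_mul ?_ hidx
    rw [hinj, hinj, Subgroup.map_subgroupOf_eq_of_le le_sup_left,
      inf_comm (C[Q]) (S : Subgroup G)]
    refine hfc.2.2.2 _ ((hD.1.map _).to_le inf_le_right) inf_le_left fun h0 => hD.2.2.2 ?_
    refine emb_injective L ?_
    rw [map_zero, ← br_emb_eq, hembf, ← br_br_of_le (inf_le_right (a := C[Q]))]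
    rw [h0, map_zero]
  have hmax : IsMaxPair p (restr L f) (S.subgroupOf L, restr L s) :=
    (isMaxPair_iff_card hb hD).mpr ⟨hSp, hcard⟩
  obtain ⟨z, hz⟩ := exists_conj_ple_max hb hmax hUp
  have hQz : Q ≤ U.map (MulAut.conj (z : G)).toMonoidHom := by
    have := Subgroup.map_mono (f := (MulAut.conj (z : G)).toMonoidHom) hle.le
    rwa [map_conj_eq_self (hLN z.2)] at this
  have hzG : PLE p (cjPair (z : G) (U, u)) (S, s) := by
    have h1 := ple_embPair L (x := cjPair z (U.subgroupOf L, restr L u)) ?_ hz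
    · rwa [← cjPair_embPair, hUe, hSe] at h1
    · have : (cjPair z (U.subgroupOf L, restr L u)).1.map L.subtype =
          U.map (MulAut.conj (z : G)).toMonoidHom := by
        have h2 := congrArg Prod.fst (cjPair_embPair L z (U.subgroupOf L, restr L u))
        rw [hUe] at h2
        exact h2.symm
      rw [this]
      exact (Subgroup.centralizer_le (SetLike.coe_subset_coe.mpr hQz)).trans hCL
  have hz' : (z : G) ∈ ((S ⊔ C[Q] : Subgroup G) : Set G) := z.2
  rw [Subgroup.coe_mul_of_left_le_normalizer_right S C[Q] hSC] at hz'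
  obtain ⟨t, ht, c, hc, htc⟩ := hz'
  refine ⟨c, hc, ?_⟩
  have h1 := hzG.cj t⁻¹
  rwa [← cjPair_mul, cjPair_self_of_mem hS (inv_mem ht),
    show t⁻¹ * (z : G) = c by rw [← htc]; group] at h1

variable {P Q : Subgroup G} {e f b : MonoidAlgebra k G} (hP : IsPair p (P, e))
include hP

theorem fullyAutomized_of_fullyNormalized (hb : IsBlk k ⊤ b) (hmax : IsMaxPair p b (P, e))
    (hle : PLE p (Q, f) (P, e)) (hsplit : IsSplit C[Q] f)
    (h : (blockSystem hP).IsFullyNormalized Q) : (blockSystem hP).IsFullyAutomized p Q := by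
  classical
  have hQ := PLE.isPair hle hP
  set T := stab Q f with hTdef
  have hCT : C[Q] ≤ T := centralizer_le_stab hQ
  have hTN : T ≤ N[C[Q]] := stab_le_normalizer_centralizer
  have hD := (isDefect_iff_isDefMax (prim_stab hQ) hCT hTN).mpr
    ((fullyNormalized_iff hP hb hmax hle).mp h)
  have hidx := not_dvd_relIndex hQ.2 fixBy_stab hCT hTN hsplit hD
  set A := (blockSystem hP).autGroup Q with hAdef
  have hA : ∀ {α : MulAut Q}, α ∈ A ↔ ∃ g ∈ T, ∀ x : Q, ((α x : Q) : G) = g * x * g⁻¹ := by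
    intro α
    rw [hAdef, autGroup_eq hP hle, Fusion.mem_autInducedBy]
  let π : T →* A :=
    ((Fusion.conjAut T Q).comp (Subgroup.inclusion (le_inf le_rfl stab_le_normalizer))).codRestrict
      A fun t => hA.mpr ⟨t, t.2, fun _ => rfl⟩
  have hπ : ∀ (t : T) (x : Q), ((((π t : A) : MulAut Q) x : Q) : G) = t * x * (t : G)⁻¹ :=
    fun _ _ => rfl
  have hsurj : Function.Surjective π := by
    rintro ⟨α, hα⟩
    obtain ⟨g, hg, hgα⟩ := hA.mp hα
    exact ⟨⟨g, hg⟩, Subtype.ext (MulEquiv.ext fun x => Subtype.ext (hgα x).symm)⟩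
  have hker : π.ker = C[Q].subgroupOf T := by
    ext t
    rw [MonoidHom.mem_ker, Subgroup.mem_subgroupOf]
    constructor
    · intro h1 x hx
      have h2 := hπ t ⟨x, hx⟩
      rw [h1] at h2
      exact eq_mul_inv_iff_mul_eq.mp h2
    · intro h1
      refine Subtype.ext (MulEquiv.ext fun x => Subtype.ext ?_)
      rw [hπ, ← Subgroup.mem_centralizer_iff.mp h1 x x.2, mul_inv_cancel_right]
      rfl
  have himg : ((P ⊓ N[Q]).subgroupOf T).map π = (autInducedBy P Q).subgroupOf A := by
    ext ⟨α, hα⟩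
    rw [Subgroup.mem_subgroupOf, Fusion.mem_autInducedBy]
    constructor
    · rintro ⟨⟨t, htT⟩, ht, hteq⟩
      refine ⟨t, ht.1, fun x => ?_⟩
      have : ((((⟨α, hα⟩ : A) : MulAut Q) x : Q) : G) = _ := hteq ▸ hπ ⟨t, htT⟩ x
      exact this
    · rintro ⟨g, hg, hgα⟩
      have hgP : g ∈ P ⊓ N[Q] := ⟨hg, Fusion.mem_normalizer_of_aut hgα⟩
      exact ⟨⟨g, hD.2.1 hgP⟩, hgP, Subtype.ext (MulEquiv.ext fun x => Subtype.ext (hgα x).symm)⟩
  have hpg : IsPGroup p ((autInducedBy P Q).subgroupOf A) := by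
    rw [← himg]
    exact ((hP.1.to_le inf_le_left).of_equiv (Subgroup.subgroupOfEquivOfLe hD.2.1).symm).map π
  have hnd : ¬ p ∣ ((autInducedBy P Q).subgroupOf A).index := by
    rw [← himg, Subgroup.index_map, MonoidHom.range_eq_top.2 hsurj, Subgroup.index_top, mul_one,
      hker, ← Subgroup.subgroupOf_sup hD.2.1 hCT]
    exact hidx
  exact ⟨hle.le, hpg.toSylow hnd, rfl⟩

theorem receptive_of_fullyCentralized' (hb : IsBlk k ⊤ b) (hmax : IsMaxPair p b (P, e))
    (hle : PLE p (Q, f) (P, e)) (h : (blockSystem hP).IsFullyCentralized Q) :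
    (blockSystem hP).IsReceptive Q := by
  rw [fullyCentralized_iff hP hb hmax hle] at h
  obtain ⟨s, hQS, hS⟩ := exists_nstep_inf hP hle
  set S := P ⊓ N[Q] with hSdef
  have hfc : IsDefMax p C[Q] f (S ⊓ C[Q]) := by
    rwa [hSdef, inf_assoc, inf_eq_right.mpr (centralizer_le_normalizer Q)]
  refine ⟨hle.le, fun R φ hφ hr => ?_⟩
  obtain ⟨g, hg, hC⟩ := hφ
  have hmap : R.map (MulAut.conj g).toMonoidHom = Q := (Fusion.range_eq_map_conj hg).symm.trans hr
  obtain ⟨n, hn, -⟩ := existsUnique_ple hP (Fusion.extender_le_S (S := P) R φ)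
  obtain ⟨r, hr', -⟩ := existsUnique_ple (PLE.isPair hn hP)
    (Fusion.le_extender (F := blockSystem hP) (φ := φ) ⟨g, hg, hC⟩)
  set N := extender P R φ with hNdef
  have hQr : cj k g r = f := by
    have h1 := hC.ple hP (hr'.trans hn)
    rw [cjPair, hmap] at h1
    exact ple_unique hP h1 hle
  have hQU : PLE p (Q, f) (cjPair g (N, n)) := by
    have h1 := hr'.cj g
    rwa [show cjPair g (R, r) = (Q, f) from Prod.ext hmap hQr] at h1
  have hUL : N.map (MulAut.conj g).toMonoidHom ≤ S ⊔ C[Q] := by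
    rintro _ ⟨m, hm, rfl⟩
    obtain ⟨-, hmN, t, htP, ht⟩ := Fusion.mem_extender.1 hm
    simp only [MulEquiv.coe_toMonoidHom, MulAut.conj_apply]
    have htQ : ∀ y ∈ Q, t * y * t⁻¹ = g * m * g⁻¹ * y * (g * m * g⁻¹)⁻¹ ∧ t * y * t⁻¹ ∈ Q := by
      intro y hy
      obtain ⟨x, rfl⟩ := hr.ge hy
      rw [← ht x ((Subgroup.mem_normalizer_iff.1 hmN x).1 x.2)]
      exact ⟨by rw [hg, hg]; group, hr.le ⟨_, rfl⟩⟩
    have htS : t ∈ S := ⟨htP, Fusion.mem_normalizer_of_conj_mem hle.le fun y hy => (htQ y hy).2⟩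
    have hc : t⁻¹ * (g * m * g⁻¹) ∈ C[Q] := by
      intro y hy
      have h1 := (htQ y hy).1
      generalize g * m * g⁻¹ = a at h1
      calc y * (t⁻¹ * a) = t⁻¹ * (t * y * t⁻¹) * a := by group
        _ = t⁻¹ * (a * y * a⁻¹) * a := by rw [h1]
        _ = t⁻¹ * a * y := by group
    have : g * m * g⁻¹ = t * (t⁻¹ * (g * m * g⁻¹)) := by group
    rw [this]
    exact mul_mem (Subgroup.mem_sup_left htS) (Subgroup.mem_sup_right hc)
  obtain ⟨c, hc, hcU⟩ := exists_centralizer_conj_ple hQS hfc ((PLE.isPair hn hP).cj g) hUL hQU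
  refine ⟨conjHom N (c * g), ⟨c * g, fun _ => rfl, n, hn, ?_⟩, fun x hxR hxN => ?_⟩
  · rw [cjPair_mul]
    exact PLE.trans hcU hS
  · rw [Fusion.conjHom_apply, hg]
    have := hc (φ ⟨x, hxR⟩) (hr.le ⟨_, rfl⟩)
    rw [hg] at this
    calc c * g * x * (c * g)⁻¹ = c * (g * x * g⁻¹) * c⁻¹ := by group
      _ = (g * x * g⁻¹) * c * c⁻¹ := by rw [this]
      _ = g * x * g⁻¹ := by group

/-- The fusion system of a block is saturated. -/
theorem blockSystem_saturated (hb : IsBlk k ⊤ b) (hmax : IsMaxPair p b (P, e))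
    (hsplit : ∀ (R : Subgroup G) (f : MonoidAlgebra k G), IsPair p (R, f) → IsSplit C[R] f) :
    (blockSystem hP).IsSaturated p := by
  intro R hR
  obtain ⟨R', hconj, hfn⟩ := Fusion.exists_fullyNormalized (blockSystem hP) hR
  obtain ⟨f, hf, -⟩ := existsUnique_ple hP hfn.1
  exact ⟨R', hconj,
    fullyAutomized_of_fullyNormalized hP hb hmax hf (hsplit R' f (PLE.isPair hf hP)) hfn,
    receptive_of_fullyCentralized' hP hb hmax hf
      (fullyCentralized_of_fullyNormalized' hP hb hmax hf hfn)⟩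

end CfsgLib.BrauerPairs
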