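import Cfsg.Agent.BrauerPairs.LocalBlocks
import Cfsg.Agent.Fusion.GroupSystem

/-!
# The fusion system of a block on a maximal pair, in the group algebra

The maps are the conjugations carrying the pair below the given one to a pair below it. Fully
centralized, fully normalized and centric subgroups are described by defect subgroups.
-/

namespace CfsgLib.BrauerPairs

open Cfsg Cfsg.FusionSystem

variable {p : ℕ} [hp : Fact p.Prime] {k : Type*} [Field k] [hk : CharP k p]
  {G : Type*} [Group G] [Fintype G] {P Q R : Subgroup G} {e f : MonoidAlgebra k G}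

local notation "C[" Q "]" => Subgroup.centralizer (SetLike.coe Q)
local notation "N[" Q "]" => Subgroup.normalizer (SetLike.coe Q)

/-- Conjugation by `g` carries the pair on `Q` below `x` to a pair below `x`. -/
def Carries (p : ℕ) (x : Subgroup G × MonoidAlgebra k G) (Q : Subgroup G) (g : G) : Prop :=
  ∃ f, PLE p (Q, f) x ∧ PLE p (cjPair g (Q, f)) x

omit hp hk in
theorem Carries.le {x : Subgroup G × MonoidAlgebra k G} {g : G} (h : Carries p x Q g) :
    Q ≤ x.1 := h.choose_spec.1.le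

omit hp hk in
theorem Carries.map_le {x : Subgroup G × MonoidAlgebra k G} {g : G} (h : Carries p x Q g) :
    Q.map (MulAut.conj g).toMonoidHom ≤ x.1 := PLE.le h.choose_spec.2

theorem ple_unique (hP : IsPair p (P, e)) {f f' : MonoidAlgebra k G}
    (h : PLE p (Q, f) (P, e)) (h' : PLE p (Q, f') (P, e)) : f = f' :=
  (existsUnique_ple hP h.le).unique h h'

theorem Carries.ple (hP : IsPair p (P, e)) {g : G} (h : Carries p (P, e) Q g)
    (hf : PLE p (Q, f) (P, e)) : PLE p (cjPair g (Q, f)) (P, e) := by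
  obtain ⟨f', h1, h2⟩ := h
  rwa [ple_unique hP hf h1]

theorem Carries.mono (hP : IsPair p (P, e)) {g : G} (h : Carries p (P, e) Q g) (hRQ : R ≤ Q) :
    Carries p (P, e) R g := by
  obtain ⟨f, h1, h2⟩ := h
  obtain ⟨r, hr, -⟩ := existsUnique_ple (PLE.isPair h1 hP) hRQ
  exact ⟨r, hr.trans h1, (hr.cj g).trans h2⟩

theorem Carries.comp (hP : IsPair p (P, e)) {g h : G} (hg : Carries p (P, e) Q g)
    (hh : Carries p (P, e) R h) (hle : Q.map (MulAut.conj g).toMonoidHom ≤ R) :
    Carries p (P, e) Q (h * g) := by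
  obtain ⟨f, h1, h2⟩ := hg
  refine ⟨f, h1, ?_⟩
  rw [cjPair_mul]
  exact Carries.ple hP (hh.mono hP hle) h2

omit hp hk in
theorem Carries.inv {x : Subgroup G × MonoidAlgebra k G} {g : G} (h : Carries p x Q g) :
    Carries p x (Q.map (MulAut.conj g).toMonoidHom) g⁻¹ := by
  obtain ⟨f, h1, h2⟩ := h
  refine ⟨cj k g f, h2, ?_⟩
  show PLE p (cjPair g⁻¹ (cjPair g (Q, f))) x
  rwa [← cjPair_mul, inv_mul_cancel, cjPair_one]

theorem cjPair_self_of_mem (hP : IsPair p (P, e)) {g : G} (hg : g ∈ P) :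
    cjPair g (P, e) = (P, e) :=
  Prod.ext (map_conj_eq_self (Subgroup.le_normalizer hg)) (hP.fix_self g hg)

theorem Carries.of_mem (hP : IsPair p (P, e)) (hQ : Q ≤ P) {g : G} (hg : g ∈ P) :
    Carries p (P, e) Q g := by
  obtain ⟨f, hf, -⟩ := existsUnique_ple hP hQ
  refine ⟨f, hf, ?_⟩
  have := hf.cj g
  rwa [cjPair_self_of_mem hP hg] at this

/-- The fusion system on a pair. -/
def blockSystem (hP : IsPair p (P, e)) : FusionSystem P where
  Hom Q := {φ | ∃ g : G, (∀ u : Q, φ u = g * (u : G) * g⁻¹) ∧ Carries p (P, e) Q g}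
  le_of_mem := by
    rintro Q φ ⟨g, hg, hC⟩
    exact ⟨hC.le, fun u => hC.map_le ⟨u, u.2, (hg u).symm⟩⟩
  injective_of_mem := by
    rintro Q φ ⟨g, hg, -⟩ a b hab
    rw [hg, hg] at hab
    exact Subtype.ext (mul_left_cancel (mul_right_cancel hab))
  conj_mem := fun {Q g} hQ hg => ⟨g, fun _ => rfl, Carries.of_mem hP hQ hg⟩
  comp_mem := by
    rintro Q R φ ψ ⟨g, hg, hC⟩ ⟨h, hh, hD⟩ hmem
    refine ⟨h * g, fun u => ?_, hC.comp hP hD ?_⟩
    · show ψ (φ.codRestrict R hmem u) = _
      rw [hh]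
      show h * φ u * h⁻¹ = _
      rw [hg]
      group
    · rintro _ ⟨u, hu, rfl⟩
      show g * u * g⁻¹ ∈ R
      rw [← hg ⟨u, hu⟩]
      exact hmem ⟨u, hu⟩
  inv_mem := by
    rintro Q φ ⟨g, hg, hC⟩
    refine ⟨conjHom φ.range g⁻¹, ⟨g⁻¹, fun _ => rfl, ?_⟩, fun u => ?_⟩
    · rw [Fusion.range_eq_map_conj hg]
      exact hC.inv
    · show g⁻¹ * φ u * g⁻¹⁻¹ = u
      rw [hg]
      group

variable (hP : IsPair p (P, e))
include hP

theorem isConj_iff_carries {R : Subgroup G} :
    (blockSystem hP).IsConj Q R ↔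
      ∃ g, Carries p (P, e) Q g ∧ Q.map (MulAut.conj g).toMonoidHom = R := by
  constructor
  · rintro ⟨φ, ⟨g, hg, hC⟩, rfl⟩
    exact ⟨g, hC, (Fusion.range_eq_map_conj hg).symm⟩
  · rintro ⟨g, hC, rfl⟩
    exact ⟨conjHom Q g, ⟨g, fun _ => rfl, hC⟩, Fusion.range_eq_map_conj fun _ => rfl⟩

omit hP hp hk in
/-- The stabilizer of a block idempotent in the normalizer. -/
def stab (Q : Subgroup G) (f : MonoidAlgebra k G) : Subgroup G where
  carrier := {y | y ∈ N[Q] ∧ cj k y f = f}
  one_mem' := ⟨one_mem _, cj_one f⟩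
  mul_mem' := fun {a c} ha hc => ⟨mul_mem ha.1 hc.1, by rw [cj_mul, hc.2, ha.2]⟩
  inv_mem' := fun {a} ha => ⟨inv_mem ha.1, by conv_lhs => rw [← ha.2, cj_inv_cj]⟩

omit hP hp hk in
theorem mem_stab {y : G} : y ∈ stab Q f ↔ y ∈ N[Q] ∧ cj k y f = f := Iff.rfl

omit hP hp hk in
theorem stab_le_normalizer : stab Q f ≤ N[Q] := fun _ h => h.1

omit hP hp hk in
theorem fixBy_stab : FixBy (stab Q f) f := fun _ h => h.2

omit hP hp hk in
theorem centralizer_le_stab (hf : IsPair p (Q, f)) : C[Q] ≤ stab Q f :=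
  fun c hc => ⟨centralizer_le_normalizer Q hc, hf.2.fixBy c hc⟩

omit hP in
theorem le_stab (hf : IsPair p (Q, f)) : Q ≤ stab Q f :=
  fun q hq => ⟨Subgroup.le_normalizer hq, hf.fix_self q hq⟩

theorem inf_normalizer_le_stab (hle : PLE p (Q, f) (P, e)) : P ⊓ N[Q] ≤ stab Q f :=
  fun _ h => ⟨h.2, fixBy_inf_normalizer hP hle _ h⟩

omit hP hp hk in
theorem prim_stab (hf : IsPair p (Q, f)) : IsPrimIdem (alg k C[Q] (stab Q f)) f :=
  hf.2.prim (centralizer_le_stab hf) fixBy_stab

omit hP hp hk in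
theorem stab_le_normalizer_centralizer : stab Q f ≤ N[C[Q]] :=
  stab_le_normalizer.trans map_normalizer_centralizer

omit hP hp hk in
theorem map_conj_stab (x : G) :
    (stab Q f).map (MulAut.conj x).toMonoidHom =
      stab (Q.map (MulAut.conj x).toMonoidHom) (cj k x f) := by
  ext y
  obtain ⟨z, rfl⟩ : ∃ z, y = x * z * x⁻¹ := ⟨x⁻¹ * y * x, by group⟩
  have hN : x * z * x⁻¹ ∈ N[Q.map (MulAut.conj x).toMonoidHom] ↔ z ∈ N[Q] := by
    rw [← Subgroup.map_normalizer_eq_of_bijective Q (f := (MulAut.conj x).toMonoidHom)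
      (MulAut.conj x).bijective]
    exact Subgroup.mem_map_iff_mem (MulAut.conj x).injective (x := z)
  rw [mem_stab, hN, show x * z * x⁻¹ = (MulAut.conj x).toMonoidHom z from rfl,
    Subgroup.mem_map_iff_mem (MulAut.conj x).injective, mem_stab]
  show _ ↔ _ ∧ cj k (x * z * x⁻¹) (cj k x f) = cj k x f
  rw [← cj_mul, inv_mul_cancel_right, cj_mul, (cj k x).injective.eq_iff]

/-- The automorphisms of `Q` in the system are those induced by the stabilizer. -/
theorem autGroup_eq (hle : PLE p (Q, f) (P, e)) :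
    (blockSystem hP).autGroup Q = autInducedBy (stab Q f) Q := by
  ext α
  rw [Fusion.autGroup_carrier hle.le, Fusion.mem_autInducedBy]
  constructor
  · rintro ⟨g, hg, hC⟩
    have hN : g ∈ N[Q] := Fusion.mem_normalizer_of_aut fun u => hg u
    have h1 := hC.ple hP hle
    rw [cjPair, map_conj_eq_self hN] at h1
    exact ⟨g, ⟨hN, ple_unique hP h1 hle⟩, fun u => hg u⟩
  · rintro ⟨g, ⟨hN, hf⟩, hg⟩
    refine ⟨g, fun u => hg u, f, hle, ?_⟩
    rwa [cjPair, map_conj_eq_self hN, hf]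

omit hP hp hk in
theorem br_ne_zero_of_le (hf : IsPair p (Q, f)) (hR : R ≤ Q) : br R f ≠ 0 := by
  rw [br_eq_self (hf.2.suppIn.mono (Subgroup.centralizer_le (SetLike.coe_subset_coe.mpr hR)))]
  exact hf.2.ne_zero

omit hP hp hk in
theorem IsDefMax.of_card_le {T : Subgroup G} {b : MonoidAlgebra k G} {D : Subgroup G}
    (h : IsDefMax p T b D) (hR : IsPGroup p R) (hRT : R ≤ T) (hbr : br R b ≠ 0)
    (hcard : Nat.card D ≤ Nat.card R) : IsDefMax p T b R :=
  ⟨hR, hRT, hbr, fun U hU hUT hne => (h.2.2.2 U hU hUT hne).trans hcard⟩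

omit hP hp hk in
theorem IsDefMax.of_cj {T : Subgroup G} {b : MonoidAlgebra k G} {D : Subgroup G} {x : G}
    (h : IsDefMax p (T.map (MulAut.conj x).toMonoidHom) (BrauerPairs.cj k x b) D) :
    IsDefMax p T b (D.map (MulAut.conj x⁻¹).toMonoidHom) := by
  have := h.cj x⁻¹
  rwa [map_conj_map_conj, inv_mul_cancel, map_conj_one, cj_inv_cj] at this

variable {b : MonoidAlgebra k G}

theorem fullyNormalized_iff (hb : IsBlk k ⊤ b) (hmax : IsMaxPair p b (P, e))
    (hle : PLE p (Q, f) (P, e)) :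
    (blockSystem hP).IsFullyNormalized Q ↔ IsDefMax p (stab Q f) f (P ⊓ N[Q]) := by
  have hQ := PLE.isPair hle hP
  have hPN : IsPGroup p (P ⊓ N[Q] : Subgroup G) := hP.1.to_le inf_le_left
  constructor
  · intro h
    obtain ⟨x, hx, hD⟩ := exists_conj_isDefMax hb hmax hle (centralizer_le_stab hQ)
      stab_le_normalizer fixBy_stab
    rw [map_conj_stab] at hD
    have heq : P ⊓ stab (Q.map (MulAut.conj x).toMonoidHom) (cj k x f) =
        P ⊓ N[Q.map (MulAut.conj x).toMonoidHom] :=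
      le_antisymm (inf_le_inf_left _ stab_le_normalizer)
        (le_inf inf_le_left (inf_normalizer_le_stab hP hx))
    rw [heq, ← map_conj_stab] at hD
    refine hD.of_cj.of_card_le hPN (inf_normalizer_le_stab hP hle)
      (br_inf_ne_zero hP hle le_rfl) ?_
    rw [Subgroup.card_map_of_injective (MulEquiv.injective _)]
    exact h.2 _ ((isConj_iff_carries hP).mpr ⟨x, ⟨f, hle, hx⟩, rfl⟩)
  · intro h
    refine ⟨hle.le, fun R hR => ?_⟩
    obtain ⟨g, hg, rfl⟩ := (isConj_iff_carries hP).mp hR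
    have h1 := h.cj g
    rw [map_conj_stab] at h1
    rw [← Subgroup.card_map_of_injective (K := normalizerIn P Q)
      (f := (MulAut.conj g).toMonoidHom) (MulEquiv.injective _)]
    exact h1.2.2.2 _ (hP.1.to_le inf_le_left) (inf_normalizer_le_stab hP (hg.ple hP hle))
      (br_inf_ne_zero hP (hg.ple hP hle) le_rfl)

theorem fullyCentralized_iff (hb : IsBlk k ⊤ b) (hmax : IsMaxPair p b (P, e))
    (hle : PLE p (Q, f) (P, e)) :
    (blockSystem hP).IsFullyCentralized Q ↔ IsDefMax p C[Q] f (P ⊓ C[Q]) := by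
  have hQ := PLE.isPair hle hP
  have hCN : ∀ R : Subgroup G, P ⊓ C[R] ≤ P ⊓ N[R] := fun R =>
    inf_le_inf_left _ (centralizer_le_normalizer R)
  constructor
  · intro h
    obtain ⟨x, hx, hD⟩ := exists_conj_isDefMax hb hmax hle le_rfl
      (centralizer_le_normalizer Q) hQ.2.fixBy
    have heq : P ⊓ C[Q].map (MulAut.conj x).toMonoidHom =
        P ⊓ C[Q.map (MulAut.conj x).toMonoidHom] := by rw [map_conj_centralizer]
    rw [heq] at hD
    refine hD.of_cj.of_card_le (hP.1.to_le inf_le_left) inf_le_right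
      (br_inf_ne_zero hP hle (hCN Q)) ?_
    rw [Subgroup.card_map_of_injective (MulEquiv.injective _)]
    exact h.2 _ ((isConj_iff_carries hP).mpr ⟨x, ⟨f, hle, hx⟩, rfl⟩)
  · intro h
    refine ⟨hle.le, fun R hR => ?_⟩
    obtain ⟨g, hg, rfl⟩ := (isConj_iff_carries hP).mp hR
    have h1 := h.cj g
    rw [map_conj_centralizer] at h1
    rw [← Subgroup.card_map_of_injective (K := centralizerIn P Q)
      (f := (MulAut.conj g).toMonoidHom) (MulEquiv.injective _)]
    exact h1.2.2.2 _ (hP.1.to_le inf_le_left) inf_le_right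
      (br_inf_ne_zero hP (hg.ple hP hle) (hCN _))

theorem fullyCentralized_of_fullyNormalized' (hb : IsBlk k ⊤ b) (hmax : IsMaxPair p b (P, e))
    (hle : PLE p (Q, f) (P, e)) (h : (blockSystem hP).IsFullyNormalized Q) :
    (blockSystem hP).IsFullyCentralized Q := by
  have hQ := PLE.isPair hle hP
  rw [fullyCentralized_iff hP hb hmax hle]
  rw [fullyNormalized_iff hP hb hmax hle] at h
  obtain ⟨D, hD⟩ := exists_isDefect (p := p) (k := k) (b := f) hQ.2 le_rfl Subgroup.le_normalizer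
  have hD' := (isDefect_iff_isDefMax hQ.2 le_rfl Subgroup.le_normalizer).mp hD
  refine hD'.of_card_le (hP.1.to_le inf_le_left) inf_le_right
    (br_inf_ne_zero hP hle (inf_le_inf_left _ (centralizer_le_normalizer Q))) ?_
  have hCT := centralizer_le_stab hQ
  have hTN := stab_le_normalizer_centralizer (Q := Q) (f := f)
  obtain ⟨U, hU, hDU⟩ := exists_isDefMax_ge (prim_stab hQ) hCT hTN hD.1 (hD.2.1.trans hCT) hD.2.2.2
  obtain ⟨y, hy, hyU⟩ := ((isDefect_iff_isDefMax (prim_stab hQ) hCT hTN).mpr h).conj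
    ((isDefect_iff_isDefMax (prim_stab hQ) hCT hTN).mpr hU)
  rw [← Subgroup.card_map_of_injective (K := D) (f := (MulAut.conj y).toMonoidHom)
    (MulEquiv.injective _)]
  refine Subgroup.card_le_of_le (le_inf ?_ ?_)
  · exact ((Subgroup.map_mono hDU).trans hyU.le).trans inf_le_left
  · have := Subgroup.map_mono (f := (MulAut.conj y).toMonoidHom) hD.2.1
    rwa [map_conj_eq_self (hTN hy)] at this

omit hP hp hk in
theorem map_inf_centralizer (x : G) (Q : Subgroup G) :
    (Q ⊓ C[Q]).map (MulAut.conj x).toMonoidHom =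
      Q.map (MulAut.conj x).toMonoidHom ⊓ C[Q.map (MulAut.conj x).toMonoidHom] := by
  rw [Subgroup.map_inf _ _ _ (MulAut.conj x).injective, map_conj_centralizer]

theorem centric_iff (hb : IsBlk k ⊤ b) (hmax : IsMaxPair p b (P, e))
    (hle : PLE p (Q, f) (P, e)) :
    (blockSystem hP).IsCentric Q ↔ IsDefMax p C[Q] f (Q ⊓ C[Q]) := by
  have hQ := PLE.isPair hle hP
  haveI : Finite P := inferInstance
  constructor
  · intro h
    obtain ⟨R, hR, hfc⟩ := Fusion.exists_fullyCentralized (blockSystem hP) hle.le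
    have hcR := h.2 R hR
    obtain ⟨g, hg, rfl⟩ := (isConj_iff_carries hP).mp hR
    have h1 := (fullyCentralized_iff hP hb hmax (hg.ple hP hle)).mp hfc
    have heq : P ⊓ C[Q.map (MulAut.conj g).toMonoidHom] =
        Q.map (MulAut.conj g).toMonoidHom ⊓ C[Q.map (MulAut.conj g).toMonoidHom] :=
      le_antisymm (le_inf hcR inf_le_right) (inf_le_inf_right _ hg.map_le)
    rw [heq, ← map_inf_centralizer] at h1
    have hdom : C[Q.map (MulAut.conj g).toMonoidHom] = C[Q].map (MulAut.conj g).toMonoidHom :=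
      (map_conj_centralizer g Q).symm
    rw [hdom] at h1
    have h2 := h1.of_cj
    rwa [map_conj_map_conj, inv_mul_cancel, map_conj_one] at h2
  · intro h
    refine ⟨hle.le, fun R hR => ?_⟩
    obtain ⟨g, hg, rfl⟩ := (isConj_iff_carries hP).mp hR
    have h1 := h.cj g
    rw [map_conj_centralizer, map_inf_centralizer] at h1
    have h2 : Q.map (MulAut.conj g).toMonoidHom ⊓ C[Q.map (MulAut.conj g).toMonoidHom] =
        P ⊓ C[Q.map (MulAut.conj g).toMonoidHom] :=
      Subgroup.eq_of_le_of_card_ge (inf_le_inf_right _ hg.map_le) (h1.2.2.2 _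
        (hP.1.to_le inf_le_left) inf_le_right (br_inf_ne_zero hP (hg.ple hP hle)
          (inf_le_inf_left _ (centralizer_le_normalizer _))))
    show P ⊓ C[Q.map (MulAut.conj g).toMonoidHom] ≤ _
    rw [← h2]
    exact inf_le_left

end CfsgLib.BrauerPairs
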