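import Cfsg.Agent.BrauerPairs.BlockSaturation

/-!
# Nilpotent blocks and their fusion systems, in the group algebra
-/

namespace CfsgLib.BrauerPairs

open Cfsg Cfsg.FusionSystem

variable {p : ℕ} [hp : Fact p.Prime] {k : Type*} [Field k] [hk : CharP k p]
  {G : Type*} [Group G] [Fintype G]

local notation "C[" Q "]" => Subgroup.centralizer (SetLike.coe Q)
local notation "N[" Q "]" => Subgroup.normalizer (SetLike.coe Q)

/-- Nilpotency of a block: elements of order prime to `p` in stabilizers of pairs centralize. -/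
def IsNil (p : ℕ) (b : MonoidAlgebra k G) : Prop :=
  ∀ (Q : Subgroup G) (f : MonoidAlgebra k G), IsPairOf p b (Q, f) →
    ∀ t ∈ stab Q f, ¬ p ∣ orderOf t → t ∈ C[Q]

omit [Fintype G] in
theorem mem_of_pow_mem {H : Subgroup G} {t : G} (ht : ¬ p ∣ orderOf t) {n : ℕ}
    (h : t ^ p ^ n ∈ H) : t ∈ H := by
  obtain ⟨m, hm⟩ := exists_pow_eq_self_of_coprime (x := t)
    (Nat.Coprime.pow_left n ((hp.out.coprime_iff_not_dvd).mpr ht))
  rw [← hm]
  exact H.pow_mem h m

variable {P Q : Subgroup G} {e f b : MonoidAlgebra k G}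

/-- An element acting on `Q` like an element of a `p`-group, of order prime to `p`, centralizes. -/
theorem mem_centralizer_of_agree (hP : IsPGroup p P) {t s : G} (ht : t ∈ N[Q]) (hs : s ∈ P)
    (hreg : ¬ p ∣ orderOf t) (hag : ∀ x ∈ Q, t * x * t⁻¹ = s * x * s⁻¹) : t ∈ C[Q] := by
  have hsN : s ∈ N[Q] := by
    rw [Subgroup.mem_normalizer_iff]
    intro x
    refine ⟨fun hx => ?_, fun hx => ?_⟩
    · rw [← hag x hx]; exact (Subgroup.mem_normalizer_iff.mp ht x).mp hx
    · obtain ⟨y, hy, he⟩ : s * x * s⁻¹ ∈ Q.map (MulAut.conj t).toMonoidHom := by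
        rw [map_conj_eq_self ht]; exact hx
      simp only [MulEquiv.coe_toMonoidHom, MulAut.conj_apply] at he
      rw [hag y hy] at he
      rwa [← mul_left_cancel (mul_right_cancel he)]
  obtain ⟨n, hn⟩ := hP ⟨s, hs⟩
  have hn' : s ^ p ^ n = 1 := congrArg Subtype.val hn
  let π := Fusion.conjAut (⊤ : Subgroup G) Q
  have heq : π ⟨t, ⟨trivial, ht⟩⟩ = π ⟨s, ⟨trivial, hsN⟩⟩ :=
    MulEquiv.ext fun x => Subtype.ext (hag x x.2)
  have h1 : π (⟨t, ⟨trivial, ht⟩⟩ ^ p ^ n) = 1 := by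
    rw [map_pow, heq, ← map_pow, ← map_one π]
    exact congrArg π (Subtype.ext (by simpa using hn'))
  exact mem_of_pow_mem hreg (Fusion.mem_ker_conjAut.mp h1)

variable (hP : IsPair p (P, e))
include hP

/-- Nilpotency is visible below one maximal pair. -/
theorem isNil_iff_below (hb : IsBlk k ⊤ b) (hmax : IsMaxPair p b (P, e)) :
    IsNil p b ↔ ∀ (Q : Subgroup G) (f : MonoidAlgebra k G), PLE p (Q, f) (P, e) →
      ∀ t ∈ stab Q f, ¬ p ∣ orderOf t → t ∈ C[Q] := by
  refine ⟨fun h Q f hle => h Q f ((isPairOf_iff_of_ple hb hle hP).mpr hmax.1),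
    fun h Q f hQ t ht hreg => ?_⟩
  obtain ⟨z, hz⟩ := exists_conj_ple_max hb hmax hQ
  have h1 : z * t * z⁻¹ ∈ stab (Q.map (MulAut.conj z).toMonoidHom) (cj k z f) := by
    rw [← map_conj_stab]
    exact ⟨t, ht, rfl⟩
  have h2 : z * t * z⁻¹ ∈ C[Q.map (MulAut.conj z).toMonoidHom] := h _ _ hz _ h1 (by
    rw [show z * t * z⁻¹ = (MulAut.conj z).toMonoidHom t from rfl,
      orderOf_injective (MulAut.conj z).toMonoidHom (MulAut.conj z).injective t]
    exact hreg)
  rw [← map_conj_centralizer] at h2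
  exact (Subgroup.mem_map_iff_mem (MulAut.conj z).injective (x := t)).mp h2

/-- All maps are conjugations by elements of the group on which the system lives. -/
def IsInnerSystem : Prop :=
  ∀ (Q : Subgroup G), ∀ φ ∈ (blockSystem hP).Hom Q, ∃ s ∈ P, ∀ x : Q, φ x = s * (x : G) * s⁻¹

theorem isNil_of_inner (hb : IsBlk k ⊤ b) (hmax : IsMaxPair p b (P, e))
    (h : IsInnerSystem hP) : IsNil p b := by
  rw [isNil_iff_below hP hb hmax]
  intro Q f hle t ht hreg
  obtain ⟨s, hs, hag⟩ := h Q (conjHom Q t) ⟨t, fun _ => rfl, f, hle, by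
    rwa [cjPair, map_conj_eq_self ht.1, ht.2]⟩
  exact mem_centralizer_of_agree hP.1 ht.1 hs hreg fun x hx => hag ⟨x, hx⟩

/-- In a nilpotent block a fully normalized subgroup has only inner automorphisms. -/
theorem exists_inner_of_fullyNormalized (hb : IsBlk k ⊤ b) (hmax : IsMaxPair p b (P, e))
    (hnil : IsNil p b) (hsplit : IsSplit C[Q] f) (hle : PLE p (Q, f) (P, e))
    (hfn : (blockSystem hP).IsFullyNormalized Q) {t : G} (ht : t ∈ stab Q f) :
    ∃ r ∈ P, ∀ x ∈ Q, t * x * t⁻¹ = r * x * r⁻¹ := by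
  have hnil' := (isNil_iff_below hP hb hmax).mp hnil Q f hle
  set A := (blockSystem hP).autGroup Q with hAdef
  have hA : ∀ {α : MulAut Q}, α ∈ A ↔
      ∃ g ∈ stab Q f, ∀ x : Q, ((α x : Q) : G) = g * x * g⁻¹ := by
    intro α
    rw [hAdef, autGroup_eq hP hle, Fusion.mem_autInducedBy]
  have hAp : IsPGroup p A := by
    rintro ⟨α, hα⟩
    obtain ⟨g, hg, hgα⟩ := hA.mp hα
    obtain ⟨n, m, hm, hnm⟩ := Nat.exists_eq_pow_mul_and_not_dvd (orderOf_pos g).ne' p hp.out.ne_one
    refine ⟨n, Subtype.ext ?_⟩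
    have hgn : g ^ p ^ n ∈ C[Q] := by
      refine hnil' _ ((stab Q f).pow_mem hg _) ?_
      rw [orderOf_pow' g (pow_ne_zero _ hp.out.ne_zero), hnm, Nat.gcd_mul_right_left,
        Nat.mul_div_cancel_left _ (pow_pos hp.out.pos _)]
      exact hm
    have heq : α = Fusion.conjAut ⊤ Q ⟨g, ⟨trivial, hg.1⟩⟩ :=
      MulEquiv.ext fun x => Subtype.ext (hgα x)
    show α ^ p ^ n = 1
    rw [heq, ← map_pow]
    exact Fusion.mem_ker_conjAut.mpr hgn
  obtain ⟨-, R, hR⟩ := fullyAutomized_of_fullyNormalized hP hb hmax hle hsplit hfn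
  have htop : (R : Subgroup A) = ⊤ :=
    (R.3 (Q := ⊤) (hAp.to_subgroup ⊤) le_top).symm
  let α : A := ⟨Fusion.conjAut (stab Q f) Q ⟨t, ⟨ht, ht.1⟩⟩, hA.mpr ⟨t, ht, fun _ => rfl⟩⟩
  have hα : α ∈ (R : Subgroup A) := htop ▸ Subgroup.mem_top α
  rw [hR] at hα
  obtain ⟨r, hr, hrα⟩ := Fusion.mem_autInducedBy.mp hα
  exact ⟨r, hr, fun x hx => hrα ⟨x, hx⟩⟩

theorem inner_of_isNil (hb : IsBlk k ⊤ b) (hmax : IsMaxPair p b (P, e)) (hnil : IsNil p b)
    (hsplit : ∀ (R : Subgroup G) (f : MonoidAlgebra k G), IsPair p (R, f) → IsSplit C[R] f) :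
    IsInnerSystem hP := by
  -- automorphisms of fully normalized subgroups
  have haut : ∀ {R : Subgroup G} {t : G}, (blockSystem hP).IsFullyNormalized R →
      Carries p (P, e) R t → R.map (MulAut.conj t).toMonoidHom = R →
        ∃ r ∈ P, ∀ x ∈ R, t * x * t⁻¹ = r * x * r⁻¹ := by
    intro R t hR hC hmap
    obtain ⟨f, hf, -⟩ := existsUnique_ple hP hC.le
    have htN : t ∈ N[R] := by
      rw [Subgroup.mem_normalizer_iff]
      intro x
      conv_rhs => rw [← hmap]
      exact (Subgroup.mem_map_iff_mem (MulAut.conj t).injective (x := x)).symm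
    have h1 := hC.ple hP hf
    rw [cjPair, hmap] at h1
    exact exists_inner_of_fullyNormalized hP hb hmax hnil (hsplit R f (PLE.isPair hf hP)) hf hR
      ⟨htN, ple_unique hP h1 hf⟩
  intro Q φ hφ
  induction hn : Nat.card P - Nat.card Q using Nat.strong_induction_on generalizing Q with
  | _ n ih =>
    subst hn
    obtain ⟨g, hg, hC⟩ := hφ
    have hcard : Nat.card (Q.map (MulAut.conj g).toMonoidHom : Subgroup G) = Nat.card Q :=
      Subgroup.card_map_of_injective (MulEquiv.injective _)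
    rcases (hC.le : Q ≤ P).eq_or_lt with rfl | hlt
    · have hmap : Q.map (MulAut.conj g).toMonoidHom = Q :=
        Subgroup.eq_of_le_of_card_ge hC.map_le hcard.ge
      have hfn : (blockSystem hP).IsFullyNormalized Q := by
        refine ⟨le_rfl, fun R hR => ?_⟩
        rw [Subgroup.eq_of_le_of_card_ge (Fusion.IsConj.le_right hR)
          (Fusion.IsConj.card_eq hR).ge]
      obtain ⟨r, hr, h⟩ := haut hfn hC hmap
      exact ⟨r, hr, fun x => (hg x).trans (h x x.2)⟩
    -- elements moving subgroups of this order to the fully normalized representative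
    obtain ⟨R, hQR, hfn⟩ := Fusion.exists_fullyNormalized (blockSystem hP) hC.le
    obtain ⟨f, hf, -⟩ := existsUnique_ple hP hfn.1
    have hgood := And.intro
      (fullyAutomized_of_fullyNormalized hP hb hmax hf (hsplit R f (PLE.isPair hf hP)) hfn)
      (receptive_of_fullyCentralized' hP hb hmax hf
        (fullyCentralized_of_fullyNormalized' hP hb hmax hf hfn))
    have hmove : ∀ V : Subgroup G, Nat.card V = Nat.card Q → (blockSystem hP).IsConj V R →
        ∃ s ∈ P, V.map (MulAut.conj s).toMonoidHom = R := by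
      intro V hV hVR
      have hVP := Fusion.IsConj.le_left hVR
      have hVlt : V < P := lt_of_le_of_ne hVP fun h => hlt.ne
        (Subgroup.eq_of_le_of_card_ge hlt.le (by rw [← hV, h]))
      obtain ⟨ψ, hψ, -, hmap⟩ := Fusion.exists_map_normalizer p hP.1 hgood.1 hgood.2 hVR
      have hgt : Nat.card Q < Nat.card (normalizerIn P V) := by
        rw [← hV]
        by_contra hc
        exact (lt_normalizer_inf hP.1 hVlt).ne
          (Subgroup.eq_of_le_of_card_ge (lt_normalizer_inf hP.1 hVlt).le (not_lt.mp hc))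
      have hle := Subgroup.card_le_of_le (Fusion.normalizerIn_le_S (S := P) V)
      obtain ⟨s, hs, hψs⟩ :=
        ih (Nat.card P - Nat.card (normalizerIn P V)) (by omega) _ ψ hψ rfl
      refine ⟨s, hs, ?_⟩
      rw [← hmap]
      ext y
      rw [Fusion.mem_map_subgroupOf]
      constructor
      · rintro ⟨x, hx, rfl⟩
        exact ⟨x, Fusion.le_normalizerIn hVP hx, hx, hψs _⟩
      · rintro ⟨x, hxN, hx, rfl⟩
        exact ⟨x, hx, (hψs ⟨x, hxN⟩).symm⟩
    obtain ⟨s, hs, hsR⟩ := hmove Q rfl hQR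
    have hQ' : (blockSystem hP).IsConj Q (Q.map (MulAut.conj g).toMonoidHom) :=
      (isConj_iff_carries hP).mpr ⟨g, hC, rfl⟩
    obtain ⟨s', hs', hs'R⟩ := hmove _ hcard (Fusion.isConj_trans (Fusion.isConj_symm hQ') hQR)
    have hinvle : R.map (MulAut.conj s⁻¹).toMonoidHom ≤ Q := by
      rw [← hsR, map_conj_map_conj, inv_mul_cancel, map_conj_one]
    have hCR : Carries p (P, e) R (s' * g * s⁻¹) := by
      refine Carries.comp hP (Carries.of_mem hP hfn.1 (P.inv_mem hs)) ?_ hinvle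
      exact Carries.comp hP hC (Carries.of_mem hP hC.map_le hs') le_rfl
    have hmapR : R.map (MulAut.conj (s' * g * s⁻¹)).toMonoidHom = R := by
      conv_lhs => arg 2; rw [← hsR]
      rw [map_conj_map_conj, inv_mul_cancel_right, ← map_conj_map_conj, hs'R]
    obtain ⟨r, hr, hrR⟩ := haut hfn hCR hmapR
    refine ⟨s'⁻¹ * r * s, P.mul_mem (P.mul_mem (P.inv_mem hs') hr) hs, fun x => ?_⟩
    have h1 := hrR (s * (x : G) * s⁻¹) (hsR ▸ ⟨x, x.2, rfl⟩)
    rw [hg]
    calc g * (x : G) * g⁻¹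
        = s'⁻¹ * (s' * g * s⁻¹ * (s * (x : G) * s⁻¹) * (s' * g * s⁻¹)⁻¹) * s' := by group
      _ = s'⁻¹ * (r * (s * (x : G) * s⁻¹) * r⁻¹) * s' := by rw [h1]
      _ = _ := by group

/-- In an inner system every subgroup is fully centralized. -/
theorem fullyCentralized_of_inner (hinner : IsInnerSystem hP) (hQ : Q ≤ P) :
    (blockSystem hP).IsFullyCentralized Q := by
  refine ⟨hQ, fun R hR => ?_⟩
  obtain ⟨φ, hφ, rfl⟩ := hR
  obtain ⟨s, hs, hφs⟩ := hinner Q φ hφ
  rw [Fusion.range_eq_map_conj hφs]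
  refine le_of_eq ?_
  show Nat.card (P ⊓ C[Q.map (MulAut.conj s).toMonoidHom] : Subgroup G) =
    Nat.card (P ⊓ C[Q] : Subgroup G)
  conv_lhs => rw [← map_conj_eq_self (P := P) (x := s) (Subgroup.le_normalizer hs)]
  rw [← map_conj_centralizer, ← Subgroup.map_inf _ _ _ (MulAut.conj s).injective,
    Subgroup.card_map_of_injective (MulEquiv.injective _)]

omit hP hp hk in
theorem le_centralizer_of_abelian (hab : ∀ x ∈ P, ∀ y ∈ P, x * y = y * x) (hQ : Q ≤ P) :
    P ≤ C[Q] := fun x hx =>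
  Subgroup.mem_centralizer_iff.mpr fun y hy => hab y (hQ hy) x hx

theorem fullyCentralized_of_abelian (hab : ∀ x ∈ P, ∀ y ∈ P, x * y = y * x) (hQ : Q ≤ P) :
    (blockSystem hP).IsFullyCentralized Q := by
  refine ⟨hQ, fun R hR => ?_⟩
  refine Subgroup.card_le_of_le ?_
  show P ⊓ C[R] ≤ P ⊓ C[Q]
  exact le_inf inf_le_left (inf_le_left.trans (le_centralizer_of_abelian hab hQ))

/-- For abelian `P` the stabilizer of a pair below is the stabilizer of the top times the
centralizer. -/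
theorem exists_stab_top_mul (hb : IsBlk k ⊤ b) (hmax : IsMaxPair p b (P, e))
    (hab : ∀ x ∈ P, ∀ y ∈ P, x * y = y * x) (hle : PLE p (Q, f) (P, e)) {x : G}
    (hx : x ∈ stab Q f) : ∃ y ∈ stab P e, ∃ c ∈ C[Q], x = y * c := by
  have hφ : conjHom Q x ∈ (blockSystem hP).Hom Q := ⟨x, fun _ => rfl, f, hle, by
    rwa [cjPair, map_conj_eq_self hx.1, hx.2]⟩
  have hr : (conjHom Q x).range = Q :=
    (Fusion.range_eq_map_conj fun _ => rfl).trans (map_conj_eq_self hx.1)
  obtain ⟨ψ, hψ, hagree⟩ := (receptive_of_fullyCentralized' hP hb hmax hle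
    (fullyCentralized_of_abelian hP hab hle.le)).2 Q _ hφ hr
  obtain ⟨y, hy, hyC⟩ := hψ
  have hN : extender P Q (conjHom Q x) = P :=
    le_antisymm (Fusion.extender_le_S _ _)
      ((le_inf le_rfl (le_centralizer_of_abelian hab hle.le)).trans
        (Fusion.centralizerIn_le_extender _ _))
  have hQN : Q ≤ extender P Q (conjHom Q x) := hN.symm ▸ hle.le
  have hag : ∀ u ∈ Q, y * u * y⁻¹ = x * u * x⁻¹ := fun u hu =>
    (hy ⟨u, hQN hu⟩).symm.trans (hagree u hu (hQN hu))
  rw [hN] at hyC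
  have hmap : P.map (MulAut.conj y).toMonoidHom = P :=
    Subgroup.eq_of_le_of_card_ge hyC.map_le
      (Subgroup.card_map_of_injective (MulEquiv.injective _)).ge
  have hyN : y ∈ N[P] := by
    rw [Subgroup.mem_normalizer_iff]
    intro u
    conv_rhs => rw [← hmap]
    exact (Subgroup.mem_map_iff_mem (MulAut.conj y).injective (x := u)).symm
  have h1 := hyC.ple hP Relation.ReflTransGen.refl
  rw [cjPair, hmap] at h1
  refine ⟨y, ⟨hyN, ple_unique hP h1 Relation.ReflTransGen.refl⟩, y⁻¹ * x, ?_, by group⟩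
  intro u hu
  calc u * (y⁻¹ * x) = y⁻¹ * (y * u * y⁻¹) * x := by group
    _ = y⁻¹ * (x * u * x⁻¹) * x := by rw [hag u hu]
    _ = y⁻¹ * x * u := by group

theorem stab_top_inf_le (hle : PLE p (Q, f) (P, e)) :
    stab P e ⊓ N[Q] ≤ stab Q f := by
  rintro y ⟨⟨hyN, hye⟩, hyQ⟩
  have h1 := hle.cj y
  rw [cjPair, cjPair, map_conj_eq_self hyQ, map_conj_eq_self hyN, hye] at h1
  exact ⟨hyQ, ple_unique hP h1 hle⟩

/-- For abelian `P`: nilpotent iff the stabilizer of the maximal pair centralizes. -/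
theorem isNil_iff_of_abelian (hb : IsBlk k ⊤ b) (hmax : IsMaxPair p b (P, e))
    (hab : ∀ x ∈ P, ∀ y ∈ P, x * y = y * x)
    (hsplit : ∀ (R : Subgroup G) (f : MonoidAlgebra k G), IsPair p (R, f) → IsSplit C[R] f) :
    IsNil p b ↔ stab P e ≤ C[P] := by
  constructor
  · intro h t ht
    obtain ⟨s, hs, hag⟩ := inner_of_isNil hP hb hmax h hsplit P (conjHom P t)
      ⟨t, fun _ => rfl, e, Relation.ReflTransGen.refl, by
        rw [cjPair, map_conj_eq_self ht.1, ht.2]; exact Relation.ReflTransGen.refl⟩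
    intro u hu
    have h1 : t * u * t⁻¹ = s * u * s⁻¹ := hag ⟨u, hu⟩
    rw [hab s hs u hu, mul_inv_cancel_right, mul_inv_eq_iff_eq_mul] at h1
    exact h1.symm
  · intro h
    rw [isNil_iff_below hP hb hmax]
    intro Q f hle t ht _
    obtain ⟨y, hy, c, hc, rfl⟩ := exists_stab_top_mul hP hb hmax hab hle ht
    exact mul_mem (Subgroup.centralizer_le (SetLike.coe_subset_coe.mpr hle.le) (h hy)) hc

end CfsgLib.BrauerPairs
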