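import Cfsg.Agent.BrauerPairs.Major
import Cfsg.Agent.BrauerPairs.LocalBridge

/-!
# When a Brauer pair is maximal

A pair `(Q, f)` is maximal in its block exactly when `Q` is a defect subgroup of `f` in the stabilizer
`T` of `f`; and then the index of `Q C(Q)` in `T` is prime to `p`.
-/

set_option autoImplicit false

namespace CfsgLib.BrauerPairs

open MonoidAlgebra Cfsg CfsgLib.Block CfsgLib.Block.Chr

section Abstract

variable {p : ℕ} [hp : Fact p.Prime] {k : Type*} [Field k] [hk : CharP k p]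
  {G : Type*} [Group G] [Fintype G]

local notation "C[" Q "]" => Subgroup.centralizer (SetLike.coe Q)
local notation "N[" Q "]" => Subgroup.normalizer (SetLike.coe Q)

omit hp hk in
/-- On an element supported in `C(Q)` truncation at `R` and at `Q ⊔ R` agree. -/
theorem br_sup_eq {Q R : Subgroup G} {f : MonoidAlgebra k G} (hf : SuppIn C[Q] f) :
    br (Q ⊔ R) f = br R f := by
  classical
  refine coeff_ext fun g => ?_
  rw [coeff_br, coeff_br]
  by_cases hgR : g ∈ C[R]
  · rw [if_pos hgR]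
    by_cases hgQ : g ∈ C[Q]
    · rw [if_pos]
      rw [Subgroup.mem_centralizer_iff]
      intro r hr
      have hle : Q ⊔ R ≤ Subgroup.centralizer ({g} : Set G) := sup_le
        (fun a ha => Subgroup.mem_centralizer_singleton_iff.mpr
          (Subgroup.mem_centralizer_iff.mp hgQ a ha))
        (fun a ha => Subgroup.mem_centralizer_singleton_iff.mpr
          (Subgroup.mem_centralizer_iff.mp hgR a ha))
      exact Subgroup.mem_centralizer_singleton_iff.mp (hle hr)
    · rw [hf g hgQ]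
      split_ifs <;> rfl
  · rw [if_neg hgR, if_neg fun h =>
      hgR (Subgroup.centralizer_le (SetLike.coe_subset_coe.mpr le_sup_right) h)]

theorem exists_isMaxPair_of_isDefMax {Q : Subgroup G} {f : MonoidAlgebra k G}
    (hQf : IsPair p (Q, f)) (hd : IsDefMax p (stab Q f) f Q) :
    ∃ b, IsBlk k ⊤ b ∧ IsMaxPair p b (Q, f) := by
  obtain ⟨b, ⟨hb, hbQ⟩, -⟩ := existsUnique_isPairOf hQf
  refine ⟨b, hb, hbQ, fun y hy hle => ?_⟩
  obtain ⟨P, e⟩ := y
  by_contra hne
  have hP : IsPair p (P, e) := hy.1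
  have hlt : Q < P := lt_of_le_of_ne (PLE.le hle) (Ne.symm hne)
  have h1 : Q < P ⊓ Subgroup.normalizer (Q : Set G) := lt_normalizer_inf hP.1 hlt
  have h2 : P ⊓ Subgroup.normalizer (Q : Set G) ≤ stab Q f :=
    fun x hx => ⟨hx.2, fixBy_inf_normalizer hP hle x hx⟩
  have h3 := hd.2.2.2 _ (hP.1.to_le inf_le_left) h2 (br_inf_ne_zero hP hle le_rfl)
  exact h1.ne (Subgroup.eq_of_le_of_card_ge h1.le h3)

/-- The centre of `Q` is a defect subgroup of `f` in `C(Q)`. -/
theorem isDefMax_centralizer {Q : Subgroup G} {f : MonoidAlgebra k G}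
    (hQf : IsPair p (Q, f)) (hd : IsDefMax p (stab Q f) f Q) :
    IsDefMax p C[Q] f (Q ⊓ C[Q]) := by
  refine ⟨hQf.1.to_le inf_le_left, inf_le_right, ?_, fun R hR hRC hbr => ?_⟩
  · rw [br_eq_self fun g hg => hQf.suppIn g fun hgQ => hg
      (Subgroup.centralizer_le (SetLike.coe_subset_coe.mpr inf_le_left) hgQ)]
    exact hQf.2.ne_zero
  · have hRN : R ≤ N[Q] := hRC.trans (centralizer_le_normalizer Q)
    have hS : IsPGroup p (Q ⊔ R : Subgroup G) := hQf.1.to_sup_of_normal_left' hR hRN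
    have hSle : Q ⊔ R ≤ stab Q f :=
      sup_le (le_stab hQf) (hRC.trans (centralizer_le_stab hQf))
    have h := hd.2.2.2 _ hS hSle (by rw [br_sup_eq hQf.suppIn]; exact hbr)
    have he : Q = Q ⊔ R := Subgroup.eq_of_le_of_card_ge le_sup_left h
    exact Subgroup.card_le_of_le (le_inf (he ▸ le_sup_right) hRC)

theorem isDefMax_stab {Q : Subgroup G} {f : MonoidAlgebra k G} (hQf : IsPair p (Q, f))
    (hc : IsDefMax p C[Q] f (Q ⊓ C[Q]))
    (hidx : ∀ x ∈ stab Q f, (∃ n, orderOf x = p ^ n) → x ∈ Q ⊔ C[Q]) :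
    IsDefMax p (stab Q f) f Q := by
  refine ⟨hQf.1, le_stab hQf, by rw [br_eq_self hQf.suppIn]; exact hQf.2.ne_zero,
    fun R hR hRT hbr => ?_⟩
  have hS : IsPGroup p (Q ⊔ R : Subgroup G) :=
    hQf.1.to_sup_of_normal_left' hR (hRT.trans stab_le_normalizer)
  have hSle : Q ⊔ R ≤ stab Q f := sup_le (le_stab hQf) hRT
  have hbrS : br (Q ⊔ R) f ≠ 0 := by rw [br_sup_eq hQf.suppIn]; exact hbr
  refine (Subgroup.card_le_of_le (le_sup_right : R ≤ Q ⊔ R)).trans (Subgroup.card_le_of_le ?_)
  have hD : IsPGroup p ((Q ⊔ R) ⊓ C[Q] : Subgroup G) := hS.to_le inf_le_left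
  have h1 := hc.2.2.2 _ hD inf_le_right fun h => hbrS (by
    rw [← br_br_of_le (inf_le_left : (Q ⊔ R) ⊓ C[Q] ≤ Q ⊔ R) f, h, map_zero])
  have h2 : Q ⊓ C[Q] = (Q ⊔ R) ⊓ C[Q] :=
    Subgroup.eq_of_le_of_card_ge (le_inf (inf_le_left.trans le_sup_left) inf_le_right) h1
  intro x hx
  have hx' : x ∈ Q ⊔ C[Q] := hidx x (hSle hx) (by
    obtain ⟨n, hn⟩ := IsPGroup.iff_orderOf.1 hS ⟨x, hx⟩
    exact ⟨n, by rw [← hn, Subgroup.orderOf_mk]⟩)
  rw [← SetLike.mem_coe,
    Subgroup.coe_mul_of_right_le_normalizer_left Q C[Q] (centralizer_le_normalizer Q)] at hx'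
  obtain ⟨q, hq, c, hcC, rfl⟩ := hx'
  have hcS : c ∈ (Q ⊔ R) ⊓ C[Q] := by
    refine Subgroup.mem_inf.2 ⟨?_, hcC⟩
    have := mul_mem (inv_mem (Subgroup.mem_sup_left (T := R) hq)) hx
    simpa using this
  rw [← h2] at hcS
  exact mul_mem hq hcS.1

end Abstract

section Residue

universe u

variable {G : Type u} [Group G] [Fintype G] {M : Ideal AlgInt} [M.IsPrime] {p : ℕ}
  [hp : Fact p.Prime]

local notation "C[" Q "]" => Subgroup.centralizer (SetLike.coe Q)
local notation "N[" Q "]" => Subgroup.normalizer (SetLike.coe Q)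

omit hp in
theorem lam_smul {H : Type*} [Group H] [Fintype H] (χ : IrrCharacter H) (c : Residue M)
    {a : MonoidAlgebra (Residue M) H} (ha : a ∈ alg (Residue M) ⊤ ⊤) :
    lam χ (c • a) = c * lam χ a := by
  have ha' := isIntClass_liftFun ha
  have hb : IsIntClass M (liftRes c • liftFun a) :=
    ⟨fun g x => by simp only [Pi.smul_apply, ha'.1 g x],
      fun g => memLocalRing_mul (liftRes_mem c) (ha'.2 g)⟩
  have he : c • a = redFun M (liftRes c • liftFun a) := coeff_ext fun g => by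
    rw [coeff_redFun, Pi.smul_apply, smul_eq_mul, red_mul (liftRes_mem c) (ha'.2 g), red_liftRes]
    conv_lhs => rw [← redFun_liftFun a]
    simp
  rw [he, lam_redFun χ hb, omega_smul, red_mul (liftRes_mem c) (omega_mem χ ha'), red_liftRes]
  rfl

theorem mem_sup_of_isDefMax_stab (hM : IsPModular p M) {Q : Subgroup G}
    {e : Set (IrrCharacter C[Q])} (he : IsPBlock M e) (hQ : IsPGroup p Q)
    (hd : IsDefMax p (stab Q (idemIn M C[Q] e)) (idemIn M C[Q] e) Q) {g : G}
    (hg : g ∈ stab Q (idemIn M C[Q] e)) (hgp : ∃ n, orderOf g = p ^ n) : g ∈ Q ⊔ C[Q] := by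
  classical
  haveI := charP_residue hM
  haveI := Fintype.ofFinite C[Q]
  set f := idemIn M C[Q] e with hf
  have hQf : IsPair p (Q, f) := ⟨hQ, isBlk_idemIn hM he⟩
  set T := stab Q f with hT
  set X := Q ⊔ C[Q] with hX
  have hCT : C[Q] ≤ T := centralizer_le_stab hQf
  have hXT : X ≤ T := sup_le (le_stab hQf) hCT
  have hTN : T ≤ N[Q] := stab_le_normalizer
  haveI : (X.subgroupOf T).Normal := by
    rw [hX, Subgroup.subgroupOf_sup (le_stab hQf) hCT]
    haveI : (Q.subgroupOf T).Normal :=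
      Subgroup.normal_subgroupOf_of_le_normalizer hTN
    haveI : (C[Q].subgroupOf T).Normal :=
      Subgroup.normal_subgroupOf_of_le_normalizer (hTN.trans map_normalizer_centralizer)
    infer_instance
  -- it suffices that the index is prime to `p`
  suffices hndvd : ¬ p ∣ (X.subgroupOf T).index by
    obtain ⟨n, hn⟩ := hgp
    have h1 : (⟨g, hg⟩ : T) ^ (X.subgroupOf T).index ∈ X.subgroupOf T :=
      Subgroup.pow_index_mem _ _
    rw [Subgroup.mem_subgroupOf, SubmonoidClass.coe_pow] at h1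
    obtain ⟨j, hj⟩ := exists_pow_eq_self_of_coprime (x := g) (n := (X.subgroupOf T).index) (by
      rw [hn]; exact Nat.Coprime.pow_right _ (hp.out.coprime_iff_not_dvd.2 hndvd).symm)
    rw [← hj]
    exact X.pow_mem h1 j
  intro hdvd
  obtain ⟨-, -, ⟨a, ha, hfa⟩, -⟩ := (isDefect_iff_isDefMax (prim_stab hQf) hCT
    stab_le_normalizer_centralizer).mpr hd
  have hQX : Q ≤ X := le_sup_left
  set b := tr Q X a with hbdef
  have hbX : FixBy X b := tr_fixBy ha.2
  have hb : b ∈ alg (Residue M) C[Q] C[Q] :=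
    ⟨tr_suppIn ha.1 (hXT.trans stab_le_normalizer_centralizer), hbX.mono le_sup_right⟩
  have hfb : f = tr X T b := by rw [hbdef, tr_trans hQX hXT ha.2]; exact hfa
  have hfC : f ∈ alg (Residue M) C[Q] C[Q] := hQf.2.mem
  set x := b * f with hxdef
  have hx : x ∈ alg (Residue M) C[Q] C[Q] := mul_mem hb hfC
  have hfx : f = tr X T x := by
    rw [hxdef, tr_mul (fixBy_stab), ← hfb]
    exact hQf.2.idem.symm
  obtain ⟨ξ, hξ⟩ := exists_mem_block he
  have hfe : restr C[Q] f = idem M e := by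
    refine emb_injective C[Q] ?_
    rw [emb_restr C[Q] hfC.1, hf, idemIn_eq]
  have hlf : lam ξ (restr C[Q] f) = 1 := by rw [hfe, lam_idem he, if_pos hξ]
  set c := lam ξ (restr C[Q] x) with hc
  set y := x - c • f with hy
  have hy' : y ∈ alg (Residue M) C[Q] C[Q] :=
    sub_mem hx (Subalgebra.smul_mem _ hfC c)
  have hfy : f * y = y := by
    rw [hy, mul_sub, mul_smul_comm, hQf.2.idem, hxdef, ← mul_assoc,
      alg_comm (le_refl C[Q]) _ hfC _ hb, mul_assoc, hQf.2.idem]
  have hly : lam ξ (restr C[Q] y) = 0 := by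
    have e1 : restr C[Q] y = restr C[Q] x - c • restr C[Q] f :=
      coeff_ext fun g => by simp [restr, hy]
    have hfm := restr_mem C[Q] hfC
    rw [e1, lam_sub ξ (restr_mem C[Q] hx) (Subalgebra.smul_mem _ hfm c), lam_smul ξ c hfm, hlf,
      mul_one, ← hc, sub_self]
  have hnil : IsNilpotent y := by
    rcases IsPrimIdem.nilpotent_or_inv (alg_comm (le_refl C[Q])) hQf.2 hy' hfy with h | ⟨z, hz, h⟩
    · exact h
    · exfalso
      have e1 : restr C[Q] f = restr C[Q] y * restr C[Q] z := by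
        refine emb_injective C[Q] ?_
        rw [map_mul, emb_restr C[Q] hfC.1, emb_restr C[Q] hy'.1, emb_restr C[Q] hz.1, h]
      have e2 := lam_mul ξ (restr_mem C[Q] hy') (restr_mem C[Q] hz)
      rw [← e1, hlf, hly, zero_mul] at e2
      exact one_ne_zero e2
  haveI : Fintype (T ⧸ X.subgroupOf T) := Fintype.ofFinite _
  have hfy' : f = tr X T y := by
    have h0 : tr X T (c • f) = 0 := by
      rw [map_smul, tr_apply, Finset.sum_congr rfl fun q _ =>
        (fixBy_stab : FixBy (stab Q f) f) _ (q.out : T).2, Finset.sum_const, Finset.card_univ,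
        ← Nat.card_eq_fintype_card, ← Subgroup.index_eq_card, ← Nat.cast_smul_eq_nsmul (Residue M),
        (CharP.cast_eq_zero_iff (Residue M) p _).2 hdvd, zero_smul, smul_zero]
    rw [hy, map_sub, h0, sub_zero]
    exact hfx
  -- a sum of conjugates of a nilpotent element is nilpotent
  have hterm : ∀ q : T ⧸ X.subgroupOf T,
      cj (Residue M) ((q.out : T) : G) y ∈ alg (Residue M) C[Q] C[Q] := fun q => by
    have := cj_mem_alg hy' ((q.out : T) : G)
    rwa [map_conj_eq_self (stab_le_normalizer_centralizer (q.out : T).2)] at this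
  have hsum : ∀ s : Finset (T ⧸ X.subgroupOf T),
      IsNilpotent (∑ q ∈ s, cj (Residue M) ((q.out : T) : G) y) := by
    intro s
    induction s using Finset.induction_on with
    | empty => simp
    | insert q s hq ih =>
      rw [Finset.sum_insert hq]
      refine Commute.isNilpotent_add ?_ (hnil.map _) ih
      exact alg_comm (le_refl C[Q]) _ (hterm q) _ (Subalgebra.sum_mem _ fun r _ => hterm r)
  have hnf : IsNilpotent f := by
    rw [hfy', tr_apply]
    exact hsum _
  obtain ⟨n, hn⟩ := hnf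
  have hpow : ∀ m, f ^ (m + 1) = f := fun m => by
    induction m with
    | zero => exact pow_one f
    | succ m ih => rw [pow_succ, ih, hQf.2.idem]
  refine hQf.2.ne_zero ?_
  rw [← hpow n, pow_succ, hn, zero_mul]

end Residue

end CfsgLib.BrauerPairs
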