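import Cfsg.Agent.BrauerPairs.Pairs

/-!
# Brauer's first main theorem in the group algebra
-/

namespace CfsgLib.BrauerPairs

variable {p : ℕ} [hp : Fact p.Prime] {k : Type*} [Field k] [hk : CharP k p]
  {G : Type*} [Group G] [Fintype G] {P H : Subgroup G}

local notation "C[" Q "]" => Subgroup.centralizer (SetLike.coe Q)
local notation "N[" Q "]" => Subgroup.normalizer (SetLike.coe Q)

omit [Fintype G] in
theorem inf_normalizer_eq (hH : N[P] ≤ H) : H ⊓ N[P] = N[P] := inf_eq_right.mpr hH

omit [Fintype G] in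
theorem centralizer_le_of_normalizer_le (hH : N[P] ≤ H) : C[P] ≤ H :=
  (centralizer_le_normalizer P).trans hH

/-- The truncation at a defect subgroup of a block of `H ≥ N(P)` is primitive. -/
theorem br_isPrimIdem (hH : N[P] ≤ H) {c : MonoidAlgebra k G} (hc : IsBlk k H c)
    (hd : IsDefect p H H c P) :
    IsPrimIdem (alg k C[P] N[P]) (br P c) ∧ IsDefect p C[P] N[P] (br P c) P := by
  have hP : IsPGroup p P := hd.1
  have hPH : P ≤ H := hd.2.1
  have hCH := centralizer_le_of_normalizer_le hH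
  have hfixP : FixBy P c := hc.fixBy.mono hPH
  obtain ⟨a, ha, hca⟩ := hd.2.2.1
  have hbr : br P c = tr P N[P] (br P a) := by
    rw [hca, br_tr_self hP hPH ha.2, inf_normalizer_eq hH]
  set u := br P c with hu
  have hmem : u ∈ alg k C[P] N[P] := ⟨suppIn_br c, fixBy_br (hc.fixBy.mono hH) le_rfl⟩
  have hbra : br P a ∈ alg k C[P] P := ⟨suppIn_br a, fixBy_br ha.2 Subgroup.le_normalizer⟩
  have huu : u * u = u := br_idem hP hc.idem hfixP
  have hcomm : ∀ x ∈ alg k C[P] N[P], ∀ y ∈ alg k C[P] N[P], x * y = y * x :=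
    alg_comm (centralizer_le_normalizer P)
  refine ⟨⟨hmem, hd.2.2.2, huu, fun f hf hff => ?_⟩, hP, Subgroup.le_normalizer,
    ⟨_, hbra, hbr⟩, by rw [br_eq_self hmem.1]; exact hd.2.2.2⟩
  by_cases hfu : u * f = 0
  · exact Or.inl hfu
  right
  set a₁ := f * br P a with ha₁
  have hfP : FixBy P f := hf.2.mono Subgroup.le_normalizer
  have hsupp : ∀ {x y : MonoidAlgebra k G} {K : Subgroup G}, SuppIn K x → SuppIn K y →
      SuppIn K (x * y) := by
    intro x y K hx hy g hg
    rw [coeff_mul]
    refine Finset.sum_eq_zero fun z _ => ?_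
    by_cases hz : z ∈ K
    · rw [hy _ fun h => hg (by simpa using K.mul_mem hz h), mul_zero]
    · rw [hx z hz, zero_mul]
  have ha₁C : SuppIn C[P] a₁ := hsupp hf.1 hbra.1
  have ha₁fix : FixBy P a₁ := fun t ht => by rw [ha₁, map_mul, hfP t ht, hbra.2 t ht]
  have hbt : br P (tr P H a₁) = u * f := by
    rw [br_tr_self hP hPH ha₁fix, inf_normalizer_eq hH, br_eq_self ha₁C, ha₁, mul_tr hf.2,
      ← hbr, hcomm _ hf _ hmem]
  have hy : c * tr P H a₁ ∈ alg k H H :=
    mul_mem hc.mem ⟨tr_suppIn (ha₁C.mono hCH) Subgroup.le_normalizer, tr_fixBy ha₁fix⟩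
  have hbry : br P (c * tr P H a₁) = u * f := by
    rw [br_mul hP hfixP ((tr_fixBy ha₁fix).mono hPH), hbt, ← mul_assoc, huu]
  have huf : u * f * (u * f) = u * f := by
    rw [mul_assoc, ← mul_assoc f, hcomm _ hf _ hmem, mul_assoc u f f, hff, ← mul_assoc, huu]
  rcases hc.nilpotent_or_inv (alg_comm le_rfl) hy (by rw [← mul_assoc, hc.idem]) with
    ⟨n, hn⟩ | ⟨d, hd', hyd⟩
  · exfalso
    apply hfu
    have hpow : ∀ m, br P ((c * tr P H a₁) ^ m) * (u * f) = u * f := by
      intro m
      induction m with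
      | zero => rw [pow_zero, br_one, one_mul]
      | succ m ih =>
        rw [pow_succ', br_mul hP (hy.2.mono hPH) ((pow_mem hy m).2.mono hPH), mul_assoc, ih, hbry,
          huf]
    have := hpow n
    rw [hn, map_zero, zero_mul] at this
    exact this.symm
  · have h1 : u * f * br P d = u := by
      have := congrArg (br P) hyd
      rwa [br_mul hP (hy.2.mono hPH) (hd'.2.mono hPH), hbry] at this
    calc u * f = u * f * br P d * f := by rw [h1]
      _ = u * f * (f * br P d) := by
        rw [mul_assoc, alg_commute le_rfl (a := f) (b := br P d) (hf.1.mono (centralizer_le_normalizer P))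
          (fixBy_br (hd'.2.mono hH) le_rfl)]
      _ = u := by rw [← mul_assoc, mul_assoc u f f, hff, h1]

/-- Every primitive idempotent with defect `P` in the truncated algebra is the truncation of
exactly one block of `H` with defect `P`. -/
theorem existsUnique_of_prim (hH : N[P] ≤ H) {u : MonoidAlgebra k G}
    (hu : IsPrimIdem (alg k C[P] N[P]) u) (hd : IsDefect p C[P] N[P] u P) :
    ∃! c, IsBlk k H c ∧ IsDefect p H H c P ∧ br P c = u := by
  classical
  have hP : IsPGroup p P := hd.1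
  have hPH : P ≤ H := Subgroup.le_normalizer.trans hH
  have hCH := centralizer_le_of_normalizer_le hH
  obtain ⟨a, ha, hua⟩ := hd.2.2.1
  have hbra : br P (tr P H a) = u := by
    rw [br_tr_self hP hPH ha.2, inf_normalizer_eq hH, br_eq_self ha.1, ← hua]
  have hS := alg_comm (k := k) (le_refl H)
  have hcomm : ∀ x ∈ alg k C[P] N[P], ∀ y ∈ alg k C[P] N[P], x * y = y * x :=
    alg_comm (centralizer_le_normalizer P)
  have hex : ∃ c, IsBlk k H c ∧ br P c * u ≠ 0 := by
    by_contra hno
    simp only [not_exists, not_and, ne_eq, not_not] at hno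
    apply hu.ne_zero
    calc u = br P (∑ c ∈ primFinset hS, c) * u := by rw [sum_primFinset hS, br_one, one_mul]
      _ = 0 := by
        rw [map_sum, Finset.sum_mul]
        exact Finset.sum_eq_zero fun c hc => hno c ((mem_primFinset hS).mp hc)
  obtain ⟨c, hc, hcu⟩ := hex
  have hmem : br P c ∈ alg k C[P] N[P] := ⟨suppIn_br c, fixBy_br (hc.fixBy.mono hH) le_rfl⟩
  have hidem := br_idem hP hc.idem (hc.fixBy.mono hPH)
  have hcu' : br P c * u = u := by
    rw [hcomm _ hmem _ hu.mem] at hcu ⊢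
    exact hu.mul_eq_self hmem hidem hcu
  have hdef : IsDefect p H H c P := by
    refine ⟨hP, hPH, ?_, fun h0 => hcu (by rw [h0, zero_mul])⟩
    refine mem_range_tr_of_br hc le_rfl hP hPH Subgroup.le_normalizer
      (a := a) ⟨ha.1.mono hCH, ha.2⟩ hu.ne_zero hu.idem ?_
    rw [br_mul hP (hc.fixBy.mono hPH) ((tr_fixBy ha.2).mono hPH), hbra, mul_assoc, hu.idem, hcu']
  have hprim := (br_isPrimIdem hH hc hdef).1
  have heq : br P c = u := by
    rcases hprim.mul_eq_zero_or hu.mem hu.idem with h | h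
    · exact absurd h hcu
    · rw [← hcu', h]
  refine ⟨c, ⟨hc, hdef, heq⟩, fun c' ⟨hc', _, heq'⟩ => ?_⟩
  by_contra hne
  apply hu.ne_zero
  have h0 := congrArg (br P) (hc'.mul_eq_zero_of_ne hS hc hne)
  rwa [br_mul hP (hc'.fixBy.mono hPH) (hc.fixBy.mono hPH), heq, heq', hu.idem, map_zero] at h0

end CfsgLib.BrauerPairs
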