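import Cfsg.Agent.BrauerPairs.BlockSaturation

/-!
# The trace of a block of a major subgroup

If a block `bH` of a subgroup `H` and the block `b` of `G` share a defect subgroup `D` and a pair
`(D, f)`, with `C(D) ≤ H`, then `b * tr H G bH` is not nilpotent.
-/

namespace CfsgLib.BrauerPairs

open MonoidAlgebra Cfsg Cfsg.FusionSystem

variable {p : ℕ} [hp : Fact p.Prime] {k : Type*} [Field k] [hk : CharP k p]
  {G : Type*} [Group G] [Fintype G]

local notation "C[" Q "]" => Subgroup.centralizer (SetLike.coe Q)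
local notation "N[" Q "]" => Subgroup.normalizer (SetLike.coe Q)

variable {H P : Subgroup G}

/-- The truncation at a defect subgroup `P` of a block of `H ≥ C(P)` is primitive among the
elements fixed by `N_H(P)`. -/
theorem br_isPrimIdem_inf (hCH : C[P] ≤ H) {c : MonoidAlgebra k G} (hc : IsBlk k H c)
    (hd : IsDefect p H H c P) :
    IsPrimIdem (alg k C[P] (H ⊓ N[P])) (br P c) := by
  have hP : IsPGroup p P := hd.1
  have hPH : P ≤ H := hd.2.1
  set K := H ⊓ N[P] with hK
  have hKN : K ≤ N[P] := inf_le_right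
  have hPK : P ≤ K := le_inf hPH Subgroup.le_normalizer
  have hCK : C[P] ≤ K := le_inf hCH (centralizer_le_normalizer P)
  have hfixP : FixBy P c := hc.fixBy.mono hPH
  obtain ⟨a, ha, hca⟩ := hd.2.2.1
  have hbr : br P c = tr P K (br P a) := by
    rw [hca, br_tr_self hP hPH ha.2]
  set u := br P c with hu
  have hmem : u ∈ alg k C[P] K := ⟨suppIn_br c, fixBy_br (hc.fixBy.mono inf_le_left) hKN⟩
  have hbra : br P a ∈ alg k C[P] P := ⟨suppIn_br a, fixBy_br ha.2 Subgroup.le_normalizer⟩
  have huu : u * u = u := br_idem hP hc.idem hfixP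
  have hcomm : ∀ x ∈ alg k C[P] K, ∀ y ∈ alg k C[P] K, x * y = y * x := alg_comm hCK
  refine ⟨hmem, hd.2.2.2, huu, fun f hf hff => ?_⟩
  by_cases hfu : u * f = 0
  · exact Or.inl hfu
  right
  set a₁ := f * br P a with ha₁
  have hfP : FixBy P f := hf.2.mono hPK
  have hsupp : ∀ {x y : MonoidAlgebra k G} {L : Subgroup G}, SuppIn L x → SuppIn L y →
      SuppIn L (x * y) := by
    intro x y L hx hy g hg
    rw [coeff_mul]
    refine Finset.sum_eq_zero fun z _ => ?_
    by_cases hz : z ∈ L
    · rw [hy _ fun h => hg (by simpa using L.mul_mem hz h), mul_zero]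
    · rw [hx z hz, zero_mul]
  have ha₁C : SuppIn C[P] a₁ := hsupp hf.1 hbra.1
  have ha₁fix : FixBy P a₁ := fun t ht => by rw [ha₁, map_mul, hfP t ht, hbra.2 t ht]
  have hbt : br P (tr P H a₁) = u * f := by
    rw [br_tr_self hP hPH ha₁fix, br_eq_self ha₁C, ha₁, mul_tr hf.2, ← hbr, hcomm _ hf _ hmem]
  have hy : c * tr P H a₁ ∈ alg k H H :=
    mul_mem hc.mem ⟨tr_suppIn (ha₁C.mono hCH) Subgroup.le_normalizer, tr_fixBy ha₁fix⟩
  have hbry : br P (c * tr P H a₁) = u * f := by
    rw [br_mul hP hfixP ((tr_fixBy ha₁fix).mono hPH), hbt, ← mul_assoc, huu]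
  have huf : u * f * (u * f) = u * f := by
    rw [mul_assoc, ← mul_assoc f, hcomm _ hf _ hmem, mul_assoc u f f, hff, ← mul_assoc, huu]
  rcases hc.nilpotent_or_inv (alg_comm le_rfl) hy (by rw [← mul_assoc, hc.idem]) with
    ⟨n, hn⟩ | ⟨d, hd', hyd⟩
  · exfalso
    apply hfu
    have hpow : ∀ m, br P ((c * tr P H a₁) ^ m) * (u * f) = u * f := by
      intro m
      induction m with
      | zero => rw [pow_zero, br_one, one_mul]
      | succ m ih =>
        rw [pow_succ', br_mul hP (hy.2.mono hPH) ((pow_mem hy m).2.mono hPH), mul_assoc, ih, hbry,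
          huf]
    have := hpow n
    rw [hn, map_zero, zero_mul] at this
    exact this.symm
  · have h1 : u * f * br P d = u := by
      have := congrArg (br P) hyd
      rwa [br_mul hP (hy.2.mono hPH) (hd'.2.mono hPH), hbry] at this
    calc u * f = u * f * br P d * f := by rw [h1]
      _ = u * f * (f * br P d) := by
        rw [mul_assoc, alg_commute le_rfl (a := f) (b := br P d) (hf.1.mono hCK)
          (fixBy_br (hd'.2.mono inf_le_left) hKN)]
      _ = u := by rw [← mul_assoc, mul_assoc u f f, hff, h1]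

omit hk in
/-- The subgroup of a maximal pair is a defect subgroup of its block in the stabilizer. -/
theorem isDefMax_stab_of_isMaxPair {b f : MonoidAlgebra k G} [CharP k p] (hb : IsBlk k ⊤ b)
    {D : Subgroup G} (hmax : IsMaxPair p b (D, f)) : IsDefMax p (stab D f) f D := by
  have hP : IsPair p (D, f) := hmax.1.1
  have h : (blockSystem hP).IsFullyNormalized D := by
    refine ⟨le_rfl, fun R hR => ?_⟩
    obtain ⟨g, hg, rfl⟩ := (isConj_iff_carries hP).mp hR
    have h1 : Nat.card (normalizerIn D (D.map (MulAut.conj g).toMonoidHom)) ≤ Nat.card D :=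
      Subgroup.card_le_of_le inf_le_left
    refine h1.trans (Nat.le_of_eq ?_)
    rw [normalizerIn, inf_eq_left.mpr Subgroup.le_normalizer]
  have := (fullyNormalized_iff hP hb hmax Relation.ReflTransGen.refl).mp h
  rwa [inf_eq_left.mpr Subgroup.le_normalizer] at this

/-- The trace of a block of a major subgroup is not nilpotent below the block. -/
theorem trace_mul_not_nilpotent {b bH f : MonoidAlgebra k G} (hb : IsBlk k ⊤ b)
    (hbH : IsBlk k H bH) {D : Subgroup G} (hmax : IsMaxPair p b (D, f))
    (hsplit : IsSplit C[D] f) (hCH : C[D] ≤ H) (hd : IsDefect p H H bH D)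
    (hf : br D bH * f = f) : ¬ IsNilpotent (b * tr H ⊤ bH) := by
  classical
  have hP : IsPair p (D, f) := hmax.1.1
  have hD : IsPGroup p D := hP.1
  have hDH : D ≤ H := hd.2.1
  set N := N[D] with hN
  set K := H ⊓ N with hK
  set T := stab D f with hT
  set c := br D bH with hc
  have hprim := br_isPrimIdem_inf hCH hbH hd
  have hCN : C[D] ≤ N := centralizer_le_normalizer D
  have hCK : C[D] ≤ K := le_inf hCH hCN
  have hKN : K ≤ N := inf_le_right
  -- the truncation of the trace
  obtain ⟨a, ha, hba⟩ := hd.2.2.1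
  have hbra : FixBy D (br D a) := fixBy_br ha.2 Subgroup.le_normalizer
  have hE : br D (tr H ⊤ bH) = tr K N c := by
    rw [hc, hba, tr_trans hDH le_top ha.2, br_tr_self hD le_top ha.2, top_inf_eq,
      br_tr_self hD hDH ha.2, tr_trans (le_inf hDH Subgroup.le_normalizer) hKN hbra]
  haveI : Fintype (N ⧸ K.subgroupOf N) := Fintype.ofFinite _
  have hfC : f ∈ alg k C[D] C[D] := hP.2.mem
  have hcC : c ∈ alg k C[D] C[D] := alg_mono le_rfl hCK hprim.mem
  have hS := alg_comm (k := k) (le_refl C[D])
  -- each translate fixes or kills `f`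
  set s := Finset.univ.filter fun q : N ⧸ K.subgroupOf N =>
    f * cj k ((q.out : N) : G) c = f with hs
  have hterm : ∀ q : N ⧸ K.subgroupOf N,
      f * cj k ((q.out : N) : G) c = if q ∈ s then f else 0 := by
    intro q
    split_ifs with hq
    · exact (Finset.mem_filter.mp hq).2
    · have hmem : cj k ((q.out : N) : G) c ∈ alg k C[D] C[D] := by
        have := cj_mem_alg hcC ((q.out : N) : G)
        rwa [map_conj_eq_self (map_normalizer_centralizer (q.out).2)] at this
      rcases hP.2.mul_eq_zero_or hmem (by rw [← map_mul, hprim.idem]) with h | h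
      · exact h
      · exact absurd (Finset.mem_filter.mpr ⟨Finset.mem_univ q, h⟩) hq
  have hfE : f * br D (tr H ⊤ bH) = (s.card : k) • f := by
    rw [hE, tr_apply, Finset.mul_sum, Finset.sum_congr rfl fun q _ => hterm q, Finset.sum_ite_mem,
      Finset.univ_inter, Finset.sum_const, ← Nat.cast_smul_eq_nsmul k]
  -- the orbit of `f` under `K` sums to `c`
  set o := (Finset.univ.filter fun x : G => x ∈ K).image fun x => cj k x f with ho
  have hoblk : ∀ u ∈ o, IsBlk k C[D] u ∧ c * u = u := by
    intro u hu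
    obtain ⟨x, hx, rfl⟩ := Finset.mem_image.mp hu
    have hxK := (Finset.mem_filter.mp hx).2
    refine ⟨hP.2.cj_of_mem (map_normalizer_centralizer (hKN hxK)), ?_⟩
    have h1 := congrArg (cj k x) hf
    rwa [map_mul, hprim.mem.2 x hxK] at h1
  set S := ∑ u ∈ o, u with hSdef
  have hSfix : FixBy K S := by
    intro y hy
    rw [hSdef, map_sum]
    refine Finset.sum_nbij' (fun u => cj k y u) (fun u => cj k y⁻¹ u) ?_ ?_ ?_ ?_ fun _ _ => rfl
    · intro u hu
      obtain ⟨x, hx, rfl⟩ := Finset.mem_image.mp hu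
      exact Finset.mem_image.mpr ⟨y * x, by simpa using K.mul_mem hy (Finset.mem_filter.mp hx).2,
        cj_mul y x f⟩
    · intro u hu
      obtain ⟨x, hx, rfl⟩ := Finset.mem_image.mp hu
      exact Finset.mem_image.mpr
        ⟨y⁻¹ * x, by simpa using K.mul_mem (K.inv_mem hy) (Finset.mem_filter.mp hx).2,
          cj_mul y⁻¹ x f⟩
    · exact fun u _ => cj_inv_cj y u
    · exact fun u _ => cj_cj_inv y u
  have huS : ∀ u ∈ o, u * S = u := fun u hu => by
    rw [hSdef, Finset.mul_sum, Finset.sum_eq_single_of_mem u hu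
      fun v hv hvu => (hoblk u hu).1.mul_eq_zero_of_ne hS (hoblk v hv).1 hvu.symm]
    exact (hoblk u hu).1.idem
  have hSmem : S ∈ alg k C[D] K :=
    ⟨suppIn_sum _ _ fun u hu => (hoblk u hu).1.suppIn, hSfix⟩
  have hSS : S * S = S := by
    conv_lhs => arg 1; rw [hSdef]
    rw [Finset.sum_mul, hSdef]
    exact Finset.sum_congr rfl huS
  have hfo : f ∈ o := Finset.mem_image.mpr ⟨1, by simp, cj_one f⟩
  have hcS : c * S = S := by
    rw [hSdef, Finset.mul_sum]; exact Finset.sum_congr rfl fun u hu => (hoblk u hu).2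
  have hcS' : S = c := by
    rcases hprim.mul_eq_zero_or hSmem hSS with h | h
    · exact absurd (by rw [← huS f hfo, ← hcS, h, mul_zero]) hP.2.ne_zero
    · rw [← hcS, h]
  -- the translates fixing `f` form the orbit of the stabilizer
  have hTN : T ≤ N := stab_le_normalizer
  let φ : T → N ⧸ K.subgroupOf N := fun t => ((Subgroup.inclusion hTN t : N) : N ⧸ K.subgroupOf N)
  have himg : ∀ q : N ⧸ K.subgroupOf N, q ∈ s ↔ ∃ t : T, φ t = q := by
    intro q
    simp only [hs, Finset.mem_filter, Finset.mem_univ, true_and]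
    constructor
    · intro hq
      have hne : cj k ((q.out : N) : G)⁻¹ f * S ≠ 0 := by
        rw [hcS']
        intro h0
        have := congrArg (cj k ((q.out : N) : G)) h0
        rw [map_mul, cj_cj_inv, map_zero, hq] at this
        exact hP.2.ne_zero this
      rw [hSdef, Finset.mul_sum] at hne
      obtain ⟨u, hu, hu0⟩ := Finset.exists_ne_zero_of_sum_ne_zero hne
      have hblk : IsBlk k C[D] (cj k ((q.out : N) : G)⁻¹ f) :=
        hP.2.cj_of_mem (map_normalizer_centralizer (N.inv_mem (q.out).2))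
      have heq : cj k ((q.out : N) : G)⁻¹ f = u := by
        by_contra hne'
        exact hu0 (hblk.mul_eq_zero_of_ne hS (hoblk u hu).1 hne')
      obtain ⟨x, hx, rfl⟩ := Finset.mem_image.mp hu
      have hxK : x ∈ K := (Finset.mem_filter.mp hx).2
      have hmem : ((q.out : N) : G) * x ∈ T := by
        refine ⟨mul_mem (q.out).2 (hKN hxK), ?_⟩
        rw [cj_mul, ← heq, cj_cj_inv]
      refine ⟨⟨_, hmem⟩, ?_⟩
      conv_rhs => rw [← QuotientGroup.out_eq' q]
      refine QuotientGroup.eq.mpr ?_
      rw [Subgroup.mem_subgroupOf]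
      simpa using K.inv_mem hxK
    · rintro ⟨t, rfl⟩
      have h1 : cj k (((φ t).out : N) : G) c = cj k (t : G) c := by
        have := cj_rep (hprim.mem.2) (t := Subgroup.inclusion hTN t) (q := φ t) rfl
        simpa using this.symm
      have hcf : f * c = f := by rw [hS _ hfC _ hcC]; exact hf
      rw [h1]
      conv_lhs => rw [← t.2.2]
      rw [← map_mul, hcf]
      exact t.2.2
  have hcard : s.card ∣ (D ⊔ C[D]).relIndex T := by
    have hle : D ⊔ C[D] ≤ K ⊓ T :=
      sup_le (le_inf (le_inf hDH Subgroup.le_normalizer) (le_stab hP))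
        (le_inf hCK (centralizer_le_stab hP))
    refine dvd_trans ?_ (Dvd.intro_left _ (Subgroup.relIndex_mul_relIndex _ _ T hle inf_le_right))
    rw [Subgroup.inf_relIndex_right]
    refine dvd_of_eq ?_
    have hbij : Nat.card (T ⧸ K.subgroupOf T) = Nat.card {q : N ⧸ K.subgroupOf N // q ∈ s} := by
      refine Nat.card_congr (Equiv.ofBijective
        (fun r => ⟨φ r.out, (himg _).mpr ⟨r.out, rfl⟩⟩) ⟨fun r r' h => ?_, fun q => ?_⟩)
      · have h' := QuotientGroup.eq.mp (congrArg Subtype.val h)
        rw [← QuotientGroup.out_eq' r, ← QuotientGroup.out_eq' r']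
        refine QuotientGroup.eq.mpr ?_
        rw [Subgroup.mem_subgroupOf] at h' ⊢
        simpa using h'
      · obtain ⟨t, ht⟩ := (himg q.1).mp q.2
        refine ⟨(t : T ⧸ K.subgroupOf T), Subtype.ext (Eq.trans ?_ ht)⟩
        refine QuotientGroup.eq.mpr ?_
        have h2 : ((t : T ⧸ K.subgroupOf T).out)⁻¹ * t ∈ K.subgroupOf T := by
          rw [← QuotientGroup.eq, QuotientGroup.out_eq']
        rw [Subgroup.mem_subgroupOf] at h2 ⊢
        simpa using h2
    rw [Subgroup.relIndex, Subgroup.index_eq_card, hbij, Nat.card_eq_fintype_card,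
      Fintype.card_coe]
  have hdefT := (isDefect_iff_isDefMax (prim_stab hP) (centralizer_le_stab hP)
    stab_le_normalizer_centralizer).mpr (isDefMax_stab_of_isMaxPair hb hmax)
  have hm0 : (s.card : k) ≠ 0 := by
    rw [Ne, CharP.cast_eq_zero_iff k p]
    exact fun h => not_dvd_relIndex hP.2 fixBy_stab (centralizer_le_stab hP)
      stab_le_normalizer_centralizer hsplit hdefT (h.trans hcard)
  -- a nilpotent element has nilpotent truncation
  rintro ⟨n, hn⟩
  set y := b * tr H ⊤ bH with hy
  have hbfix : FixBy D b := hb.fixBy.mono le_top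
  have hEfix : FixBy D (tr H ⊤ bH) := (tr_fixBy hbH.fixBy).mono le_top
  have hyfix : FixBy D y := fun t ht => by rw [hy, map_mul, hbfix t ht, hEfix t ht]
  have hyf : f * br D y = (s.card : k) • f := by
    have hbrb : br D b ∈ alg k C[D] C[D] :=
      ⟨suppIn_br b, fixBy_br (hb.fixBy.mono le_top) hCN⟩
    rw [hy, br_mul hD hbfix hEfix, ← mul_assoc, hS _ hfC _ hbrb,
      show br D b * f = f from hmax.1.2, hfE]
  have hpow : ∀ j, f * br D (y ^ j) = ((s.card : k) ^ j) • f := by
    intro j
    induction j with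
    | zero => rw [pow_zero, br_one, mul_one, pow_zero, one_smul]
    | succ j ih =>
      have hfixj : FixBy D (y ^ j) := fun t ht => by rw [map_pow, hyfix t ht]
      rw [pow_succ, br_mul hD hfixj hyfix, ← mul_assoc, ih, smul_mul_assoc, hyf, smul_smul,
        pow_succ]
  have := hpow n
  rw [hn, map_zero, mul_zero] at this
  exact hP.2.ne_zero ((smul_eq_zero.mp this.symm).resolve_left (pow_ne_zero n hm0))

end CfsgLib.BrauerPairs
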