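import Cfsg.Agent.BrauerPairs.LocalBridge

/-!
# The block of a Brauer pair on a normal `p`-subgroup
-/

namespace CfsgLib.BrauerPairs

open Cfsg CfsgLib.Block CfsgLib.Block.Chr
open scoped ComplexConjugate

universe u

variable {G : Type u} [Group G] [Fintype G] {M : Ideal AlgInt} [M.IsPrime] {p : ℕ}

/-- An integral idempotent class function with the reduction of a block is the block's
idempotent. -/
theorem eq_blockCoeff_of_idem {B : Set (IrrCharacter G)} (hB : IsPBlock M B) {θ : G → ℂ}
    (hθ : IsIntClass M θ) (hconv : conv θ θ = θ) (hred : redFun M θ = idem M B) :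
    θ = blockCoeff B := by
  classical
  letI := irrFintype (G := G)
  funext t
  rw [eq_sum_omega (isClassFunction_blockCoeff B) t, eq_sum_omega hθ.1 t]
  congr 1
  refine Finset.sum_congr rfl fun χ _ => ?_
  have h2 : omega (χ : G → ℂ) θ * omega (χ : G → ℂ) θ = omega (χ : G → ℂ) θ := by
    rw [← omega_conv χ hθ.1, hconv]
  have hl := lam_idem hB χ
  rw [← hred, lam_redFun χ hθ] at hl
  rw [omega_blockCoeff]
  rcases eq_or_ne (omega (χ : G → ℂ) θ) 0 with h0 | h0
  · rw [h0, red_zero] at hl
    rw [h0]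
    split_ifs at hl ⊢ with hχ
    · exact absurd hl zero_ne_one
    · rfl
  · have h1 : omega (χ : G → ℂ) θ = 1 := mul_left_cancel₀ h0 (by rw [h2, mul_one])
    rw [h1, red_one] at hl
    rw [h1]
    split_ifs at hl ⊢ with hχ
    · rfl
    · exact absurd hl one_ne_zero

/-- A set of characters of `H` with integral idempotent. -/
theorem lam_redFun_blockCoeff {U : Set (IrrCharacter G)}
    (hU : ∀ g, MemLocalRing M (blockCoeff U g)) (χ : IrrCharacter G) [Decidable (χ ∈ U)] :
    lam χ (redFun M (blockCoeff U)) = if χ ∈ U then 1 else 0 := by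
  rw [lam_redFun χ ⟨isClassFunction_blockCoeff U, hU⟩, omega_blockCoeff, apply_ite (red M),
    red_one, red_zero]

/-- The idempotent of the block covering a block of a normal subgroup carrying it is the average
of the conjugates. -/
theorem blockCoeff_eq_average_aux (hM : IsPModular p M) {C : Subgroup G} [C.Normal]
    {B : Set (IrrCharacter G)} (hB : IsPBlock M B)
    {e : Set (IrrCharacter C)} (he : IsPBlock M e) (hbC : SuppIn C (idem M B))
    (hbe : idem M B * idemIn M C e = idemIn M C e) {T : Subgroup G}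
    (hT : ∀ x : G, x ∈ T ↔ StabilizesBlock C e x) (g : G) :
    blockCoeff B g = (Nat.card T : ℂ)⁻¹ * ∑ x : G, subgroupBlockCoeff C e (x⁻¹ * g * x) := by
  classical
  haveI := Fintype.ofFinite C
  haveI := Fintype.ofFinite T
  letI := irrFintype (G := C)
  have hxC : ∀ x h : G, h ∈ C ↔ x * h * x⁻¹ ∈ C := fun x h =>
    ⟨fun hh => Subgroup.Normal.conj_mem ‹_› h hh x,
      fun hh => by simpa [mul_assoc] using Subgroup.Normal.conj_mem ‹_› _ hh x⁻¹⟩
  let conjOf : G → Set (IrrCharacter C) := fun x => mapSet (conjEquiv (hxC x)) e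
  have hconjB : ∀ x, IsPBlock M (conjOf x) := fun x => isPBlock_mapSet _ he
  have hstab : ∀ x, x ∈ T ↔ cj (Residue M) x (idemIn M C e) = idemIn M C e := fun x => by
    rw [hT, stabilizesBlock_iff hM he]
    exact and_iff_right (Subgroup.mem_normalizer_iff.mpr (hxC x))
  have hconjT : ∀ x y, conjOf y = conjOf x ↔ x⁻¹ * y ∈ T := by
    intro x y
    have hxy : cj (Residue M) (x⁻¹ * y) (idemIn M C e) = idemIn M C e ↔
        idemIn M C (conjOf y) = idemIn M C (conjOf x) := by
      rw [idemIn_conj, idemIn_conj, cj_mul]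
      exact ⟨fun h => by conv_rhs => rw [← h, cj_cj_inv], fun h => by rw [h, cj_inv_cj]⟩
    rw [hstab, hxy]
    exact ⟨fun h => by rw [h], fun h => idemIn_injective (hconjB y) (hconjB x) h⟩
  let θ : G → ℂ := fun g => (Nat.card T : ℂ)⁻¹ * ∑ x : G, subgroupBlockCoeff C e (x⁻¹ * g * x)
  let U : Set (IrrCharacter C) := {ξ | ∃ x, ξ ∈ conjOf x}
  have hTne : (Nat.card T : ℂ) ≠ 0 := Nat.cast_ne_zero.mpr Nat.card_pos.ne'
  have hθU : ∀ c : C, θ c = blockCoeff U c := by
    intro c
    have h1 : ∀ x : G, subgroupBlockCoeff C e (x⁻¹ * (c : G) * x) = blockCoeff (conjOf x) c := by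
      intro x
      rw [← subgroupBlockCoeff_conj (hxC x) e (c : G), subgroupBlockCoeff_coe]
    show (Nat.card T : ℂ)⁻¹ * ∑ x : G, subgroupBlockCoeff C e (x⁻¹ * (c : G) * x) = _
    simp only [h1, blockCoeff_eq_sum, Finset.sum_filter]
    rw [← Finset.mul_sum, Finset.sum_comm, mul_left_comm]
    congr 1
    rw [Finset.mul_sum]
    refine Finset.sum_congr rfl fun ξ _ => ?_
    by_cases hξ : ξ ∈ U
    · obtain ⟨x₀, hx₀⟩ := hξ
      rw [if_pos (show ξ ∈ U from ⟨x₀, hx₀⟩)]
      have hset : (Finset.univ.filter fun x : G => ξ ∈ conjOf x) =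
          Finset.univ.map ⟨fun t : T => x₀ * (t : G), (mul_right_injective x₀).comp Subtype.val_injective⟩ := by
        ext x
        simp only [Finset.mem_filter, Finset.mem_univ, true_and, Finset.mem_map,
          Function.Embedding.coeFn_mk]
        constructor
        · intro hx
          exact ⟨⟨x₀⁻¹ * x, (hconjT x₀ x).mp (block_eq_of_common (hconjB x) (hconjB x₀) hx hx₀)⟩,
            by simp⟩
        · rintro ⟨t, rfl⟩
          rw [(hconjT x₀ (x₀ * t)).mpr (by simp)]
          exact hx₀
      rw [← Finset.sum_filter, Finset.sum_const, hset, Finset.card_map, Finset.card_univ,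
        nsmul_eq_mul, ← Nat.card_eq_fintype_card, inv_mul_cancel_left₀ hTne]
    · rw [if_neg hξ, Finset.sum_eq_zero fun x _ => if_neg (show ξ ∉ conjOf x from fun h => hξ ⟨x, h⟩),
        mul_zero]
  have hθ0 : ∀ g, g ∉ C → θ g = 0 := fun g hg => by
    show (Nat.card T : ℂ)⁻¹ * _ = 0
    rw [Finset.sum_eq_zero fun x _ => ?_, mul_zero]
    exact subgroupBlockCoeff_not_mem e fun h => hg (by
      have := (hxC x (x⁻¹ * g * x)).mp h
      simpa [mul_assoc] using this)
  have hθint : ∀ g, MemLocalRing M (θ g) := by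
    intro g
    have hx : ∀ (x : G) (t : T), subgroupBlockCoeff C e ((x * t)⁻¹ * g * (x * t)) =
        subgroupBlockCoeff C e (x⁻¹ * g * x) := by
      intro x t
      have hmap : mapSet (conjEquiv (hxC ((t : G)⁻¹))) e = e := by
        refine idemIn_injective (hconjB _) he ?_
        rw [idemIn_conj]
        exact (hstab _).mp (inv_mem t.2)
      have := subgroupBlockCoeff_conj (hxC ((t : G)⁻¹)) e ((x * t)⁻¹ * g * (x * t))
      rw [hmap] at this
      rw [this]
      congr 1
      group
    haveI := Fintype.ofFinite (G ⧸ T)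
    have hsum : ∑ x : G, subgroupBlockCoeff C e (x⁻¹ * g * x) = (Nat.card T : ℂ) *
        ∑ q : G ⧸ T, subgroupBlockCoeff C e (q.out⁻¹ * g * q.out) := by
      rw [Finset.mul_sum, ← Finset.sum_fiberwise Finset.univ (QuotientGroup.mk : G → G ⧸ T)]
      refine Finset.sum_congr rfl fun q _ => ?_
      have hset : (Finset.univ.filter fun x : G => (QuotientGroup.mk x : G ⧸ T) = q) =
          Finset.univ.map ⟨fun t : T => q.out * (t : G), (mul_right_injective q.out).comp Subtype.val_injective⟩ := by
        ext x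
        simp only [Finset.mem_filter, Finset.mem_univ, true_and, Finset.mem_map,
          Function.Embedding.coeFn_mk]
        constructor
        · intro hx
          refine ⟨⟨q.out⁻¹ * x, QuotientGroup.eq.mp (hx ▸ QuotientGroup.out_eq' q)⟩, by simp⟩
        · rintro ⟨t, rfl⟩
          rw [QuotientGroup.mk_mul_of_mem q.out t.2, QuotientGroup.out_eq']
      rw [hset, Finset.sum_map]
      simp only [Function.Embedding.coeFn_mk]
      rw [Finset.sum_congr rfl fun t _ => hx q.out t, Finset.sum_const,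
        Finset.card_univ, nsmul_eq_mul, Nat.card_eq_fintype_card]
    show MemLocalRing M ((Nat.card T : ℂ)⁻¹ * _)
    rw [hsum, inv_mul_cancel_left₀ hTne]
    exact memLocalRing_sum fun q _ => memLocalRing_subgroupBlockCoeff he _
  have hθcl : IsClassFunction G θ := by
    intro g y
    show (Nat.card T : ℂ)⁻¹ * _ = (Nat.card T : ℂ)⁻¹ * _
    congr 1
    exact Fintype.sum_equiv (Equiv.mulLeft y⁻¹) _ _ fun x => by
      simp only [Equiv.coe_mulLeft]
      congr 1
      group
  have hconv : conv θ θ = θ := by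
    funext x
    show ∑ g : G, θ g * θ (g⁻¹ * x) = θ x
    rw [← Finset.sum_subset (Finset.subset_univ (Finset.univ.map
      (Function.Embedding.subtype (· ∈ C))))]
    · rw [Finset.sum_map]
      by_cases hx : x ∈ C
      · calc ∑ c : C, θ c * θ ((c : G)⁻¹ * x)
            = ∑ c : C, blockCoeff U c * blockCoeff U (c⁻¹ * ⟨x, hx⟩) :=
              Finset.sum_congr rfl fun c _ => by rw [← hθU, ← hθU]; rfl
          _ = conv (blockCoeff U) (blockCoeff U) ⟨x, hx⟩ := rfl
          _ = blockCoeff U ⟨x, hx⟩ := congrFun (conv_blockCoeff_self U) ⟨x, hx⟩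
          _ = θ x := (hθU ⟨x, hx⟩).symm
      · rw [hθ0 x hx]
        refine Finset.sum_eq_zero fun c _ => ?_
        refine mul_eq_zero_of_right (θ (c : G)) (hθ0 ((c : G)⁻¹ * x) fun h => hx ?_)
        simpa using C.mul_mem c.2 h
    · intro g _ hg
      rw [hθ0 g fun h => hg (Finset.mem_map.mpr ⟨⟨g, h⟩, Finset.mem_univ _, rfl⟩), zero_mul]
  -- the reduction is the idempotent of `B`
  have hUint : ∀ c : C, MemLocalRing M (blockCoeff U c) := fun c => hθU c ▸ hθint c
  have hs : redFun M θ = emb C (redFun M (blockCoeff U)) := by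
    refine coeff_ext fun g => ?_
    by_cases hg : g ∈ C
    · obtain ⟨g, rfl⟩ : ∃ g' : C, (g' : G) = g := ⟨⟨g, hg⟩, rfl⟩
      rw [coeff_redFun, coeff_emb_coe, coeff_redFun, hθU]
    · rw [coeff_redFun, coeff_emb_not_mem C _ hg, hθ0 g hg, red_zero]
  have hθic : IsIntClass M θ := ⟨hθcl, hθint⟩
  set s := redFun M θ with hsdef
  set b := idem M B with hbdef
  have hb := isBlk_idem hM hB
  have hss : s * s = s := by rw [hsdef, ← redFun_conv hθint hθint, hconv]
  have hbconj : ∀ x, b * idemIn M C (conjOf x) = idemIn M C (conjOf x) := by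
    intro x
    rw [idemIn_conj]
    have := congrArg (cj (Residue M) x) hbe
    rwa [map_mul, hb.fixBy x (Subgroup.mem_top x)] at this
  have hbmem : b ∈ alg (Residue M) C C := ⟨hbC, hb.fixBy.mono le_top⟩
  set b' := restr C b with hb'
  have hb'm : b' ∈ alg (Residue M) (⊤ : Subgroup C) ⊤ := restr_mem C hbmem
  have hb'b : emb C b' = b := emb_restr C hbC
  have hb'i : b' * b' = b' := emb_injective C (by rw [map_mul, hb'b, hb.idem])
  have hlamb : ∀ ξ ∈ U, lam ξ b' = 1 := by
    rintro ξ ⟨x, hx⟩
    refine (mul_idem_eq_iff hM (hconjB x) hb'm hb'i).mp (emb_injective C ?_) ξ hx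
    rw [map_mul, hb'b, ← idemIn_eq, hbconj x]
  set s' := redFun M (blockCoeff U) with hs'
  have hs'm : s' ∈ alg (Residue M) (⊤ : Subgroup C) ⊤ :=
    redFun_mem (isClassFunction_blockCoeff U)
  have hs'i : s' * s' = s' := emb_injective C (by rw [map_mul, ← hs, hss])
  have hsb : s * b = s := by
    rw [hs, ← hb'b, ← map_mul]
    congr 1
    refine eq_of_lam hM (mul_mem hs'm hb'm) ?_ hs'm hs'i fun ξ => ?_
    · rw [mul_assoc, ← mul_assoc b', alg_commute le_rfl hb'm.1 hs'm.2, mul_assoc s', hb'i,
        ← mul_assoc, hs'i]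
    · rw [lam_mul ξ hs'm hb'm]
      rw [hs', lam_redFun_blockCoeff hUint]
      split_ifs with h
      · rw [one_mul, hlamb ξ h]
      · rw [zero_mul]
  have hs_ne : s ≠ 0 := by
    intro h0
    obtain ⟨ξ, hξ⟩ := exists_mem_block he
    have h1 : ξ ∈ U := ⟨1, by
      refine ⟨ξ, hξ, Subtype.ext (funext fun c => ?_)⟩
      have hc : (conjEquiv (hxC 1)).symm c = c :=
        Subtype.ext (show (1 : G)⁻¹ * (c : G) * 1 = c by group)
      rw [mapChar_apply, hc]⟩
    have h2 : s' = 0 := emb_injective C (by rw [← hs, h0, map_zero])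
    have := lam_redFun_blockCoeff hUint ξ
    rw [← hs', h2, lam_zero, if_pos h1] at this
    exact zero_ne_one this
  have hsB : s = b := by
    have hc : b * s = s := by
      rw [alg_commute le_rfl hb.mem.1 (redFun_mem hθcl).2]; exact hsb
    rcases hb.mul_eq_zero_or (redFun_mem hθcl) hss with h | h
    · exact absurd (hc.symm.trans h) hs_ne
    · exact hc.symm.trans h
  exact (congrFun (eq_blockCoeff_of_idem hB hθic hconv hsB) g).symm

theorem blockCoeff_eq_average [hp : Fact p.Prime] (hM : IsPModular p M) {P : Subgroup G}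
    [P.Normal] (hP : IsPGroup p P) {B : Set (IrrCharacter G)}
    {e : Set (IrrCharacter (Subgroup.centralizer (P : Set G)))}
    (hBe : IsBrauerPairOf p M B P e) {T : Subgroup G}
    (hT : ∀ x : G, x ∈ T ↔ StabilizesBlock (Subgroup.centralizer (P : Set G)) e x) (g : G) :
    blockCoeff B g = (Nat.card T : ℂ)⁻¹ *
      ∑ x : G, subgroupBlockCoeff (Subgroup.centralizer (P : Set G)) e (x⁻¹ * g * x) := by
  haveI := charP_residue hM
  obtain ⟨⟨-, he⟩, hB, hpair⟩ := (isBrauerPairOf_iff hM).mp hBe
  haveI : (Subgroup.centralizer (P : Set G)).Normal := by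
    rw [← Subgroup.normalizer_eq_top_iff, eq_top_iff]
    exact (Subgroup.normalizer_eq_top (P : Subgroup G)).ge.trans map_normalizer_centralizer
  have hb := isBlk_idem hM hB
  have hbP : br P (idem M B) = idem M B := br_eq_self_of_idem hP le_top
    (by rw [Subgroup.normalizer_eq_top]) hb.mem hb.idem
  refine blockCoeff_eq_average_aux hM hB he (hbP ▸ suppIn_br _) ?_ hT g
  have h2 := hpair.2
  simp only [toPair, hbP] at h2
  exact h2

end CfsgLib.BrauerPairs
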