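import Cfsg.Agent.BrauerPairs.CoverDefect
import Cfsg.Agent.Blocks.TraceFormula

/-!
# Every character of a covered block lies under the covering block
-/

set_option autoImplicit false
set_option linter.style.haveILetI false
set_option linter.unusedSectionVars false

namespace CfsgLib.BrauerPairs

open Cfsg CfsgLib.Block CfsgLib.Block.Chr CfsgLib.Char MonoidAlgebra

universe u

variable {G : Type u} [Group G] [Fintype G]

theorem convolution_assoc (u v w : G → ℂ) : conv (conv u v) w = conv u (conv v w) := by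
  funext x
  simp only [conv, Finset.sum_mul, Finset.mul_sum]
  rw [Finset.sum_comm]
  refine Finset.sum_congr rfl fun g _ => ?_
  rw [← Equiv.sum_comp (Equiv.mulLeft g)]
  simp [mul_assoc]

theorem zero_convolution (v : G → ℂ) : conv (0 : G → ℂ) v = 0 :=
  funext fun _ => Finset.sum_eq_zero fun _ _ => zero_mul _

theorem convolution_zero (v : G → ℂ) : conv v (0 : G → ℂ) = 0 :=
  funext fun _ => Finset.sum_eq_zero fun _ _ => mul_zero _

theorem blockCoeff_convolution_of_subset {U V : Set (IrrCharacter G)} (h : V ⊆ U) :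
    conv (blockCoeff U) (blockCoeff V) = blockCoeff V := by
  classical
  letI := irrFintype (G := G)
  funext g
  rw [eq_sum_omega (isClassFunction_conv (isClassFunction_blockCoeff U)
    (isClassFunction_blockCoeff V)) g, eq_sum_omega (isClassFunction_blockCoeff V) g]
  congr 1
  refine Finset.sum_congr rfl fun χ _ => ?_
  rw [omega_conv χ (isClassFunction_blockCoeff U), omega_blockCoeff, omega_blockCoeff]
  by_cases hV : χ ∈ V
  · simp [hV, h hV]
  · simp [hV]

variable {N : Subgroup G} [hN : N.Normal] [Fintype N]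

theorem convolution_of_supp {a b : G → ℂ} (ha : ∀ g, g ∉ N → a g = 0)
    (hb : ∀ g, g ∉ N → b g = 0) :
    (∀ g, g ∉ N → conv a b g = 0) ∧
      resFun N (conv a b) = conv (resFun N a) (resFun N b) := by
  refine ⟨fun g hg => Finset.sum_eq_zero fun x _ => ?_, funext fun n => ?_⟩
  · by_cases hx : x ∈ N
    · rw [hb _ fun h => hg (by simpa using N.mul_mem hx h), mul_zero]
    · rw [ha x hx, zero_mul]
  · show conv a b (n : G) = _
    rw [conv, sum_eq_sum_subgroup N _ fun g hg => by rw [ha g hg, zero_mul]]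
    rfl

theorem eq_of_resFun {a b : G → ℂ} (ha : ∀ g, g ∉ N → a g = 0) (hb : ∀ g, g ∉ N → b g = 0)
    (h : resFun N a = resFun N b) : a = b := by
  funext g
  by_cases hg : g ∈ N
  · exact congrFun h ⟨g, hg⟩
  · rw [ha g hg, hb g hg]

theorem resFun_subgroupBlockCoeff (U : Set (IrrCharacter N)) :
    resFun N (subgroupBlockCoeff N U) = blockCoeff U :=
  funext (subgroupBlockCoeff_coe U)

theorem subgroupBlockCoeff_convolution {U V : Set (IrrCharacter N)} (h : V ⊆ U) :
    conv (subgroupBlockCoeff N U) (subgroupBlockCoeff N V) = subgroupBlockCoeff N V := by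
  have hs := fun (W : Set (IrrCharacter N)) g (hg : g ∉ N) => subgroupBlockCoeff_not_mem W hg
  obtain ⟨h1, h2⟩ := convolution_of_supp (hs U) (hs V)
  refine eq_of_resFun h1 (hs V) ?_
  rw [h2, resFun_subgroupBlockCoeff, resFun_subgroupBlockCoeff, blockCoeff_convolution_of_subset h]

theorem isClassFunction_coverFun' (U : Set (IrrCharacter N)) :
    IsClassFunction G (coverFun (G := G) U) := by
  classical
  letI := irrFintype (G := N)
  intro g x
  by_cases hg : g ∈ N
  · rw [coverFun, coverFun, dif_pos hg, dif_pos (hN.conj_mem g hg x), blockCoeff_eq_sum,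
      blockCoeff_eq_sum]
    congr 1
    refine Finset.sum_bij' (fun φ _ => conjIrr x φ) (fun φ _ => conjIrr x⁻¹ φ) (fun φ hφ => ?_)
      (fun φ hφ => ?_) (fun φ _ => ?_) (fun φ _ => ?_) (fun φ _ => ?_)
    · obtain ⟨c, η, hη, rfl⟩ := (Finset.mem_filter.1 hφ).2
      exact Finset.mem_filter.2 ⟨Finset.mem_univ _, c * x, η, hη, Subtype.ext (conjOn_conjOn c x _)⟩
    · obtain ⟨c, η, hη, rfl⟩ := (Finset.mem_filter.1 hφ).2
      exact Finset.mem_filter.2
        ⟨Finset.mem_univ _, c * x⁻¹, η, hη, Subtype.ext (conjOn_conjOn c x⁻¹ _)⟩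
    · refine Subtype.ext ?_
      simp only [conjIrr_coe]; rw [conjOn_conjOn, mul_inv_cancel, conjOn_one]
    · refine Subtype.ext ?_
      simp only [conjIrr_coe]; rw [conjOn_conjOn, inv_mul_cancel, conjOn_one]
    · rw [conjIrr_coe, conjOn_apply_one, conjOn_apply]
  · have hg' : x * g * x⁻¹ ∉ N := fun hc => hg (by
      have := hN.conj_mem _ hc x⁻¹
      simpa [mul_assoc] using this)
    rw [coverFun, coverFun, dif_neg hg, dif_neg hg']

/-- The idempotent of `B` kills the character `θ` if no member of `B` lies over it. -/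
theorem blockCoeff_convolution_eq_zero {B : Set (IrrCharacter G)} {θ : IrrCharacter N}
    (h : ∀ χ ∈ B, classInner (fun n : N => (χ : G → ℂ) n) (θ : N → ℂ) = 0) :
    conv (blockCoeff B) (subgroupBlockCoeff N {θ}) = 0 := by
  classical
  letI := irrFintype (G := G)
  set U : Set (IrrCharacter N) := {θ}
  have hUo : U ⊆ orbitUnion (G := G) U := fun φ hφ => self_mem_orbitUnion hφ
  have hext : coverFun (G := G) U = subgroupBlockCoeff N (orbitUnion (G := G) U) := by
    refine eq_of_resFun (fun g hg => coverFun_not_mem U hg)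
      (fun g hg => subgroupBlockCoeff_not_mem _ hg) ?_
    rw [resFun_coverFun, resFun_subgroupBlockCoeff]
  have hzero : conv (blockCoeff B) (coverFun (G := G) U) = 0 := by
    have hC := isClassFunction_coverFun' (G := G) U
    funext g
    rw [eq_sum_omega (isClassFunction_conv (isClassFunction_blockCoeff B) hC) g, Pi.zero_apply]
    refine mul_eq_zero_of_right _ (Finset.sum_eq_zero fun χ _ => ?_)
    rw [omega_conv χ (isClassFunction_blockCoeff B), omega_blockCoeff]
    by_cases hχ : χ ∈ B
    · obtain ⟨ψ, hψ, hc⟩ := exists_constituent_restrict (N := N) χ.2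
      rw [if_pos hχ, omega_eq_of_constituent (θ := ⟨ψ, hψ⟩) hc hC fun g hg => coverFun_not_mem U hg,
        resFun_coverFun, omega_blockCoeff, if_neg ?_]
      · simp
      · rintro ⟨x, η, hη, he⟩
        have hηθ : η = θ := hη
        subst hηθ
        have h1 := classInner_restrict_conjOn (N := N) (isClassFunction_irr χ) (η : N → ℂ) x
        rw [← conjIrr_coe, ← he, h χ hχ] at h1
        exact hc h1
    · simp [hχ]
  rw [← subgroupBlockCoeff_convolution hUo, ← hext, ← convolution_assoc, hzero, zero_convolution]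

variable {M : Ideal AlgInt} [M.IsPrime] {p : ℕ}

/-- If `B` covers `b`, every member of `b` is a constituent below a member of `B`. -/
theorem exists_over_of_covers (hM : IsPModular p M) {B : Set (IrrCharacter G)}
    (hB : IsPBlock M B) {b : Set (IrrCharacter N)} (hb : IsPBlock M b) {χ : IrrCharacter G}
    (hχ : χ ∈ B) {η : IrrCharacter N} (hη : η ∈ b)
    (hc : classInner (fun n : N => (χ : G → ℂ) n) (η : N → ℂ) ≠ 0)
    {θ : IrrCharacter N} (hθ : θ ∈ b) :
    ∃ χ' ∈ B, classInner (fun n : N => (χ' : G → ℂ) n) (θ : N → ℂ) ≠ 0 := by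
  classical
  haveI : Fact p.Prime := ⟨hM.1⟩
  haveI := charP_residue hM
  by_contra hno
  push Not at hno
  set E := subgroupBlockCoeff N ({θ} : Set (IrrCharacter N)) with hE
  have hBE : conv (blockCoeff B) E = 0 := blockCoeff_convolution_eq_zero hno
  set eB := idem M B with heB
  set eb := idemIn M N b with heb
  have hbb := isBlk_idemIn hM hb
  haveI : Fintype (G ⧸ N) := Fintype.ofFinite _
  let R := ↥(alg (Residue M) (⊤ : Subgroup G) N)
  let X : G ⧸ N → Set R := fun q =>
    {x | (x : MonoidAlgebra (Residue M) G) * eb = x ∧ ∃ a : G → ℂ, (∀ g, MemLocalRing M (a g)) ∧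
      (∀ g : G, (g : G ⧸ N) ≠ q → a g = 0) ∧ (∀ t ∈ N, ∀ g, a (t * g * t⁻¹) = a g) ∧
      conv a E = 0 ∧ redFun M a = (x : MonoidAlgebra (Residue M) G)}
  have hinvconv : ∀ a c : G → ℂ, (∀ t ∈ N, ∀ g, a (t * g * t⁻¹) = a g) →
      (∀ t ∈ N, ∀ g, c (t * g * t⁻¹) = c g) →
      ∀ t ∈ N, ∀ g, conv a c (t * g * t⁻¹) = conv a c g := by
    intro a c ha hc' t ht g
    refine Fintype.sum_equiv (MulAut.conj t⁻¹).toEquiv _ _ fun x => ?_
    show a x * c (x⁻¹ * (t * g * t⁻¹)) = a (t⁻¹ * x * t⁻¹⁻¹) * c ((t⁻¹ * x * t⁻¹⁻¹)⁻¹ * g)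
    rw [ha t⁻¹ (N.inv_mem ht), ← hc' t ht ((t⁻¹ * x * t⁻¹⁻¹)⁻¹ * g)]
    congr 2
    group
  have hmul : ∀ q r, ∀ x ∈ X q, ∀ y ∈ X r, x * y ∈ X (q * r) := by
    rintro q r x ⟨-, a, ha, haq, hat, -, hax⟩ y ⟨hy, c, hc', hcr, hct, hcE, hcy⟩
    refine ⟨?_, conv a c, fun g => memLocalRing_sum fun x _ => memLocalRing_mul (ha _) (hc' _),
      fun g hg => Finset.sum_eq_zero fun u _ => ?_, hinvconv a c hat hct, ?_, ?_⟩
    · show (x : MonoidAlgebra (Residue M) G) * (y : MonoidAlgebra (Residue M) G) * eb = _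
      rw [mul_assoc, hy]
      rfl
    · by_cases hu : (u : G ⧸ N) = q
      · rw [hcr (u⁻¹ * g) fun h => hg ?_, mul_zero]
        rw [← hu, ← h, QuotientGroup.mk_mul, QuotientGroup.mk_inv, mul_inv_cancel_left]
      · rw [haq u hu, zero_mul]
    · rw [convolution_assoc, hcE, convolution_zero]
    · rw [redFun_conv ha hc', hax, hcy]
      rfl
  have hone : ∀ z ∈ X 1, IsNilpotent z ∧ ∀ r : R, Commute z r := by
    rintro z ⟨hz, a, ha, ha1, hat, haE, haz⟩
    have haN : ∀ g, g ∉ N → a g = 0 := fun g hg => ha1 g fun h => hg ((QuotientGroup.eq_one_iff g).1 h)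
    have hzs : SuppIn N (z : MonoidAlgebra (Residue M) G) := fun g hg => by
      rw [← haz, coeff_redFun, haN g hg, red_zero]
    refine ⟨?_, fun r => Subtype.ext (alg_commute le_rfl hzs r.2.2)⟩
    have hzm : (z : MonoidAlgebra (Residue M) G) ∈ alg (Residue M) N N := ⟨hzs, z.2.2⟩
    rcases IsPrimIdem.nilpotent_or_inv (alg_comm (k := Residue M) (le_refl N)) hbb hzm
      (by rw [alg_commute le_rfl hbb.suppIn z.2.2]; exact hz) with ⟨n, hn⟩ | ⟨c, hc', hinv⟩
    · exact ⟨n, Subtype.ext (by rw [SubmonoidClass.coe_pow]; exact hn)⟩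
    · exfalso
      have hI : IsIntClass M (resFun N a) := ⟨fun g x => hat x x.2 g, fun g => ha g⟩
      have hzN : (z : MonoidAlgebra (Residue M) G) = emb N (redFun M (resFun N a)) := by
        refine coeff_ext fun g => ?_
        rw [← haz]
        by_cases hg : g ∈ N
        · rw [show g = ((⟨g, hg⟩ : N) : G) from rfl, coeff_emb_coe, coeff_redFun, coeff_redFun]
          rfl
        · rw [coeff_emb_not_mem N _ hg, coeff_redFun, haN g hg, red_zero]
      have hom : omega (θ : N → ℂ) (resFun N a) = 0 := by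
        have h2 := (convolution_of_supp haN
          (fun g (hg : g ∉ N) => subgroupBlockCoeff_not_mem ({θ} : Set (IrrCharacter N)) hg)).2
        rw [← hE, haE, hE, resFun_subgroupBlockCoeff] at h2
        have h3 := omega_conv θ hI.1 (blockCoeff ({θ} : Set (IrrCharacter N)))
        rw [← h2, omega_blockCoeff, if_pos (Set.mem_singleton θ), mul_one] at h3
        rw [← h3, omega]
        simp [resFun]
      have hcr : restr N c ∈ alg (Residue M) (⊤ : Subgroup N) ⊤ := restr_mem N hc'
      have hid : redFun M (resFun N a) * restr N c = idem M b := by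
        refine emb_injective N ?_
        rw [map_mul, ← hzN, emb_restr N hc'.1, ← idemIn_eq]
        exact hinv
      have h := lam_mul θ (redFun_mem hI.1) hcr
      rw [hid, lam_idem hb θ, if_pos hθ, lam_redFun θ hI, hom, red_zero, zero_mul] at h
      exact one_ne_zero h
  have hfixeB : FixBy N eB := idem_fixBy B N
  have hjm : ∀ q, cosetPart N q eB * eb ∈ alg (Residue M) (⊤ : Subgroup G) N := fun q =>
    mul_mem ⟨suppIn_top _, fixBy_cosetPart q hfixeB⟩ (alg_mono le_top le_rfl hbb.mem)
  let j : G ⧸ N → R := fun q => ⟨_, hjm q⟩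
  have hj : ∀ q, j q ∈ X q := by
    intro q
    let a : G → ℂ := fun g => if (g : G ⧸ N) = q then blockCoeff B g else 0
    have ha : ∀ g, MemLocalRing M (a g) := fun g => by
      simp only [a]; split_ifs
      · exact blockCoeff_mem hB g
      · exact memLocalRing_zero
    have hat : ∀ t ∈ N, ∀ g, a (t * g * t⁻¹) = a g := by
      intro t ht g
      have he : ((t * g * t⁻¹ : G) : G ⧸ N) = (g : G ⧸ N) := by
        rw [QuotientGroup.mk_mul, QuotientGroup.mk_mul, QuotientGroup.mk_inv,
          (QuotientGroup.eq_one_iff t).2 ht, inv_one, mul_one, one_mul]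
      simp only [a, he, isClassFunction_blockCoeff B g t]
    have hEb : ∀ t ∈ N, ∀ g, subgroupBlockCoeff N b (t * g * t⁻¹) = subgroupBlockCoeff N b g := by
      intro t ht g
      by_cases hg : g ∈ N
      · exact (subgroupBlockCoeff_coe b ⟨t * g * t⁻¹, hN.conj_mem g hg t⟩).trans
          ((isClassFunction_blockCoeff b ⟨g, hg⟩ ⟨t, ht⟩).trans (subgroupBlockCoeff_coe b ⟨g, hg⟩).symm)
      · rw [subgroupBlockCoeff_not_mem b hg, subgroupBlockCoeff_not_mem b fun h => hg (by
          have := hN.conj_mem _ h t⁻¹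
          simpa [mul_assoc] using this)]
    refine ⟨?_, conv a (subgroupBlockCoeff N b), fun g => memLocalRing_sum fun x _ =>
      memLocalRing_mul (ha _) (memLocalRing_subgroupBlockCoeff hb _), fun g hg => ?_,
      hinvconv a _ hat hEb, ?_, ?_⟩
    · show cosetPart N q eB * eb * eb = cosetPart N q eB * eb
      rw [mul_assoc, hbb.idem]
    · refine Finset.sum_eq_zero fun x _ => ?_
      by_cases hx : (x : G ⧸ N) = q
      · rw [subgroupBlockCoeff_not_mem b fun h => hg (by rw [← hx]; exact (QuotientGroup.eq.2 h).symm),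
          mul_zero]
      · simp [a, hx]
    · rw [convolution_assoc, hE,
        subgroupBlockCoeff_convolution (Set.singleton_subset_iff.2 hθ), ← hE]
      funext g
      have h0 : conv (blockCoeff B) E g = 0 := congrFun hBE g
      by_cases hg : (g : G ⧸ N) = q
      · rw [Pi.zero_apply, ← h0]
        refine Finset.sum_congr rfl fun x _ => ?_
        by_cases hx : (x : G ⧸ N) = q
        · simp [a, hx]
        · rw [hE, subgroupBlockCoeff_not_mem _ fun h => hx (by rw [← hg]; exact QuotientGroup.eq.2 h)]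
          simp
      · refine Finset.sum_eq_zero fun x _ => ?_
        by_cases hx : (x : G ⧸ N) = q
        · rw [hE, subgroupBlockCoeff_not_mem _ fun h => hg (by rw [← hx]; exact (QuotientGroup.eq.2 h).symm),
            mul_zero]
        · simp [a, hx]
    · rw [redFun_conv ha (memLocalRing_subgroupBlockCoeff hb)]
      show redFun M a * redFun M (subgroupBlockCoeff N b) = cosetPart N q eB * eb
      congr 1
      · refine coeff_ext fun g => ?_
        simp only [a, coeff_redFun, cosetPart, coeff_ofFun, heB, idem]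
        split_ifs <;> simp [red_zero]
  have hfm : eB * eb ∈ alg (Residue M) (⊤ : Subgroup G) N :=
    mul_mem ⟨suppIn_top _, hfixeB⟩ (alg_mono le_top le_rfl hbb.mem)
  have hf : (⟨_, hfm⟩ : R) * ⟨_, hfm⟩ = ⟨_, hfm⟩ := Subtype.ext (by
    show eB * eb * (eB * eb) = eB * eb
    rw [mul_assoc, ← mul_assoc eb, ← idem_central B eb, ← mul_assoc, ← mul_assoc, ← heB,
      idem_idem hB, mul_assoc, hbb.idem])
  have h0 := eq_zero_of_graded X hmul hone hf hj (Subtype.ext (by
    show eB * eb = ((∑ q, j q : R) : MonoidAlgebra (Residue M) G)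
    rw [AddSubmonoidClass.coe_finsetSum]
    show eB * eb = ∑ q, cosetPart N q eB * eb
    rw [← Finset.sum_mul, sum_cosetPart]))
  exact covered_mul_ne_zero hM hB hb hχ hη hc (congrArg Subtype.val h0)

end CfsgLib.BrauerPairs
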