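import Mathlib.Algebra.MonoidAlgebra.Basic
import Mathlib.Algebra.Algebra.Subalgebra.Basic
import Mathlib.GroupTheory.GroupAction.ConjAct
import Mathlib.GroupTheory.PGroup
import Mathlib.Algebra.CharP.Basic
import Mathlib.GroupTheory.QuotientGroup.Basic
import Mathlib.GroupTheory.Subgroup.Centralizer
import Mathlib.RingTheory.Finiteness.Finsupp

/-!
# The group algebra with conjugation, truncation and relative traces

For a finite group `G` and a field `k`: the conjugation automorphisms of `k[G]`, the subalgebra of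
elements supported on a subgroup and fixed by another subgroup, the Brauer truncation at a
`p`-subgroup, and relative traces.
-/

namespace CfsgLib.BrauerPairs

open MonoidAlgebra

variable {k : Type*} [Field k] {G : Type*} [Group G]

section basic

/-- The element of the group algebra with a prescribed coefficient function. -/
noncomputable def ofFun [Finite G] (f : G → k) : MonoidAlgebra k G :=
  ofCoeff (Finsupp.equivFunOnFinite.symm f)

@[simp] theorem coeff_ofFun [Finite G] (f : G → k) (g : G) : (ofFun f).coeff g = f g := rfl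

theorem coeff_ext {a b : MonoidAlgebra k G} (h : ∀ g, a.coeff g = b.coeff g) : a = b :=
  coeff_injective (Finsupp.ext h)

variable (k) in
/-- Conjugation by `x` on the group algebra. -/
noncomputable def cj (x : G) : MonoidAlgebra k G ≃ₐ[k] MonoidAlgebra k G :=
  domCongr k k (MulAut.conj x)

@[simp] theorem coeff_cj (x : G) (a : MonoidAlgebra k G) (g : G) :
    (cj k x a).coeff g = a.coeff (x⁻¹ * g * x) := by
  simp [cj, MulAut.conj_symm_apply]

@[simp] theorem cj_one (a : MonoidAlgebra k G) : cj k (1 : G) a = a :=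
  coeff_ext fun g => by simp

theorem cj_mul (x y : G) (a : MonoidAlgebra k G) : cj k (x * y) a = cj k x (cj k y a) :=
  coeff_ext fun g => by simp [mul_assoc]

theorem cj_cj_inv (x : G) (a : MonoidAlgebra k G) : cj k x (cj k x⁻¹ a) = a := by
  rw [← cj_mul, mul_inv_cancel, cj_one]

theorem cj_inv_cj (x : G) (a : MonoidAlgebra k G) : cj k x⁻¹ (cj k x a) = a := by
  rw [← cj_mul, inv_mul_cancel, cj_one]

/-- The element is supported inside the subgroup. -/
def SuppIn (H : Subgroup G) (a : MonoidAlgebra k G) : Prop := ∀ g, g ∉ H → a.coeff g = 0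

/-- The element is fixed under conjugation by the subgroup. -/
def FixBy (T : Subgroup G) (a : MonoidAlgebra k G) : Prop := ∀ t ∈ T, cj k t a = a

theorem FixBy.coeff_eq {T : Subgroup G} {a : MonoidAlgebra k G} (h : FixBy T a) {t : G}
    (ht : t ∈ T) (g : G) : a.coeff (t⁻¹ * g * t) = a.coeff g := by
  rw [← coeff_cj, h t ht]

theorem FixBy.coeff_eq' {T : Subgroup G} {a : MonoidAlgebra k G} (h : FixBy T a) {t : G}
    (ht : t ∈ T) (g : G) : a.coeff (t * g * t⁻¹) = a.coeff g := by
  simpa using h.coeff_eq (T.inv_mem ht) g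

theorem fixBy_of_coeff {T : Subgroup G} {a : MonoidAlgebra k G}
    (h : ∀ t ∈ T, ∀ g, a.coeff (t⁻¹ * g * t) = a.coeff g) : FixBy T a :=
  fun t ht => coeff_ext fun g => by rw [coeff_cj, h t ht]

theorem FixBy.mono {T U : Subgroup G} {a : MonoidAlgebra k G} (h : FixBy T a) (hle : U ≤ T) :
    FixBy U a := fun u hu => h u (hle hu)

theorem SuppIn.mono {H K : Subgroup G} {a : MonoidAlgebra k G} (h : SuppIn H a) (hle : H ≤ K) :
    SuppIn K a := fun g hg => h g fun hh => hg (hle hh)

theorem suppIn_top (a : MonoidAlgebra k G) : SuppIn ⊤ a := fun g hg => absurd trivial hg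

theorem SuppIn.cj {H : Subgroup G} {a : MonoidAlgebra k G} (h : SuppIn H a) (x : G) :
    SuppIn (H.map (MulAut.conj x).toMonoidHom) (cj k x a) := by
  intro g hg
  rw [coeff_cj]
  refine h _ fun hh => hg ⟨_, hh, ?_⟩
  simp [mul_assoc]

theorem FixBy.cj {T : Subgroup G} {a : MonoidAlgebra k G} (h : FixBy T a) (x : G) :
    FixBy (T.map (MulAut.conj x).toMonoidHom) (cj k x a) := by
  rintro _ ⟨t, ht, rfl⟩
  change BrauerPairs.cj k (x * t * x⁻¹) (BrauerPairs.cj k x a) = BrauerPairs.cj k x a
  rw [← cj_mul, inv_mul_cancel_right, cj_mul, h t ht]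

theorem coeff_mul [Fintype G] (a b : MonoidAlgebra k G) (g : G) :
    (a * b).coeff g = ∑ x : G, a.coeff x * b.coeff (x⁻¹ * g) := by
  rw [coeff_mul_apply_left]
  refine (Finsupp.sum_fintype _ _ fun x => by simp).trans ?_
  simp

/-- The subalgebra of elements supported on `H` and fixed by `T`. -/
noncomputable def alg (k : Type*) [Field k] [Fintype G] (H T : Subgroup G) :
    Subalgebra k (MonoidAlgebra k G) where
  carrier := {a | SuppIn H a ∧ FixBy T a}
  mul_mem' := by
    rintro a b ⟨ha, ha'⟩ ⟨hb, hb'⟩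
    refine ⟨fun g hg => ?_, fun t ht => by rw [map_mul, ha' t ht, hb' t ht]⟩
    rw [coeff_mul]
    refine Finset.sum_eq_zero fun x _ => ?_
    by_cases hx : x ∈ H
    · rw [hb _ fun h => hg (by simpa using H.mul_mem hx h), mul_zero]
    · rw [ha x hx, zero_mul]
  add_mem' := by
    rintro a b ⟨ha, ha'⟩ ⟨hb, hb'⟩
    exact ⟨fun g hg => by simp [ha g hg, hb g hg],
      fun t ht => by rw [map_add, ha' t ht, hb' t ht]⟩
  algebraMap_mem' := fun r => ⟨fun g hg => by
      have : g ≠ 1 := fun h => hg (h ▸ H.one_mem)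
      simp [coe_algebraMap, this.symm], fun t _ => AlgEquiv.commutes _ r⟩

theorem mem_alg [Fintype G] {H T : Subgroup G} {a : MonoidAlgebra k G} :
    a ∈ alg k H T ↔ SuppIn H a ∧ FixBy T a := Iff.rfl

theorem alg_mono [Fintype G] {H H' T T' : Subgroup G} (hH : H ≤ H') (hT : T' ≤ T) :
    alg k H T ≤ alg k H' T' := fun _ ha => ⟨ha.1.mono hH, ha.2.mono hT⟩

theorem cj_mem_alg [Fintype G] {H T : Subgroup G} {a : MonoidAlgebra k G} (ha : a ∈ alg k H T)
    (x : G) : cj k x a ∈
      alg k (H.map (MulAut.conj x).toMonoidHom) (T.map (MulAut.conj x).toMonoidHom) :=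
  ⟨ha.1.cj x, ha.2.cj x⟩

theorem alg_commute [Fintype G] {H T : Subgroup G} (hHT : H ≤ T) {a b : MonoidAlgebra k G}
    (ha : SuppIn H a) (hb : FixBy T b) : a * b = b * a := by
  apply coeff_ext
  intro g
  rw [coeff_mul, coeff_mul]
  rw [← Equiv.sum_comp ((Equiv.inv G).trans (Equiv.mulLeft g)) (fun x => b.coeff x * _)]
  refine Finset.sum_congr rfl fun x _ => ?_
  by_cases hx : x ∈ H
  · have h1 := hb.coeff_eq (t := x) (hHT hx) (g * x⁻¹)
    simp only [Equiv.trans_apply, Equiv.inv_apply, Equiv.coe_mulLeft, mul_inv_rev, inv_inv,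
      mul_assoc, inv_mul_cancel, mul_one]
    rw [mul_comm]
    congr 1
    rw [← h1]
    group
  · simp only [Equiv.trans_apply, Equiv.inv_apply, Equiv.coe_mulLeft, mul_inv_rev, inv_inv,
      mul_assoc, inv_mul_cancel, mul_one]
    rw [ha x hx, zero_mul, mul_zero]

end basic

section fixedpoints

variable {p : ℕ} [Fact p.Prime] [CharP k p]

open Classical in
/-- In characteristic `p`, an invariant function on a finite set with an action of a `p`-group
sums to its sum over the fixed points. -/
theorem sum_eq_sum_fixed {P : Type*} [Group P] [Finite P] (hP : IsPGroup p P) {α : Type*}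
    [Fintype α] [MulAction P α] (f : α → k) (hf : ∀ (u : P) (a : α), f (u • a) = f a) :
    ∑ a, f a = ∑ a ∈ (MulAction.fixedPoints P α).toFinset, f a := by
  classical
  haveI : Fintype P := Fintype.ofFinite P
  rw [← Finset.sum_filter_add_sum_filter_not Finset.univ (· ∈ MulAction.fixedPoints P α)]
  have h0 : ∑ a with ¬ (a ∈ MulAction.fixedPoints P α), f a = 0 := by
    rw [← Finset.sum_fiberwise (g := fun a => (Quotient.mk (MulAction.orbitRel P α) a))]
    refine Finset.sum_eq_zero fun q _ => ?_
    induction q using Quotient.inductionOn with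
    | h a =>
      by_cases ha : a ∈ MulAction.fixedPoints P α
      · refine Finset.sum_eq_zero fun b hb => ?_
        simp only [Finset.mem_filter, Finset.mem_univ, true_and] at hb
        obtain ⟨hb1, hb2⟩ := hb
        obtain ⟨u, hu⟩ := MulAction.orbitRel_apply.mp (Quotient.exact hb2)
        simp only at hu
        rw [ha u] at hu
        exact absurd (hu ▸ ha) hb1
      · have hset : (Finset.univ.filter fun b => ¬ (b ∈ MulAction.fixedPoints P α)).filter
            (fun b => Quotient.mk (MulAction.orbitRel P α) b = Quotient.mk _ a)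
            = (MulAction.orbit P a).toFinset := by
          ext b
          simp only [Finset.mem_filter, Finset.mem_univ, true_and, Set.mem_toFinset]
          refine ⟨fun h => MulAction.orbitRel_apply.mp (Quotient.exact h.2), fun h =>
            ⟨fun hb => ?_, Quotient.sound (MulAction.orbitRel_apply.mpr h)⟩⟩
          obtain ⟨u, hu⟩ := MulAction.mem_orbit_symm.mp h
          simp only at hu
          exact ha (by rw [← hu, hb u]; exact hb)
        rw [hset, Finset.sum_congr rfl (g := fun _ => f a) fun b hb => by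
          obtain ⟨u, rfl⟩ := Set.mem_toFinset.mp hb; exact hf u a]
        rw [Finset.sum_const, Set.toFinset_card, ← Nat.card_eq_fintype_card]
        obtain ⟨n, hn⟩ := hP.card_orbit a
        rw [hn, nsmul_eq_mul]
        rcases n with _ | n
        · exfalso
          rw [pow_zero] at hn
          exact ha (MulAction.mem_fixedPoints_iff_card_orbit_eq_one.mpr
            (by rwa [← Nat.card_eq_fintype_card]))
        · rw [Nat.cast_pow, CharP.cast_eq_zero, zero_pow (Nat.succ_ne_zero n), zero_mul]
  rw [h0, add_zero]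
  exact Finset.sum_congr (by ext; simp) fun _ _ => rfl

end fixedpoints

section brauer

open Classical in
/-- The Brauer truncation at `P`: forget the coefficients outside the centralizer of `P`. -/
noncomputable def br [Finite G] (P : Subgroup G) :
    MonoidAlgebra k G →ₗ[k] MonoidAlgebra k G where
  toFun a := ofFun fun g => if g ∈ Subgroup.centralizer (P : Set G) then a.coeff g else 0
  map_add' a b := coeff_ext fun g => by simp only [coeff_ofFun, coeff_add, Finsupp.add_apply]; split <;> simp
  map_smul' r a := coeff_ext fun g => by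
    simp only [coeff_ofFun, coeff_smul_apply, RingHom.id_apply]; split <;> simp

variable [Fintype G] {P Q H T : Subgroup G}

open Classical in
theorem coeff_br (a : MonoidAlgebra k G) (g : G) :
    (br P a).coeff g = if g ∈ Subgroup.centralizer (P : Set G) then a.coeff g else 0 := rfl

theorem coeff_br_of_mem (a : MonoidAlgebra k G) {g : G}
    (hg : g ∈ Subgroup.centralizer (P : Set G)) : (br P a).coeff g = a.coeff g := by
  rw [coeff_br, if_pos hg]

theorem suppIn_br (a : MonoidAlgebra k G) :
    SuppIn (Subgroup.centralizer (P : Set G)) (br P a) := fun g hg => by rw [coeff_br, if_neg hg]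

theorem br_eq_self {a : MonoidAlgebra k G} (h : SuppIn (Subgroup.centralizer (P : Set G)) a) :
    br P a = a := coeff_ext fun g => by
  rw [coeff_br]; split
  · rfl
  · exact (h g ‹_›).symm

theorem br_br_of_le (h : Q ≤ P) (a : MonoidAlgebra k G) : br P (br Q a) = br P a :=
  coeff_ext fun g => by
    rw [coeff_br, coeff_br (P := P) a]; split
    · exact coeff_br_of_mem a (Subgroup.centralizer_le (SetLike.coe_subset_coe.mpr h) ‹_›)
    · rfl

theorem br_one : br P (1 : MonoidAlgebra k G) = 1 := br_eq_self fun g hg => by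
  have : g ≠ 1 := fun h => hg (h ▸ one_mem _)
  simp [one_def, this.symm]

open Classical in
theorem cj_br (x : G) (a : MonoidAlgebra k G) :
    cj k x (br P a) = br (P.map (MulAut.conj x).toMonoidHom) (cj k x a) := by
  apply coeff_ext
  intro g
  rw [coeff_cj, coeff_br, coeff_br, coeff_cj]
  have : (x⁻¹ * g * x ∈ Subgroup.centralizer (P : Set G)) ↔
      g ∈ Subgroup.centralizer ((P.map (MulAut.conj x).toMonoidHom : Subgroup G) : Set G) := by
    simp only [Subgroup.mem_centralizer_iff, SetLike.mem_coe, Subgroup.mem_map,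
      MulEquiv.coe_toMonoidHom, MulAut.conj_apply, forall_exists_index, and_imp]
    constructor
    · intro h _ y hy he
      subst he
      have := congrArg (fun z => x * z * x⁻¹) (h y hy)
      simpa [mul_assoc] using this
    · intro h y hy
      have := congrArg (fun z => x⁻¹ * z * x) (h _ y hy rfl)
      simpa [mul_assoc] using this
  exact if_congr this rfl rfl

omit [Fintype G] in
theorem map_conj_eq_self {x : G} (hx : x ∈ Subgroup.normalizer (P : Set G)) :
    P.map (MulAut.conj x).toMonoidHom = P := by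
  ext g
  simp only [Subgroup.mem_map, MulEquiv.coe_toMonoidHom, MulAut.conj_apply]
  constructor
  · rintro ⟨y, hy, rfl⟩; exact (Subgroup.mem_normalizer_iff.mp hx y).mp hy
  · exact fun hg => ⟨x⁻¹ * g * x, (Subgroup.mem_normalizer_iff''.mp hx g).mp hg, by group⟩

theorem cj_br_of_mem {x : G} (hx : x ∈ Subgroup.normalizer (P : Set G)) (a : MonoidAlgebra k G) :
    cj k x (br P a) = br P (cj k x a) := by rw [cj_br, map_conj_eq_self hx]

/-- Truncation keeps invariance under elements normalizing `P`. -/
theorem fixBy_br {a : MonoidAlgebra k G} (h : FixBy T a)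
    (hT : T ≤ Subgroup.normalizer (P : Set G)) : FixBy T (br P a) :=
  fun t ht => by rw [cj_br_of_mem (hT ht), h t ht]

/-- **The Brauer homomorphism**: truncation is multiplicative on `P`-fixed elements. -/
theorem br_mul {p : ℕ} [Fact p.Prime] [CharP k p] (hP : IsPGroup p P) {a b : MonoidAlgebra k G}
    (ha : FixBy P a) (hb : FixBy P b) : br P (a * b) = br P a * br P b := by
  classical
  apply coeff_ext
  intro g
  rw [coeff_mul]
  by_cases hg : g ∈ Subgroup.centralizer (P : Set G)
  · rw [coeff_br_of_mem _ hg, coeff_mul]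
    let _ : MulAction P G := MulAction.compHom G ((MulAut.conj).comp P.subtype)
    have hsmul : ∀ (u : P) (x : G), u • x = (u : G) * x * (u : G)⁻¹ := fun u x => rfl
    rw [sum_eq_sum_fixed hP (fun x => a.coeff x * b.coeff (x⁻¹ * g)) fun u x => by
      simp only [hsmul]
      rw [ha.coeff_eq' u.2, ← hb.coeff_eq' u.2 (x⁻¹ * g)]
      have h2 : (u : G) * g = g * u := Subgroup.mem_centralizer_iff.mp hg u u.2
      congr 2
      calc ((u : G) * x * (u : G)⁻¹)⁻¹ * g = u * x⁻¹ * ((u : G)⁻¹ * g) := by group
        _ = u * x⁻¹ * (g * (u : G)⁻¹) := by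
          congr 1
          rw [inv_mul_eq_iff_eq_mul, ← mul_assoc, h2, mul_inv_cancel_right]
        _ = u * (x⁻¹ * g) * (u : G)⁻¹ := by group]
    rw [← Finset.sum_subset (Finset.subset_univ (MulAction.fixedPoints P G).toFinset)]
    · refine Finset.sum_congr rfl fun x hx => ?_
      rw [Set.mem_toFinset] at hx
      have hxC : x ∈ Subgroup.centralizer (P : Set G) := Subgroup.mem_centralizer_iff.mpr
        fun u hu => by
          have := hx ⟨u, hu⟩
          rw [hsmul, mul_inv_eq_iff_eq_mul] at this
          exact this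
      rw [coeff_br_of_mem _ hxC, coeff_br_of_mem _ (mul_mem (inv_mem hxC) hg)]
    · intro x _ hx
      rw [Set.mem_toFinset] at hx
      have hxC : x ∉ Subgroup.centralizer (P : Set G) := fun h => hx fun u => by
        rw [hsmul, mul_inv_eq_iff_eq_mul]; exact Subgroup.mem_centralizer_iff.mp h u u.2
      rw [coeff_br, if_neg hxC, zero_mul]
  · rw [coeff_br, if_neg hg]
    refine (Finset.sum_eq_zero fun x _ => ?_).symm
    by_cases hx : x ∈ Subgroup.centralizer (P : Set G)
    · rw [suppIn_br b (x⁻¹ * g) fun h => hg (by simpa using mul_mem hx h), mul_zero]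
    · rw [suppIn_br a x hx, zero_mul]

end brauer

section trace

variable [Fintype G] {D T H : Subgroup G}

/-- The relative trace from `D` to `T` (the sum over all of `T ⧸ D`; meaningful on `D`-fixed
elements). -/
noncomputable def tr (D T : Subgroup G) :
    MonoidAlgebra k G →ₗ[k] MonoidAlgebra k G :=
  haveI : Fintype (T ⧸ D.subgroupOf T) := Fintype.ofFinite _
  ∑ q : T ⧸ D.subgroupOf T, (cj k ((q.out : T) : G)).toLinearMap

theorem tr_apply [Fintype (T ⧸ D.subgroupOf T)] (a : MonoidAlgebra k G) :
    tr D T a = ∑ q : T ⧸ D.subgroupOf T, cj k ((q.out : T) : G) a := by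
  rw [tr, LinearMap.sum_apply]
  exact Finset.sum_congr (by ext; simp) fun _ _ => rfl

theorem cj_rep {a : MonoidAlgebra k G} (ha : FixBy D a) {q : T ⧸ D.subgroupOf T} {t : T}
    (h : (t : T ⧸ D.subgroupOf T) = q) : cj k (t : G) a = cj k ((q.out : T) : G) a := by
  have : (q.out)⁻¹ * t ∈ D.subgroupOf T := by
    rw [← QuotientGroup.eq, QuotientGroup.out_eq', h]
  rw [Subgroup.mem_subgroupOf] at this
  have h2 : (t : G) = ((q.out : T) : G) * (((q.out)⁻¹ * t : T) : G) := by simp
  conv_lhs => rw [h2, cj_mul, ha _ this]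


theorem tr_fixBy {a : MonoidAlgebra k G} (ha : FixBy D a) : FixBy T (tr D T a) := by
  classical
  haveI : Fintype (T ⧸ D.subgroupOf T) := Fintype.ofFinite _
  intro t ht
  have key : ∀ q : T ⧸ D.subgroupOf T, cj k t (cj k ((q.out : T) : G) a) =
      cj k (((MulAction.toPerm (⟨t, ht⟩ : T) q).out : T) : G) a := fun q => by
    rw [← cj_mul]
    refine cj_rep ha (t := (⟨t, ht⟩ : T) * q.out) ?_
    rw [MulAction.toPerm_apply]
    conv_rhs => rw [← QuotientGroup.out_eq' q]
    rfl
  rw [tr_apply a]
  have h1 : cj k t (∑ q : T ⧸ D.subgroupOf T, cj k ((q.out : T) : G) a) =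
      ∑ q : T ⧸ D.subgroupOf T, cj k t (cj k ((q.out : T) : G) a) :=
    map_sum (cj k t) (fun q : T ⧸ D.subgroupOf T => cj k ((q.out : T) : G) a) Finset.univ
  refine h1.trans ((Finset.sum_congr rfl fun q _ => key q).trans ?_)
  exact Equiv.sum_comp (MulAction.toPerm (⟨t, ht⟩ : T))
    (fun q : T ⧸ D.subgroupOf T => cj k ((q.out : T) : G) a)

theorem tr_mul {a b : MonoidAlgebra k G} (hb : FixBy T b) :
    tr D T (a * b) = tr D T a * b := by
  haveI : Fintype (T ⧸ D.subgroupOf T) := Fintype.ofFinite _
  rw [tr_apply, tr_apply, Finset.sum_mul]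
  exact Finset.sum_congr rfl fun q _ => by rw [map_mul, hb _ (q.out).2]

theorem mul_tr {a b : MonoidAlgebra k G} (hb : FixBy T b) :
    tr D T (b * a) = b * tr D T a := by
  haveI : Fintype (T ⧸ D.subgroupOf T) := Fintype.ofFinite _
  rw [tr_apply, tr_apply, Finset.mul_sum]
  exact Finset.sum_congr rfl fun q _ => by rw [map_mul, hb _ (q.out).2]

theorem suppIn_sum {ι : Type*} (s : Finset ι) (f : ι → MonoidAlgebra k G)
    (h : ∀ i ∈ s, SuppIn H (f i)) : SuppIn H (∑ i ∈ s, f i) := by
  intro g hg
  rw [coeff_sum, Finsupp.finset_sum_apply]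
  exact Finset.sum_eq_zero fun i hi => h i hi g hg

theorem tr_suppIn {a : MonoidAlgebra k G} (ha : SuppIn H a)
    (hT : T ≤ Subgroup.normalizer (H : Set G)) : SuppIn H (tr D T a) := by
  haveI : Fintype (T ⧸ D.subgroupOf T) := Fintype.ofFinite _
  rw [tr_apply]
  refine suppIn_sum _ _ fun q _ => ?_
  have := ha.cj ((q.out : T) : G)
  rwa [map_conj_eq_self (hT (q.out).2)] at this

variable {p : ℕ} [Fact p.Prime] [CharP k p]

open Classical in
/-- The truncation at `Q` of a trace is the sum over the cosets fixed by `Q`. -/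
theorem br_tr {Q : Subgroup G} (hQ : IsPGroup p Q) (hQT : Q ≤ T) {a : MonoidAlgebra k G}
    (ha : FixBy D a) [Fintype (T ⧸ D.subgroupOf T)] :
    br Q (tr D T a) = ∑ q : T ⧸ D.subgroupOf T,
      if (∀ u : Q, (Subgroup.inclusion hQT u) • q = q) then br Q (cj k ((q.out : T) : G) a)
      else 0 := by
  apply coeff_ext
  intro g
  rw [coeff_sum, Finsupp.finset_sum_apply, coeff_br]
  by_cases hg : g ∈ Subgroup.centralizer (Q : Set G)
  · rw [if_pos hg, tr_apply, coeff_sum, Finsupp.finset_sum_apply]
    let _ : MulAction Q (T ⧸ D.subgroupOf T) :=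
      MulAction.compHom _ (Subgroup.inclusion hQT)
    rw [sum_eq_sum_fixed hQ
      (fun q : T ⧸ D.subgroupOf T => (cj k ((q.out : T) : G) a).coeff g) fun u q => by
        have h1 : ((Subgroup.inclusion hQT u * q.out : T) : T ⧸ D.subgroupOf T) = u • q := by
          show _ = Subgroup.inclusion hQT u • q
          conv_rhs => rw [← QuotientGroup.out_eq' q]
          rfl
        rw [← cj_rep ha h1, Subgroup.coe_mul, cj_mul, coeff_cj]
        congr 1
        have h2 : (u : G) * g = g * u := Subgroup.mem_centralizer_iff.mp hg u u.2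
        rw [Subgroup.coe_inclusion, mul_assoc, ← h2, inv_mul_cancel_left]]
    rw [← Finset.sum_subset (Finset.subset_univ
      (MulAction.fixedPoints Q (T ⧸ D.subgroupOf T)).toFinset)]
    · refine Finset.sum_congr rfl fun q hq => ?_
      rw [Set.mem_toFinset] at hq
      rw [if_pos (show ∀ u : Q, Subgroup.inclusion hQT u • q = q from fun u => hq u),
        coeff_br_of_mem _ hg]
    · intro q _ hq
      rw [Set.mem_toFinset] at hq
      rw [if_neg fun h => hq fun u => h u]
      simp
  · rw [if_neg hg]
    refine (Finset.sum_eq_zero fun q _ => ?_).symm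
    split
    · exact suppIn_br _ g hg
    · simp

omit [Fintype G] in
/-- A coset fixed by `Q` conjugates `Q` into `D`. -/
theorem conj_le_of_fixed {Q : Subgroup G} (hQT : Q ≤ T) {q : T ⧸ D.subgroupOf T}
    (h : ∀ u : Q, (Subgroup.inclusion hQT u) • q = q) :
    Q.map (MulAut.conj ((q.out : T) : G)⁻¹).toMonoidHom ≤ D := by
  rintro _ ⟨u, hu, rfl⟩
  have h1 := h ⟨u, hu⟩
  rw [← QuotientGroup.out_eq' q] at h1
  have h2 : (q.out)⁻¹ * (Subgroup.inclusion hQT ⟨u, hu⟩ * q.out) ∈ D.subgroupOf T :=
    QuotientGroup.eq.mp h1.symm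
  rw [Subgroup.mem_subgroupOf] at h2
  simpa [mul_assoc] using h2

/-- If the truncation at `Q` of a trace from `D` is nonzero, then `Q` is conjugate into `D`. -/
theorem exists_conj_le_of_br_tr_ne_zero {Q : Subgroup G} (hQ : IsPGroup p Q) (hQT : Q ≤ T)
    {a : MonoidAlgebra k G} (ha : FixBy D a) (h : br Q (tr D T a) ≠ 0) :
    ∃ x ∈ T, Q.map (MulAut.conj x).toMonoidHom ≤ D := by
  classical
  haveI : Fintype (T ⧸ D.subgroupOf T) := Fintype.ofFinite _
  rw [br_tr hQ hQT ha] at h
  obtain ⟨q, -, hq⟩ := Finset.exists_ne_zero_of_sum_ne_zero h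
  split at hq
  · exact ⟨_, T.inv_mem (q.out).2, conj_le_of_fixed hQT ‹_›⟩
  · exact absurd rfl hq

/-- Truncation at `D` of a trace from `D` is the trace to the normalizer. -/
theorem br_tr_self (hD : IsPGroup p D) (hDT : D ≤ T) {a : MonoidAlgebra k G} (ha : FixBy D a) :
    br D (tr D T a) = tr D (T ⊓ Subgroup.normalizer (D : Set G)) (br D a) := by
  classical
  haveI : Fintype (T ⧸ D.subgroupOf T) := Fintype.ofFinite _
  set N := T ⊓ Subgroup.normalizer (D : Set G) with hN
  haveI : Fintype (N ⧸ D.subgroupOf N) := Fintype.ofFinite _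
  rw [br_tr hD hDT ha, tr_apply, ← Finset.sum_filter]
  symm
  refine Finset.sum_bij
    (fun r _ => ((Subgroup.inclusion inf_le_left r.out : T) : T ⧸ D.subgroupOf T)) ?_ ?_ ?_ ?_
  · intro r _
    simp only [Finset.mem_filter, Finset.mem_univ, true_and]
    intro u
    rw [MulAction.Quotient.smul_coe, QuotientGroup.eq, Subgroup.mem_subgroupOf]
    have h1 := (Subgroup.mem_normalizer_iff''.mp (r.out).2.2 _).mp (D.inv_mem u.2)
    simpa [mul_assoc] using h1
  · intro r _ r' _ h
    rw [QuotientGroup.eq, Subgroup.mem_subgroupOf] at h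
    rw [← QuotientGroup.out_eq' r, ← QuotientGroup.out_eq' r']
    refine QuotientGroup.eq.mpr ?_
    rw [Subgroup.mem_subgroupOf]
    simpa using h
  · intro q hq
    simp only [Finset.mem_filter, Finset.mem_univ, true_and] at hq
    have hle := conj_le_of_fixed hDT hq
    have hmem : ((q.out : T) : G) ∈ N := by
      refine ⟨(q.out).2, ?_⟩
      have heq : D.map (MulAut.conj ((q.out : T) : G)⁻¹).toMonoidHom = D :=
        Subgroup.eq_of_le_of_card_ge hle
          (Subgroup.card_map_of_injective (MulEquiv.injective _)).ge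
      have : ((q.out : T) : G)⁻¹ ∈ Subgroup.normalizer (D : Set G) := by
        rw [Subgroup.mem_normalizer_iff_map_conj_eq]; exact heq
      simpa using inv_mem this
    refine ⟨((⟨_, hmem⟩ : N) : N ⧸ D.subgroupOf N), Finset.mem_univ _, ?_⟩
    conv_rhs => rw [← QuotientGroup.out_eq' q]
    refine QuotientGroup.eq.mpr ?_
    rw [Subgroup.mem_subgroupOf]
    have h2 : (((⟨_, hmem⟩ : N) : N ⧸ D.subgroupOf N).out)⁻¹ * ⟨_, hmem⟩ ∈ D.subgroupOf N := by
      rw [← QuotientGroup.eq, QuotientGroup.out_eq']
    rw [Subgroup.mem_subgroupOf] at h2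
    simpa using h2
  · intro r _
    have h1 := cj_rep ha
      (t := (Subgroup.inclusion inf_le_left r.out : T))
      (q := ((Subgroup.inclusion inf_le_left r.out : T) : T ⧸ D.subgroupOf T)) rfl
    rw [← h1, Subgroup.coe_inclusion, cj_br_of_mem (r.out).2.2]

end trace

end CfsgLib.BrauerPairs
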