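import Cfsg.Agent.BrauerPairs.NilpotentSystem

/-!
# Local blocks of nilpotent blocks
-/

namespace CfsgLib.BrauerPairs

universe u

variable {p : ℕ} [hp : Fact p.Prime] {k : Type*} [Field k] [hk : CharP k p]
  {G : Type u} [Group G] [Fintype G]

local notation "C[" Q "]" => Subgroup.centralizer (SetLike.coe Q)
local notation "N[" Q "]" => Subgroup.normalizer (SetLike.coe Q)

omit hp hk in
/-- On elements supported on `C(Q)`, truncation at `R` and at `Q ⊔ R` agree. -/
theorem br_sup_eq_of_supp {Q R : Subgroup G} {a : MonoidAlgebra k G} (ha : SuppIn C[Q] a) :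
    br (Q ⊔ R) a = br R a := by
  classical
  refine coeff_ext fun g => ?_
  rw [coeff_br, coeff_br]
  by_cases hg : g ∈ C[Q ⊔ R]
  · rw [if_pos hg, if_pos (Subgroup.centralizer_le (SetLike.coe_subset_coe.mpr le_sup_right) hg)]
  · rw [if_neg hg]
    split_ifs with hgR
    · refine (ha g fun hgQ => hg ?_).symm
      rw [Subgroup.mem_centralizer_iff]
      intro x hx
      have hle : Q ⊔ R ≤ Subgroup.centralizer ({g} : Set G) := sup_le
        (fun a ha => Subgroup.mem_centralizer_singleton_iff.mpr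
          (Subgroup.mem_centralizer_iff.mp hgQ a ha))
        (fun a ha => Subgroup.mem_centralizer_singleton_iff.mpr
          (Subgroup.mem_centralizer_iff.mp hgR a ha))
      exact Subgroup.mem_centralizer_singleton_iff.mp (hle hx)
    · rfl

omit [Fintype G] in
theorem map_centralizer_inf (L : Subgroup G) (S : Subgroup L) :
    (Subgroup.centralizer (S : Set L)).map L.subtype = L ⊓ C[S.map L.subtype] := by
  ext g
  simp only [Subgroup.mem_map, Subgroup.coe_subtype, Subgroup.mem_inf]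
  constructor
  · rintro ⟨c, hc, rfl⟩
    refine ⟨c.2, ?_⟩
    rw [Subgroup.mem_centralizer_iff]
    rintro _ ⟨y, hy, rfl⟩
    exact congrArg Subtype.val (Subgroup.mem_centralizer_iff.mp hc y hy)
  · rintro ⟨hL, hg⟩
    refine ⟨⟨g, hL⟩, Subgroup.mem_centralizer_iff.mpr fun y hy => Subtype.ext ?_, rfl⟩
    exact Subgroup.mem_centralizer_iff.mp hg _ ⟨y, hy, rfl⟩

omit [Fintype G] in
theorem centralizer_sup' (Q R : Subgroup G) : C[Q ⊔ R] = C[Q] ⊓ C[R] := by
  refine le_antisymm (le_inf (Subgroup.centralizer_le (SetLike.coe_subset_coe.mpr le_sup_left))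
    (Subgroup.centralizer_le (SetLike.coe_subset_coe.mpr le_sup_right))) fun g hg => ?_
  rw [Subgroup.mem_centralizer_iff]
  intro x hx
  have hle : Q ⊔ R ≤ Subgroup.centralizer ({g} : Set G) := sup_le
    (fun a ha => Subgroup.mem_centralizer_singleton_iff.mpr
      (Subgroup.mem_centralizer_iff.mp hg.1 a ha))
    (fun a ha => Subgroup.mem_centralizer_singleton_iff.mpr
      (Subgroup.mem_centralizer_iff.mp hg.2 a ha))
  exact Subgroup.mem_centralizer_singleton_iff.mp (hle hx)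

/-- The block of a pair of a nilpotent block is nilpotent in the centralizer. -/
theorem isNil_restr {b : MonoidAlgebra k G} (hb : IsBlk k ⊤ b) (hnil : IsNil p b)
    {Q : Subgroup G} {f : MonoidAlgebra k G} (hQ : IsPairOf p b (Q, f)) [Fintype C[Q]] :
    IsNil p (restr C[Q] f) := by
  intro S' h' hS t ht hreg
  set S : Subgroup G := S'.map (C[Q]).subtype with hSdef
  have hSC : S ≤ C[Q] := Subgroup.map_subtype_le S'
  have hSp : IsPGroup p S := hS.1.1.map _
  have hRN : Q ⊔ S ≤ N[Q] :=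
    sup_le Subgroup.le_normalizer (hSC.trans (centralizer_le_normalizer Q))
  have hRp : IsPGroup p (Q ⊔ S : Subgroup G) :=
    hQ.1.1.to_sup_of_normal_left' hSp (hSC.trans (centralizer_le_normalizer Q))
  have hmapC : (Subgroup.centralizer (S' : Set C[Q])).map (C[Q]).subtype = C[Q ⊔ S] := by
    rw [map_centralizer_inf, centralizer_sup']
  have hblk : IsBlk k C[Q ⊔ S] (emb C[Q] h') := hmapC ▸ isBlk_emb_sub C[Q] hS.1.2
  have hfix : FixBy (Q ⊔ S) f := fixBy_stab.mono
    (sup_le (le_stab hQ.1) (hSC.trans (centralizer_le_stab hQ.1)))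
  have hstep : NStep p (Q, f) (Q ⊔ S, emb C[Q] h') := by
    refine ⟨hQ.1, ⟨hRp, hblk⟩, le_sup_left, hRN, hfix, ?_⟩
    show br (Q ⊔ S) f * emb C[Q] h' = emb C[Q] h'
    have h2 : br S' (restr C[Q] f) * h' = h' := hS.2
    rw [br_sup_eq_of_supp hQ.1.suppIn, ← emb_restr C[Q] hQ.1.suppIn, hSdef, br_emb_eq, ← map_mul, h2]
  have hR : IsPairOf p b (Q ⊔ S, emb C[Q] h') :=
    (isPairOf_iff_of_ple hb (Relation.ReflTransGen.single hstep) ⟨hRp, hblk⟩).mp hQ
  have htR : (t : G) ∈ stab (Q ⊔ S) (emb C[Q] h') := by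
    refine ⟨?_, by rw [cj_emb, ht.2]⟩
    have hS' : (t : G) ∈ N[S] := (Subgroup.le_normalizer_map _) ⟨t, ht.1, rfl⟩
    rw [Subgroup.mem_normalizer_iff]
    intro x
    have hmap : (Q ⊔ S).map (MulAut.conj (t : G)).toMonoidHom = Q ⊔ S := by
      rw [Subgroup.map_sup, map_conj_eq_self (centralizer_le_normalizer Q t.2),
        map_conj_eq_self hS']
    conv_rhs => rw [← hmap]
    exact (Subgroup.mem_map_iff_mem (MulAut.conj (t : G)).injective (x := x)).symm
  have h1 : (t : G) ∈ C[Q ⊔ S] := hnil _ _ hR _ htR (by rwa [Subgroup.orderOf_coe])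
  rw [← hmapC] at h1
  exact (Subgroup.mem_map_iff_mem (Subgroup.subtype_injective _)).mp h1

/-- The block of `Q C(Q)` on a centric pair is nilpotent. -/
theorem isNil_of_centric {Q : Subgroup G} {f : MonoidAlgebra k G} (hQ : IsPair p (Q, f))
    (hD : IsDefMax p C[Q] f (Q ⊓ C[Q])) {L : Subgroup G} (hL : L = Q ⊔ C[Q]) [Fintype L] :
    IsNil p (restr L f) := by
  have hCL : C[Q] ≤ L := hL ▸ le_sup_right
  intro R' h' hR t _ hreg
  set R : Subgroup G := R'.map L.subtype with hRdef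
  have hRL : R ≤ L := Subgroup.map_subtype_le R'
  have hLN : L ≤ N[Q] := hL ▸ sup_le Subgroup.le_normalizer (centralizer_le_normalizer Q)
  have hRp : IsPGroup p (Q ⊔ R : Subgroup G) :=
    hQ.1.to_sup_of_normal_left' (hR.1.1.map _) (hRL.trans hLN)
  have hne : br (Q ⊔ R) f ≠ 0 := by
    rw [br_sup_eq_of_supp hQ.suppIn, ← emb_restr L (hQ.2.suppIn.mono hCL), br_emb_eq]
    exact fun h0 => hR.br_ne_zero (emb_injective L (h0.trans (map_zero _).symm))
  have heq : Q ⊓ C[Q] = (Q ⊔ R) ⊓ C[Q] :=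
    Subgroup.eq_of_le_of_card_ge (inf_le_inf_right _ le_sup_left)
      (hD.2.2.2 _ (hRp.to_le inf_le_left) inf_le_right fun h0 => hne (by
        rw [← br_br_of_le (inf_le_left (b := C[Q])), h0, map_zero]))
  have hQC : Q ≤ N[C[Q]] := Subgroup.le_normalizer.trans map_normalizer_centralizer
  have hdec : ∀ x : G, x ∈ L → ∃ q ∈ Q, ∃ c ∈ C[Q], q * c = x := by
    intro x hx
    have h1 : x ∈ ((Q ⊔ C[Q] : Subgroup G) : Set G) := hL ▸ hx
    rw [Subgroup.coe_mul_of_left_le_normalizer_right Q C[Q] hQC] at h1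
    obtain ⟨q, hq, c, hc, he⟩ := h1
    exact ⟨q, hq, c, hc, he⟩
  have hRQ : R ≤ Q := by
    intro r hr
    obtain ⟨q, hq, c, hc, rfl⟩ := hdec r (hRL hr)
    have h3 := (Q ⊔ R).mul_mem (Subgroup.mem_sup_left (Q.inv_mem hq)) (Subgroup.mem_sup_right hr)
    rw [inv_mul_cancel_left] at h3
    have h2 : c ∈ (Q ⊔ R) ⊓ C[Q] := ⟨h3, hc⟩
    rw [← heq] at h2
    exact Q.mul_mem hq h2.1
  obtain ⟨q, hq, c, hc, hqc⟩ := hdec t t.2
  obtain ⟨n, hn⟩ := hQ.1 ⟨q, hq⟩
  have hn' : q ^ p ^ n = 1 := congrArg Subtype.val hn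
  have hcomm : Commute q c := Subgroup.mem_centralizer_iff.mp hc q hq
  have htC : (t : G) ∈ C[Q] := mem_of_pow_mem (p := p) (n := n) (by rwa [Subgroup.orderOf_coe]) (by
    rw [← hqc, hcomm.mul_pow, hn', one_mul]
    exact C[Q].pow_mem hc _)
  refine Subgroup.mem_centralizer_iff.mpr fun x hx => Subtype.ext ?_
  exact Subgroup.mem_centralizer_iff.mp htC _ (hRQ ⟨x, hx, rfl⟩)

end CfsgLib.BrauerPairs
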