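import Cfsg.Agent.BrauerPairs.Covering
import Cfsg.Agent.BrauerPairs.FusionBridge

/-!
# Blocks of a group with a normal `p`-subgroup live on its centralizer
-/

namespace CfsgLib.BrauerPairs

open Cfsg CfsgLib.Block CfsgLib.Block.Chr

universe u

variable {G : Type u} [Group G] [Fintype G] {M : Ideal AlgInt} [M.IsPrime] {p : ℕ}
  [hp : Fact p.Prime]

theorem blockCoeff_eq_zero_of_normal (hM : IsPModular p M) {P : Subgroup G} [P.Normal]
    (hP : IsPGroup p P) {B : Set (IrrCharacter G)} (hB : IsPBlock M B) {g : G}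
    (hg : g ∉ Subgroup.centralizer (P : Set G)) : blockCoeff B g = 0 := by
  classical
  haveI := charP_residue hM
  have hN : ∀ x : G, x ∈ Subgroup.normalizer (P : Set G) := fun x => by
    rw [Subgroup.normalizer_eq_top]; exact Subgroup.mem_top x
  have hb := isBlk_idem hM hB
  have hbr := br_eq_self_of_idem hP le_top (fun x _ => hN x) hb.mem hb.idem
  obtain ⟨f, hf⟩ := exists_isPairOf hb hP (by rw [hbr]; exact hb.ne_zero)
  obtain ⟨e, he, hef⟩ := exists_toPair_eq hM hf.1
  have hBe : IsBrauerPairOf p M B P e :=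
    (isBrauerPairOf_iff hM).mpr ⟨he, hB, hef.symm ▸ hf⟩
  rw [blockCoeff_eq_average hM hP hBe
    (T := stab P (idemIn M (Subgroup.centralizer (P : Set G)) e))
    fun x => (mem_stab_idemIn_iff hM he.2).trans (and_iff_right (hN x))]
  refine mul_eq_zero_of_right _ (Finset.sum_eq_zero fun x _ => subgroupBlockCoeff_not_mem e ?_)
  haveI : (Subgroup.centralizer (P : Set G)).Normal := by
    rw [← Subgroup.normalizer_eq_top_iff, eq_top_iff]
    exact fun x _ => map_normalizer_centralizer (hN x)
  intro h
  apply hg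
  have := Subgroup.Normal.conj_mem ‹(Subgroup.centralizer (P : Set G)).Normal› _ h x
  simpa [mul_assoc] using this

end CfsgLib.BrauerPairs
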